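import Mathlib
import Cfsg.Agent.H721.FR.Base
import Cfsg.Agent.H699.FR.Sem_mg_m3
import Cfsg.Agent.H955.FSAmb
import Cfsg.Agent.CharactersDeep.MackeyLinear
import Cfsg.Agent.H967.CopSec
import Cfsg.Agent.H473.SR.Row_mg_m3
import Cfsg.Agent.H597.Base
import Cfsg.Agent.HexModel.Main_m3
import Cfsg.Agent.TriTwo.PFacts_m3
import Cfsg.Agent.S0856
import Cfsg.Agent.S0867
import Cfsg.Agent.S0135
import Cfsg.Agent.CharactersDeep.ExtUnique
import Cfsg.Agent.CharactersDeep.ExtGroup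
import Cfsg.Agent.H955.FSClifford_mg
import Cfsg.Agent.H705.Indicator
import Cfsg.Agent.Blocks.Deflate
import Cfsg.Agent.S0188
import Cfsg.Agent.FastGrp
import Cfsg.Agent.Prune
set_option linter.all false

section
prune_inst 0x7ffceafbaba8a9dfdfff7e3fa694cff831848fffe6dff94bffe069afeb9f23024d412b8509e018fc1ee3621410b87803f97eea3fa26bd87ffffd1ff41ffbec0f8567b50851d4883407340ffe03f0778e6f3fffffffffffffffffffffffffffbeffbdfbbeffff

-- part: H137/FR/Scalar_mg
section
prune_inst 0x100005410000000004000080005c83930000000008000020050006058808200d02a820a82004014800000400350048001000100000000000000000010001800000100081080080000000000000010000000000000000000000000000000000204010000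
set_option linter.all false
open scoped Cfsg.Agent.FastGrp

-- part: H137/FR/Count
section
/-!
# S4970: involutions and 2-groups (helper137)

* `four_dvd_of_three`, `four_dvd_of_four`: the number of solutions of `z² = 1` is divisible by `4`;
* `exists_pair`: then a `2`-group fixes a pair `{z, s z}`.
-/

set_option autoImplicit false

namespace Cfsg.Agent.H137.FR

/-- counting by classes of size four -/
theorem four_dvd_of_classes {X : Type*} [Finite X] (f : X → Set X) (h4 : ∀ x, (f x).ncard = 4)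
    (hself : ∀ x, x ∈ f x) (h : ∀ x, ∀ y ∈ f x, f y = f x) : 4 ∣ Nat.card X := by
  classical
  have := Fintype.ofFinite X
  rw [Nat.card_eq_fintype_card, ← Finset.card_univ, Finset.card_eq_sum_card_image f Finset.univ]
  apply Finset.dvd_sum
  intro s hs
  obtain ⟨x, -, rfl⟩ := Finset.mem_image.1 hs
  have h1 : ((Finset.univ.filter (fun y => f y = f x) : Finset X) : Set X) = f x := by
    ext y
    simp only [Finset.coe_filter, Finset.mem_univ, true_and, Set.mem_ofPred_eq]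
    exact ⟨fun hy => hy ▸ hself y, h x y⟩
  rw [← Set.ncard_coe_finset, h1, h4]

theorem ncard_four {X : Type*} {a b c d : X} (hab : a ≠ b) (hac : a ≠ c) (had : a ≠ d) (hbc : b ≠ c) (hbd : b ≠ d)
    (hcd : c ≠ d) : ({a, b, c, d} : Set X).ncard = 4 := by
  rw [Set.ncard_insert_of_notMem (by simp [hab, hac, had]), Set.ncard_insert_of_notMem (by simp [hbc, hbd]),
    Set.ncard_pair hcd]

/-- a free action of a four-group -/
theorem four_dvd_of_klein {X : Type*} [Finite X] (σ τ : X → X) (hσ : ∀ x, σ (σ x) = x) (hτ : ∀ x, τ (τ x) = x)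
    (hc : ∀ x, σ (τ x) = τ (σ x)) (h1 : ∀ x, σ x ≠ x) (h2 : ∀ x, τ x ≠ x) (h3 : ∀ x, σ (τ x) ≠ x) :
    4 ∣ Nat.card X := by
  refine four_dvd_of_classes (fun x => {x, σ x, τ x, σ (τ x)}) (fun x => ?_) (fun x => Or.inl rfl) (fun x y hy => ?_)
  · refine ncard_four (h1 x).symm (h2 x).symm (h3 x).symm ?_ ?_ (h1 _).symm
    · intro h
      apply h3 x
      rw [← h, hσ]
    · intro h
      apply h2 x
      have := congrArg σ h
      rw [hσ, hσ] at this
      exact this.symm
  · rcases hy with rfl | rfl | rfl | rfl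
    · rfl
    · ext z
      simp only [Set.mem_insert_iff, Set.mem_singleton_iff, hσ, ← hc]
      (clear * -; tauto)
    · ext z
      simp only [Set.mem_insert_iff, Set.mem_singleton_iff, hτ]
      (clear * -; tauto)
    · ext z
      simp only [Set.mem_insert_iff, Set.mem_singleton_iff, hσ, hτ, hc]
      (clear * -; tauto)

/-- a free action of a cyclic group of order four -/
theorem four_dvd_of_cyclic {X : Type*} [Finite X] (ρ : X → X) (h4 : ∀ x, ρ (ρ (ρ (ρ x))) = x)
    (h2 : ∀ x, ρ (ρ x) ≠ x) : 4 ∣ Nat.card X := by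
  have h1 : ∀ x, ρ x ≠ x := fun x h => h2 x (by rw [h, h])
  refine four_dvd_of_classes (fun x => {x, ρ x, ρ (ρ x), ρ (ρ (ρ x))}) (fun x => ?_) (fun x => Or.inl rfl)
    (fun x y hy => ?_)
  · refine ncard_four (h1 x).symm (h2 x).symm ?_ (h1 _).symm (h2 _).symm (h1 _).symm
    intro h
    apply h1 x
    have := congrArg ρ h
    rw [h4] at this
    exact this
  · rcases hy with rfl | rfl | rfl | rfl
    · rfl
    · ext z
      simp only [Set.mem_insert_iff, Set.mem_singleton_iff, h4]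
      (clear * -; tauto)
    · ext z
      simp only [Set.mem_insert_iff, Set.mem_singleton_iff, h4]
      (clear * -; tauto)
    · ext z
      simp only [Set.mem_insert_iff, Set.mem_singleton_iff, h4]
      (clear * -; tauto)

theorem four_dvd_set {A : Type*} {S : Set A} (hS : S.Finite) (σ τ : A → A) (mσ : ∀ x ∈ S, σ x ∈ S)
    (mτ : ∀ x ∈ S, τ x ∈ S) (hσ : ∀ x ∈ S, σ (σ x) = x) (hτ : ∀ x ∈ S, τ (τ x) = x)
    (hc : ∀ x ∈ S, σ (τ x) = τ (σ x)) (h1 : ∀ x ∈ S, σ x ≠ x) (h2 : ∀ x ∈ S, τ x ≠ x)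
    (h3 : ∀ x ∈ S, σ (τ x) ≠ x) : 4 ∣ S.ncard := by
  have : Finite S := hS
  rw [← Nat.card_coe_set_eq]
  exact four_dvd_of_klein (X := S) (fun x => ⟨σ x, mσ x x.2⟩) (fun x => ⟨τ x, mτ x x.2⟩)
    (fun x => Subtype.ext (hσ x x.2)) (fun x => Subtype.ext (hτ x x.2)) (fun x => Subtype.ext (hc x x.2))
    (fun x h => h1 x x.2 (congrArg Subtype.val h)) (fun x h => h2 x x.2 (congrArg Subtype.val h))
    (fun x h => h3 x x.2 (congrArg Subtype.val h))

theorem four_dvd_set' {A : Type*} {S : Set A} (hS : S.Finite) (ρ : A → A) (mρ : ∀ x ∈ S, ρ x ∈ S)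
    (h4 : ∀ x ∈ S, ρ (ρ (ρ (ρ x))) = x) (h2 : ∀ x ∈ S, ρ (ρ x) ≠ x) : 4 ∣ S.ncard := by
  have : Finite S := hS
  rw [← Nat.card_coe_set_eq]
  exact four_dvd_of_cyclic (X := S) (fun x => ⟨ρ x, mρ x x.2⟩)
    (fun x => Subtype.ext (h4 x x.2)) (fun x h => h2 x x.2 (congrArg Subtype.val h))

theorem dvd_split {A : Type*} {S : Set A} (hS : S.Finite) (p : A → Prop) {n : ℕ} (h1 : n ∣ (S ∩ {x | p x}).ncard)
    (h2 : n ∣ (S ∩ {x | ¬ p x}).ncard) : n ∣ S.ncard := by
  have e : S = (S ∩ {x | p x}) ∪ (S ∩ {x | ¬ p x}) := by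
    ext x
    simp only [Set.mem_union, Set.mem_inter_iff, Set.mem_ofPred_eq]
    tauto
  rw [e, Set.ncard_union_eq ?_ (hS.inter_of_left _) (hS.inter_of_left _)]
  · exact dvd_add h1 h2
  · rw [Set.disjoint_left]
    rintro x ⟨-, hx⟩ ⟨-, hx'⟩
    exact hx' hx

section group

variable {A : Type*} [Group A] {C : Subgroup A} {s : A}

/-- Elements of a group with `z² = 1`. -/
def Inv2 (C : Subgroup A) : Set A := {z | z ∈ C ∧ z * z = 1}

theorem mul_free (hC : (C : Set A).Finite) (hss : s * s = 1) (hs1 : s ≠ 1) (hsc : ∀ x ∈ C, x * s = s * x)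
    {a : A} (ha : a ∈ C) (haa : a * a = 1) (ha1 : a ≠ 1) (has : a ≠ s) (S : Set A) (hS : S ⊆ Inv2 C)
    (hmul : ∀ z ∈ S, z * a ∈ S) (hmuls : ∀ z ∈ S, z * s ∈ S) : 4 ∣ S.ncard := by
  have hsa : a * s = s * a := hsc a ha
  refine four_dvd_set (hC.subset fun x hx => (hS hx).1) (fun z => z * a) (fun z => z * s) hmul hmuls ?_ ?_ ?_ ?_ ?_ ?_
  · intro x _; show x * a * a = x; rw [mul_assoc, haa, mul_one]
  · intro x _; show x * s * s = x; rw [mul_assoc, hss, mul_one]
  · intro x _; show x * s * a = x * a * s; rw [mul_assoc, mul_assoc, hsa]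
  · intro x _ h
    exact ha1 (mul_eq_left.1 h)
  · intro x _ h
    exact hs1 (mul_eq_left.1 h)
  · intro x _ h
    have h' : x * s * a = x := h
    rw [mul_assoc] at h'
    have h1 : s * a = 1 := mul_eq_left.1 h'
    apply has
    calc a = s * s * a := by rw [hss, one_mul]
      _ = s * (s * a) := by rw [mul_assoc]
      _ = s := by rw [h1, mul_one]

/-- Three commuting involutions `s, a, b` (`s` central). -/
theorem four_dvd_of_three (hC : (C : Set A).Finite) (hsC : s ∈ C) (hss : s * s = 1) (hs1 : s ≠ 1)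
    (hsc : ∀ x ∈ C, x * s = s * x) {a b : A} (ha : a ∈ C) (haa : a * a = 1) (ha1 : a ≠ 1) (has : a ≠ s)
    (hb : b ∈ C) (hbb : b * b = 1) (hb1 : b ≠ 1) (hbs : b ≠ s) (hab : a * b = b * a) (hab1 : a * b ≠ 1)
    (habs : a * b ≠ s) : 4 ∣ (Inv2 C).ncard := by
  have hfin : (Inv2 C).Finite := hC.subset fun x hx => hx.1
  have mulmem : ∀ {z a : A}, z ∈ Inv2 C → a ∈ C → a * a = 1 → z * a = a * z → z * a ∈ Inv2 C := by
    intro z a hz ha haa h
    refine ⟨C.mul_mem hz.1 ha, ?_⟩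
    calc z * a * (z * a) = z * (a * z) * a := by group
      _ = z * (z * a) * a := by rw [h]
      _ = (z * z) * (a * a) := by group
      _ = 1 := by rw [hz.2, haa, one_mul]
  refine dvd_split hfin (fun z => z * a = a * z) ?_ ?_
  · refine mul_free hC hss hs1 hsc ha haa ha1 has _ (fun z hz => hz.1) ?_ ?_
    · rintro z ⟨hz, hza⟩
      refine ⟨mulmem hz ha haa hza, ?_⟩
      show z * a * a = a * (z * a)
      have hza' : z * a = a * z := hza
      rw [← mul_assoc, ← hza']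
    · rintro z ⟨hz, hza⟩
      refine ⟨mulmem hz hsC hss (hsc z hz.1), ?_⟩
      show z * s * a = a * (z * s)
      have hza' : z * a = a * z := hza
      rw [mul_assoc, ← hsc a ha, ← mul_assoc, hza', mul_assoc]
  refine dvd_split (hfin.inter_of_left _) (fun z => z * b = b * z) ?_ ?_
  · refine mul_free hC hss hs1 hsc hb hbb hb1 hbs _ (fun z hz => hz.1.1) ?_ ?_
    · rintro z ⟨⟨hz, hza⟩, hzb⟩
      have hzb' : z * b = b * z := hzb
      refine ⟨⟨mulmem hz hb hbb hzb, ?_⟩, ?_⟩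
      · show ¬ z * b * a = a * (z * b)
        intro h
        apply hza
        show z * a = a * z
        rw [mul_assoc, ← hab, ← mul_assoc, ← mul_assoc] at h
        exact mul_right_cancel h
      · show z * b * b = b * (z * b)
        rw [← mul_assoc, ← hzb']
    · rintro z ⟨⟨hz, hza⟩, hzb⟩
      have hzb' : z * b = b * z := hzb
      refine ⟨⟨mulmem hz hsC hss (hsc z hz.1), ?_⟩, ?_⟩
      · show ¬ z * s * a = a * (z * s)
        intro h
        apply hza
        show z * a = a * z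
        rw [mul_assoc, ← hsc a ha, ← mul_assoc, ← mul_assoc] at h
        exact mul_right_cancel h
      · show z * s * b = b * (z * s)
        rw [mul_assoc, ← hsc b hb, ← mul_assoc, hzb', mul_assoc]
  refine dvd_split ((hfin.inter_of_left _).inter_of_left _) (fun z => z * (a * b) = (a * b) * z) ?_ ?_
  · refine mul_free hC hss hs1 hsc (C.mul_mem ha hb) ?_ hab1 habs _ (fun z hz => hz.1.1.1) ?_ ?_
    · calc a * b * (a * b) = a * (b * a) * b := by group
        _ = a * (a * b) * b := by rw [hab]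
        _ = (a * a) * (b * b) := by group
        _ = 1 := by rw [haa, hbb, one_mul]
    · rintro z ⟨⟨⟨hz, hza⟩, hzb⟩, hzc⟩
      have hzc' : z * (a * b) = a * b * z := hzc
      have e1 : a * b * (a * b) = 1 := by
        calc a * b * (a * b) = a * (b * a) * b := by group
          _ = a * (a * b) * b := by rw [hab]
          _ = (a * a) * (b * b) := by group
          _ = 1 := by rw [haa, hbb, one_mul]
      refine ⟨⟨⟨mulmem hz (C.mul_mem ha hb) e1 hzc, ?_⟩, ?_⟩, ?_⟩
      · show ¬ z * (a * b) * a = a * (z * (a * b))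
        intro h
        apply hza
        show z * a = a * z
        have h1 : z * (a * b) * a = z * a * (a * b) := by
          calc z * (a * b) * a = z * a * (b * a) := by group
            _ = z * a * (a * b) := by rw [hab]
        rw [h1, ← mul_assoc a] at h
        exact mul_right_cancel h
      · show ¬ z * (a * b) * b = b * (z * (a * b))
        intro h
        apply hzb
        show z * b = b * z
        have h1 : z * (a * b) * b = z * b * (a * b) := by
          calc z * (a * b) * b = z * (a * b) * b := rfl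
            _ = z * (b * a) * b := by rw [hab]
            _ = z * b * (a * b) := by group
        rw [h1, ← mul_assoc b] at h
        exact mul_right_cancel h
      · show z * (a * b) * (a * b) = a * b * (z * (a * b))
        rw [← mul_assoc (a * b), ← hzc']
    · rintro z ⟨⟨⟨hz, hza⟩, hzb⟩, hzc⟩
      have hzc' : z * (a * b) = a * b * z := hzc
      refine ⟨⟨⟨mulmem hz hsC hss (hsc z hz.1), ?_⟩, ?_⟩, ?_⟩
      · show ¬ z * s * a = a * (z * s)
        intro h
        apply hza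
        show z * a = a * z
        rw [mul_assoc, ← hsc a ha, ← mul_assoc, ← mul_assoc] at h
        exact mul_right_cancel h
      · show ¬ z * s * b = b * (z * s)
        intro h
        apply hzb
        show z * b = b * z
        rw [mul_assoc, ← hsc b hb, ← mul_assoc, ← mul_assoc] at h
        exact mul_right_cancel h
      · show z * s * (a * b) = a * b * (z * s)
        rw [mul_assoc, ← hsc _ (C.mul_mem ha hb), ← mul_assoc, hzc', mul_assoc]
  · have hai : a⁻¹ = a := inv_eq_of_mul_eq_one_left haa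
    have hbi : b⁻¹ = b := inv_eq_of_mul_eq_one_left hbb
    refine four_dvd_set (((hfin.inter_of_left _).inter_of_left _).inter_of_left _) (fun z => a * z * a) (fun z => b * z * b)
      ?_ ?_ ?_ ?_ ?_ ?_ ?_ ?_
    · rintro z ⟨⟨⟨hz, hza⟩, hzb⟩, hzc⟩
      refine ⟨⟨⟨⟨C.mul_mem (C.mul_mem ha hz.1) ha, ?_⟩, ?_⟩, ?_⟩, ?_⟩
      · calc a * z * a * (a * z * a) = a * z * (a * a) * z * a := by group
          _ = a * (z * z) * a := by rw [haa]; group
          _ = 1 := by rw [hz.2, mul_one, haa]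
      · show ¬ a * z * a * a = a * (a * z * a)
        intro h
        apply hza
        show z * a = a * z
        have h1 : a * z * a * a = a * z := by rw [mul_assoc, haa, mul_one]
        have h2 : a * (a * z * a) = z * a := by rw [← mul_assoc, ← mul_assoc, haa, one_mul]
        rw [h1, h2] at h
        exact h.symm
      · show ¬ a * z * a * b = b * (a * z * a)
        intro h
        apply hzb
        show z * b = b * z
        have h1 : a * z * a * b = a * (z * b) * a := by rw [mul_assoc _ a b, hab]; group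
        have h2 : b * (a * z * a) = a * (b * z) * a := by
          calc b * (a * z * a) = b * a * z * a := by group
            _ = a * b * z * a := by rw [hab]
            _ = _ := by group
        rw [h1, h2] at h
        exact mul_left_cancel (mul_right_cancel h)
      · show ¬ a * z * a * (a * b) = a * b * (a * z * a)
        intro h
        apply hzc
        show z * (a * b) = a * b * z
        have h1 : a * z * a * (a * b) = a * (z * (a * b)) * a := by
          calc a * z * a * (a * b) = a * z * a * (b * a) := by rw [hab]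
            _ = _ := by group
        have h2 : a * b * (a * z * a) = a * (a * b * z) * a := by
          calc a * b * (a * z * a) = a * (b * a) * z * a := by group
            _ = a * (a * b) * z * a := by rw [hab]
            _ = _ := by group
        rw [h1, h2] at h
        exact mul_left_cancel (mul_right_cancel h)
    · rintro z ⟨⟨⟨hz, hza⟩, hzb⟩, hzc⟩
      refine ⟨⟨⟨⟨C.mul_mem (C.mul_mem hb hz.1) hb, ?_⟩, ?_⟩, ?_⟩, ?_⟩
      · calc b * z * b * (b * z * b) = b * z * (b * b) * z * b := by group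
          _ = b * (z * z) * b := by rw [hbb]; group
          _ = 1 := by rw [hz.2, mul_one, hbb]
      · show ¬ b * z * b * a = a * (b * z * b)
        intro h
        apply hza
        show z * a = a * z
        have h1 : b * z * b * a = b * (z * a) * b := by rw [mul_assoc _ b a, ← hab]; group
        have h2 : a * (b * z * b) = b * (a * z) * b := by
          calc a * (b * z * b) = a * b * z * b := by group
            _ = b * a * z * b := by rw [hab]
            _ = _ := by group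
        rw [h1, h2] at h
        exact mul_left_cancel (mul_right_cancel h)
      · show ¬ b * z * b * b = b * (b * z * b)
        intro h
        apply hzb
        show z * b = b * z
        have h1 : b * z * b * b = b * z := by rw [mul_assoc, hbb, mul_one]
        have h2 : b * (b * z * b) = z * b := by rw [← mul_assoc, ← mul_assoc, hbb, one_mul]
        rw [h1, h2] at h
        exact h.symm
      · show ¬ b * z * b * (a * b) = a * b * (b * z * b)
        intro h
        apply hzc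
        show z * (a * b) = a * b * z
        have h1 : b * z * b * (a * b) = b * (z * (a * b)) * b := by
          calc b * z * b * (a * b) = b * z * (b * a) * b := by group
            _ = b * z * (a * b) * b := by rw [hab]
            _ = _ := by group
        have h2 : a * b * (b * z * b) = b * (a * b * z) * b := by
          calc a * b * (b * z * b) = b * a * b * z * b := by rw [hab]; group
            _ = _ := by group
        rw [h1, h2] at h
        exact mul_left_cancel (mul_right_cancel h)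
    · rintro z -
      show a * (a * z * a) * a = z
      calc a * (a * z * a) * a = (a * a) * z * (a * a) := by group
        _ = z := by rw [haa, one_mul, mul_one]
    · rintro z -
      show b * (b * z * b) * b = z
      calc b * (b * z * b) * b = (b * b) * z * (b * b) := by group
        _ = z := by rw [hbb, one_mul, mul_one]
    · rintro z -
      show a * (b * z * b) * a = b * (a * z * a) * b
      calc a * (b * z * b) * a = (a * b) * z * (b * a) := by group
        _ = (b * a) * z * (a * b) := by rw [hab]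
        _ = _ := by group
    · rintro z ⟨⟨⟨hz, hza⟩, hzb⟩, hzc⟩ h
      apply hza
      show z * a = a * z
      have h' : a * z * a = z := h
      calc z * a = a * z * a * a := by rw [h']
        _ = a * z := by rw [mul_assoc, haa, mul_one]
    · rintro z ⟨⟨⟨hz, hza⟩, hzb⟩, hzc⟩ h
      apply hzb
      show z * b = b * z
      have h' : b * z * b = z := h
      calc z * b = b * z * b * b := by rw [h']
        _ = b * z := by rw [mul_assoc, hbb, mul_one]
    · rintro z ⟨⟨⟨hz, hza⟩, hzb⟩, hzc⟩ h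
      apply hzc
      show z * (a * b) = a * b * z
      have h' : a * (b * z * b) * a = z := h
      calc z * (a * b) = a * (b * z * b) * a * (a * b) := by rw [h']
        _ = a * b * z * b * (a * a) * b := by group
        _ = a * b * z * (b * b) := by rw [haa]; group
        _ = a * b * z := by rw [hbb, mul_one]

/-- A central element of order four and a noncentral involution. -/
theorem four_dvd_of_four (hC : (C : Set A).Finite) (hsC : s ∈ C) (hss : s * s = 1) (hs1 : s ≠ 1)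
    (hsc : ∀ x ∈ C, x * s = s * x) {j e : A} (hj : j ∈ C) (hjj : j * j = s) (hjc : ∀ x ∈ C, x * j = j * x)
    (he : e ∈ C) (hee : e * e = 1) (he1 : e ≠ 1) (hes : e ≠ s) : 4 ∣ (Inv2 C).ncard := by
  have hfin : (Inv2 C).Finite := hC.subset fun x hx => hx.1
  have hse : e * s = s * e := hsc e he
  have mulmem : ∀ {z a : A}, z ∈ Inv2 C → a ∈ C → a * a = 1 → z * a = a * z → z * a ∈ Inv2 C := by
    intro z a hz ha haa h
    refine ⟨C.mul_mem hz.1 ha, ?_⟩
    calc z * a * (z * a) = z * (a * z) * a := by group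
      _ = z * (z * a) * a := by rw [h]
      _ = (z * z) * (a * a) := by group
      _ = 1 := by rw [hz.2, haa, one_mul]
  refine dvd_split hfin (fun z => z * e = e * z) ?_ ?_
  · refine mul_free hC hss hs1 hsc he hee he1 hes _ (fun z hz => hz.1) ?_ ?_
    · rintro z ⟨hz, hza⟩
      refine ⟨mulmem hz he hee hza, ?_⟩
      show z * e * e = e * (z * e)
      have hza' : z * e = e * z := hza
      rw [← mul_assoc, ← hza']
    · rintro z ⟨hz, hza⟩
      refine ⟨mulmem hz hsC hss (hsc z hz.1), ?_⟩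
      show z * s * e = e * (z * s)
      have hza' : z * e = e * z := hza
      rw [mul_assoc, ← hse, ← mul_assoc, hza', mul_assoc]
  refine dvd_split (hfin.inter_of_left _) (fun z => z * e = s * (e * z)) ?_ ?_
  · refine four_dvd_set' ((hfin.inter_of_left _).inter_of_left _) (fun z => j * e * z) ?_ ?_ ?_
    · rintro z ⟨⟨hz, hz1⟩, hz2⟩
      have hz2' : z * e = s * (e * z) := hz2
      have hje : e * j = j * e := hjc e he
      have hzj : z * j = j * z := hjc z hz.1
      refine ⟨⟨⟨C.mul_mem (C.mul_mem hj he) hz.1, ?_⟩, ?_⟩, ?_⟩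
      · calc j * e * z * (j * e * z) = j * e * (z * j) * e * z := by group
          _ = j * (e * j) * (z * e) * z := by rw [hzj]; group
          _ = j * (j * e) * (s * (e * z)) * z := by rw [hje, hz2']
          _ = (j * j) * (e * s) * e * (z * z) := by group
          _ = s * (s * e) * e * (z * z) := by rw [hjj, hse]
          _ = (s * s) * (e * e) * (z * z) := by group
          _ = 1 := by rw [hss, hee, hz.2]; group
      · show ¬ j * e * z * e = e * (j * e * z)
        intro h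
        apply hz1
        show z * e = e * z
        have h1 : e * (j * e * z) = j * e * (e * z) := by
          calc e * (j * e * z) = (e * j) * e * z := by group
            _ = _ := by rw [hje]; group
        rw [h1, mul_assoc (j * e)] at h
        exact mul_left_cancel h
      · show j * e * z * e = s * (e * (j * e * z))
        calc j * e * z * e = j * e * (z * e) := by group
          _ = j * e * (s * (e * z)) := by rw [hz2']
          _ = j * (e * s) * e * z := by group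
          _ = (j * s) * e * e * z := by rw [hse]; group
          _ = s * (j * e) * (e * z) := by rw [hsc j hj]; group
          _ = s * (e * j) * (e * z) := by rw [hje]
          _ = _ := by group
    · rintro z ⟨⟨hz, hz1⟩, hz2⟩
      have hje : e * j = j * e := hjc e he
      have hq : ∀ y : A, j * e * (j * e * y) = s * y := by
        intro y
        calc j * e * (j * e * y) = j * (e * j) * e * y := by group
          _ = (j * j) * (e * e) * y := by rw [hje]; group
          _ = s * y := by rw [hjj, hee, mul_one]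
      show j * e * (j * e * (j * e * (j * e * z))) = z
      rw [hq, hq, ← mul_assoc, hss, one_mul]
    · rintro z ⟨⟨hz, hz1⟩, hz2⟩ h
      have hje : e * j = j * e := hjc e he
      have hq : j * e * (j * e * z) = s * z := by
        calc j * e * (j * e * z) = j * (e * j) * e * z := by group
          _ = (j * j) * (e * e) * z := by rw [hje]; group
          _ = s * z := by rw [hjj, hee, mul_one]
      have h' : j * e * (j * e * z) = z := h
      rw [hq] at h'
      exact hs1 (mul_eq_right.1 h')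
  · refine four_dvd_set ((hfin.inter_of_left _).inter_of_left _) (fun z => e * z * e) (fun z => s * z) ?_ ?_ ?_ ?_ ?_ ?_ ?_ ?_
    · rintro z ⟨⟨hz, hz1⟩, hz2⟩
      refine ⟨⟨⟨C.mul_mem (C.mul_mem he hz.1) he, ?_⟩, ?_⟩, ?_⟩
      · calc e * z * e * (e * z * e) = e * z * (e * e) * z * e := by group
          _ = e * (z * z) * e := by rw [hee]; group
          _ = 1 := by rw [hz.2, mul_one, hee]
      · show ¬ e * z * e * e = e * (e * z * e)
        intro h
        apply hz1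
        show z * e = e * z
        have h1 : e * z * e * e = e * z := by rw [mul_assoc, hee, mul_one]
        have h2 : e * (e * z * e) = z * e := by rw [← mul_assoc, ← mul_assoc, hee, one_mul]
        rw [h1, h2] at h
        exact h.symm
      · show ¬ e * z * e * e = s * (e * (e * z * e))
        intro h
        apply hz2
        show z * e = s * (e * z)
        have h1 : e * z * e * e = e * z := by rw [mul_assoc, hee, mul_one]
        have h2 : e * (e * z * e) = z * e := by rw [← mul_assoc, ← mul_assoc, hee, one_mul]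
        rw [h1, h2] at h
        rw [h, ← mul_assoc, hss, one_mul]
    · rintro z ⟨⟨hz, hz1⟩, hz2⟩
      have hzs : z * s = s * z := hsc z hz.1
      refine ⟨⟨⟨C.mul_mem hsC hz.1, ?_⟩, ?_⟩, ?_⟩
      · calc s * z * (s * z) = s * (z * s) * z := by group
          _ = (s * s) * (z * z) := by rw [hzs]; group
          _ = 1 := by rw [hss, hz.2, one_mul]
      · show ¬ s * z * e = e * (s * z)
        intro h
        apply hz1
        show z * e = e * z
        have h1 : e * (s * z) = s * (e * z) := by rw [← mul_assoc, hse, mul_assoc]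
        rw [h1, mul_assoc] at h
        exact mul_left_cancel h
      · show ¬ s * z * e = s * (e * (s * z))
        intro h
        apply hz2
        show z * e = s * (e * z)
        have h1 : e * (s * z) = s * (e * z) := by rw [← mul_assoc, hse, mul_assoc]
        rw [h1, mul_assoc] at h
        exact mul_left_cancel h
    · rintro z -
      show e * (e * z * e) * e = z
      calc e * (e * z * e) * e = (e * e) * z * (e * e) := by group
        _ = z := by rw [hee, one_mul, mul_one]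
    · rintro z -
      show s * (s * z) = z
      rw [← mul_assoc, hss, one_mul]
    · rintro z -
      show e * (s * z) * e = s * (e * z * e)
      calc e * (s * z) * e = (e * s) * z * e := by group
        _ = (s * e) * z * e := by rw [hse]
        _ = _ := by group
    · rintro z ⟨⟨hz, hz1⟩, hz2⟩ h
      apply hz1
      show z * e = e * z
      have h' : e * z * e = z := h
      calc z * e = e * z * e * e := by rw [h']
        _ = e * z := by rw [mul_assoc, hee, mul_one]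
    · rintro z - h
      exact hs1 (mul_eq_right.1 h)
    · rintro z ⟨⟨hz, hz1⟩, hz2⟩ h
      apply hz2
      show z * e = s * (e * z)
      have h' : e * (s * z) * e = z := h
      calc z * e = e * (s * z) * e * e := by rw [h']
        _ = (e * s) * z := by rw [mul_assoc _ e e, hee]; group
        _ = s * (e * z) := by rw [hse, mul_assoc]

/-- A `2`-group acting on a set of size `2 mod 4` by conjugation, with a free multiplication by `s`. -/
theorem exists_pair (hss : s * s = 1) (hs1 : s ≠ 1) (hsc : ∀ x : A, x * s = s * x) {P : Subgroup A} [Finite P]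
    (hP : IsPGroup 2 P) {I : Set A} (hI : I.Finite) (h4 : 4 ∣ I.ncard) (h1 : 1 ∈ I) (hsI : s ∈ I)
    (hmul : ∀ z ∈ I, s * z ∈ I) (hconj : ∀ g ∈ P, ∀ z ∈ I, g * z * g⁻¹ ∈ I) :
    ∃ z ∈ I, z ≠ 1 ∧ z ≠ s ∧ ∀ g ∈ P, g * z * g⁻¹ = z ∨ g * z * g⁻¹ = s * z := by
  classical
  have hI2 : (I \ {1, s}).ncard + 2 = I.ncard := by
    have h2 : ({1, s} : Set A).ncard = 2 := Set.ncard_pair (Ne.symm hs1)
    rw [← h2]
    refine Set.ncard_sdiff_add_ncard_of_subset ?_ hI
    rintro x (rfl | rfl)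
    · exact h1
    · exact hsI
  have hsi : s⁻¹ = s := inv_eq_of_mul_eq_one_left hss
  have hz2 : ∀ u ∈ Subgroup.zpowers s, u = 1 ∨ u = s := by
    intro u hu
    obtain ⟨n, rfl⟩ := Subgroup.mem_zpowers_iff.1 hu
    rcases Int.even_or_odd' n with ⟨k, rfl | rfl⟩
    · left
      rw [zpow_mul, zpow_two, hss, one_zpow]
    · right
      rw [zpow_add, zpow_mul, zpow_two, hss, one_zpow, one_mul, zpow_one]
  have key : ∀ g ∈ P, ∀ u ∈ Subgroup.zpowers s, ∀ z ∈ I \ {1, s}, g * z * g⁻¹ * u ∈ I \ {1, s} := by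
    have k1 : ∀ g ∈ P, ∀ z ∈ I \ {1, s}, g * z * g⁻¹ ∈ I \ {1, s} := by
      rintro g hg z ⟨hz, hz'⟩
      refine ⟨hconj g hg z hz, ?_⟩
      rintro (h | h)
      · apply hz'
        left
        rw [mul_inv_eq_one] at h
        exact mul_eq_left.1 h
      · apply hz'
        right
        have h2 : g * z * g⁻¹ = s := h
        rw [mul_inv_eq_iff_eq_mul, ← hsc] at h2
        exact mul_left_cancel h2
    have k2 : ∀ z ∈ I \ {1, s}, z * s ∈ I \ {1, s} := by
      rintro z ⟨hz, hz'⟩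
      rw [hsc]
      refine ⟨hmul z hz, ?_⟩
      rintro (h | h)
      · apply hz'
        right
        have h2 : s * z = 1 := h
        rw [← hsi]
        exact (inv_eq_of_mul_eq_one_right h2).symm
      · apply hz'
        left
        exact mul_eq_left.1 h
    intro g hg u hu z hz
    rcases hz2 u hu with rfl | rfl
    · rw [mul_one]; exact k1 g hg z hz
    · exact k2 _ (k1 g hg z hz)
  let X := ↥(I \ {1, s})
  have hX : Finite X := hI.subset (fun x hx => hx.1)
  let act : MulAction (P × Subgroup.zpowers s) X :=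
    { smul := fun h z => ⟨(h.1 : A) * z * (h.1 : A)⁻¹ * h.2, key _ h.1.2 _ h.2.2 _ z.2⟩
      one_smul := fun z => by
        apply Subtype.ext
        show (1 : A) * z * (1 : A)⁻¹ * 1 = z
        group
      mul_smul := fun h k z => by
        apply Subtype.ext
        show ((h.1 : A) * k.1) * z * ((h.1 : A) * k.1)⁻¹ * ((h.2 : A) * k.2) =
          (h.1 : A) * ((k.1 : A) * z * (k.1 : A)⁻¹ * k.2) * (h.1 : A)⁻¹ * h.2
        have hk : ∀ x : A, x * (k.2 : A) = k.2 * x := by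
          intro x
          rcases hz2 _ k.2.2 with h5 | h5
          · rw [h5, mul_one, one_mul]
          · rw [h5, hsc]
        calc ((h.1 : A) * k.1) * z * ((h.1 : A) * k.1)⁻¹ * ((h.2 : A) * k.2)
            = (h.1 : A) * k.1 * z * (k.1 : A)⁻¹ * (((h.1 : A)⁻¹ * h.2) * k.2) := by group
          _ = (h.1 : A) * k.1 * z * (k.1 : A)⁻¹ * (k.2 * ((h.1 : A)⁻¹ * h.2)) := by rw [hk]
          _ = _ := by group }
  have ho : orderOf s = 2 := orderOf_eq_prime (by rw [pow_two, hss]) hs1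
  have hfs : Finite (Subgroup.zpowers s) := by
    apply Nat.finite_of_card_ne_zero
    rw [Nat.card_zpowers, ho]
    norm_num
  have hPG : IsPGroup 2 (P × Subgroup.zpowers s) := by
    have : Fact (Nat.Prime 2) := ⟨Nat.prime_two⟩
    obtain ⟨n, hn⟩ := IsPGroup.iff_card.1 hP
    apply IsPGroup.of_card (n := n + 1)
    rw [Nat.card_prod, hn, Nat.card_zpowers, ho, pow_succ]
  have hcX : Nat.card X + 2 = I.ncard := by
    rw [← hI2, ← Nat.card_coe_set_eq]
  -- an orbit of size not divisible by four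
  obtain ⟨z, hz⟩ : ∃ z : X, ¬ 4 ∣ Nat.card (MulAction.orbit (P × Subgroup.zpowers s) z) := by
    by_contra hcon
    push Not at hcon
    have h5 : 4 ∣ Nat.card X := by
      have := Fintype.ofFinite (MulAction.orbitRel.Quotient (P × Subgroup.zpowers s) X)
      rw [Nat.card_congr (MulAction.selfEquivSigmaOrbits (P × Subgroup.zpowers s) X), Nat.card_sigma]
      exact Finset.dvd_sum fun ω _ => hcon _
    omega
  have : Fact (Nat.Prime 2) := ⟨Nat.prime_two⟩
  obtain ⟨n, hn⟩ := hPG.card_orbit z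
  have hn1 : Nat.card (MulAction.orbit (P × Subgroup.zpowers s) z) ≤ 2 := by
    rw [hn] at hz ⊢
    have : n ≤ 1 := by
      by_contra h
      exact hz (pow_dvd_pow 2 (by omega : 2 ≤ n))
    calc 2 ^ n ≤ 2 ^ 1 := Nat.pow_le_pow_right (by norm_num) this
      _ = 2 := by norm_num
  refine ⟨z, z.2.1, fun h => z.2.2 (Or.inl h), fun h => z.2.2 (Or.inr h), fun g hg => ?_⟩
  by_contra hcon
  push Not at hcon
  let y1 : X := ((1 : P), (⟨s, Subgroup.mem_zpowers s⟩ : Subgroup.zpowers s)) • z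
  let y2 : X := ((⟨g, hg⟩ : P), (1 : Subgroup.zpowers s)) • z
  have e1 : (y1 : A) = s * z := by
    show (1 : A) * z * (1 : A)⁻¹ * s = s * z
    rw [← hsc]
    group
  have e2 : (y2 : A) = g * z * g⁻¹ := by
    show g * z * g⁻¹ * 1 = _
    rw [mul_one]
  have m1 : y1 ∈ MulAction.orbit (P × Subgroup.zpowers s) z := MulAction.mem_orbit _ _
  have m2 : y2 ∈ MulAction.orbit (P × Subgroup.zpowers s) z := MulAction.mem_orbit _ _
  have m0 : z ∈ MulAction.orbit (P × Subgroup.zpowers s) z := MulAction.mem_orbit_self _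
  have h3 : ({z, y1, y2} : Set X).ncard = 3 := by
    rw [Set.ncard_insert_of_notMem, Set.ncard_pair]
    · intro h
      apply hcon.2
      rw [← e2, ← e1, h]
    · rintro (h | h)
      · have h' := congrArg Subtype.val h
        rw [e1] at h'
        exact hs1 (mul_eq_right.1 h'.symm)
      · have h' := congrArg Subtype.val h
        rw [e2] at h'
        exact hcon.1 h'.symm
  have h4 : ({z, y1, y2} : Set X).ncard ≤ (MulAction.orbit (P × Subgroup.zpowers s) z).ncard := by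
    refine Set.ncard_le_ncard ?_ (Set.toFinite _)
    rintro x (rfl | rfl | rfl)
    · exact m0
    · exact m1
    · exact m2
  rw [Nat.card_coe_set_eq] at hn1
  omega

end group

end Cfsg.Agent.H137.FR
end

-- part: H137/FR/Red
section
/-!
# S4970, FR-SEM2 (helper137): reducibility without counting subspaces

`CC B c` is the centralizer of `c` in `Isom B`.

* `red_of_four_dvd`: `4 ∣ |{z ∈ CC B c : z² = 1}|` implies `Red B (closure {c} ⊔ P)` for the `2`-groups `P`;
* `red_of_three`: this is so if `V` is an orthogonal sum of three `c`-invariant nondegenerate subspaces;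
* `red_of_two`: or of two such subspaces, and there is a central element of `CC B c` with square `-1`;
* `red_of_scalar`: the case `c + c⁻¹ = τ`.
-/

set_option autoImplicit false

universe u

namespace Cfsg.Agent.H137.FR

open Cfsg Cfsg.Agent.H721.FR Cfsg.Agent.H721.SR Module

variable {F V : Type u} [Field F] [AddCommGroup V] [Module F V]

/-- the centralizer of `c` in the isometry group -/
def CC (B : V →ₗ[F] V →ₗ[F] F) (c : V ≃ₗ[F] V) : Subgroup (V ≃ₗ[F] V) := Isom B ⊓ Subgroup.centralizer {c}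

theorem mem_CC {B : V →ₗ[F] V →ₗ[F] F} {c z : V ≃ₗ[F] V} : z ∈ CC B c ↔ z ∈ Isom B ∧ z * c = c * z := by
  rw [CC, Subgroup.mem_inf, Subgroup.mem_centralizer_singleton_iff]

/-- `-1` -/
def sg (F V : Type u) [Field F] [AddCommGroup V] [Module F V] : V ≃ₗ[F] V := LinearEquiv.neg F

@[simp] theorem sg_apply (x : V) : sg F V x = -x := rfl

theorem sg_mul_sg : sg F V * sg F V = 1 := by
  ext x
  show - -x = x
  rw [neg_neg]

theorem sg_comm (g : V ≃ₗ[F] V) : g * sg F V = sg F V * g := by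
  ext x
  show g (-x) = -(g x)
  rw [map_neg]

theorem sg_mem (B : V →ₗ[F] V →ₗ[F] F) : sg F V ∈ Isom B := by
  intro x y
  show B (-x) (-y) = B x y
  rw [map_neg, map_neg, LinearMap.neg_apply, neg_neg]

theorem eq_zero_of_neg (h2 : (2 : F) ≠ 0) {x : V} (h : -x = x) : x = 0 := by
  have h1 : (2 : F) • x = 0 := by
    rw [two_smul]
    nth_rewrite 1 [← h]
    exact neg_add_cancel x
  exact (smul_eq_zero.1 h1).resolve_left h2

theorem symm_zero {B : V →ₗ[F] V →ₗ[F] F} {ε : F} (hF : Fm B ε) {x y : V} (h : B x y = 0) : B y x = 0 := by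
  rw [hF.symm, h, mul_zero]

theorem isRefl {B : V →ₗ[F] V →ₗ[F] F} {ε : F} (hF : Fm B ε) : LinearMap.IsRefl B := fun _ _ h => symm_zero hF h

theorem isCompl_perp [FiniteDimensional F V] {B : V →ₗ[F] V →ₗ[F] F} {ε : F} (hF : Fm B ε) {U : Submodule F V}
    (hU : NdOn B U) : IsCompl U (perp B U) := by
  have h1 : Disjoint U (perp B U) := by
    rw [Submodule.disjoint_def]
    intro x hx hx'
    exact hU x hx fun y hy => symm_zero hF (hx' y hy)
  have h2 := (LinearMap.BilinForm.isCompl_orthogonal_iff_disjoint (B := B) (W := U) (isRefl hF)).2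
  have h3 : LinearMap.BilinForm.orthogonal B U = perp B U := rfl
  rw [h3] at h2
  exact h2 h1

theorem ndOn_perp [FiniteDimensional F V] {B : V →ₗ[F] V →ₗ[F] F} {ε : F} (hF : Fm B ε) {U : Submodule F V}
    (hU : NdOn B U) : NdOn B (perp B U) := by
  intro x hx h
  apply hF.nondeg
  intro y
  obtain ⟨u, hu, w, hw, rfl⟩ := Submodule.mem_sup.1
    (show y ∈ U ⊔ perp B U by rw [(isCompl_perp hF hU).sup_eq_top]; exact Submodule.mem_top)
  rw [map_add, h w hw, add_zero]
  exact symm_zero hF (hx u hu)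

/-- an isometry with `g U ≤ U` preserves the orthogonal complement -/
theorem perp_inv [FiniteDimensional F V] {B : V →ₗ[F] V →ₗ[F] F} {U : Submodule F V} {g : V ≃ₗ[F] V}
    (hg : g ∈ Isom B) (hU : ∀ x ∈ U, g x ∈ U) : ∀ x ∈ perp B U, g x ∈ perp B U := by
  intro x hx y hy
  have h1 : U.map (g : V →ₗ[F] V) = U := by
    apply Submodule.eq_of_le_of_finrank_eq
    · rintro _ ⟨z, hz, rfl⟩
      exact hU z hz
    · exact LinearEquiv.finrank_map_eq g U
  rw [← h1] at hy
  obtain ⟨z, hz, rfl⟩ := hy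
  show B (g z) (g x) = 0
  rw [hg]
  exact hx z hz

/-- the involution with eigenspaces `U`, `U^perp` -/
theorem exists_inv [FiniteDimensional F V] {B : V →ₗ[F] V →ₗ[F] F} {ε : F} (hF : Fm B ε) {U : Submodule F V}
    (hU : NdOn B U) : ∃ a : V ≃ₗ[F] V, a ∈ Isom B ∧ a * a = 1 ∧ (∀ x ∈ U, a x = -x) ∧ (∀ x ∈ perp B U, a x = x) ∧
      ∀ d ∈ Isom B, (∀ x ∈ U, d x ∈ U) → a * d = d * a := by
  have hc := isCompl_perp hF hU
  let e := Submodule.prodEquivOfIsCompl U (perp B U) hc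
  let a : V ≃ₗ[F] V := e.symm ≪≫ₗ ((LinearEquiv.neg F (M := U)).prodCongr (LinearEquiv.refl F (perp B U))) ≪≫ₗ e
  have h1 : ∀ x ∈ U, a x = -x := by
    intro x hx
    have h2 : e.symm x = (⟨x, hx⟩, 0) := by
      rw [LinearEquiv.symm_apply_eq]
      simp [e]
    show e (((LinearEquiv.neg F (M := U)).prodCongr (LinearEquiv.refl F (perp B U))) (e.symm x)) = -x
    rw [h2]
    simp only [e, _root_.LinearEquiv.prodCongr_apply, _root_.LinearEquiv.coe_neg, _root_.Pi.neg_apply, _root_.id_eq, _root_.LinearEquiv.refl_apply, _root_.Submodule.coe_prodEquivOfIsCompl', _root_.NegMemClass.coe_neg, _root_.ZeroMemClass.coe_zero, _root_.add_zero]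
  have h2 : ∀ x ∈ perp B U, a x = x := by
    intro x hx
    have h2 : e.symm x = (0, ⟨x, hx⟩) := by
      rw [LinearEquiv.symm_apply_eq]
      simp [e]
    show e (((LinearEquiv.neg F (M := U)).prodCongr (LinearEquiv.refl F (perp B U))) (e.symm x)) = x
    rw [h2]
    simp [e]
  have hdec : ∀ x : V, ∃ u ∈ U, ∃ w ∈ perp B U, u + w = x := fun x => Submodule.mem_sup.1
    (show x ∈ U ⊔ perp B U by rw [hc.sup_eq_top]; exact Submodule.mem_top)
  refine ⟨a, ?_, ?_, h1, h2, ?_⟩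
  · intro x y
    obtain ⟨u, hu, w, hw, rfl⟩ := hdec x
    obtain ⟨u', hu', w', hw', rfl⟩ := hdec y
    have e1 : B u w' = 0 := hw' u hu
    have e2 : B w u' = 0 := symm_zero hF (hw u' hu')
    rw [map_add a, map_add a, h1 u hu, h2 w hw, h1 u' hu', h2 w' hw']
    simp only [map_add, map_neg, LinearMap.add_apply, LinearMap.neg_apply, e1, e2]
    ring
  · ext x
    obtain ⟨u, hu, w, hw, rfl⟩ := hdec x
    show a (a (u + w)) = u + w
    rw [map_add, map_add, h1 u hu, h2 w hw, map_neg, h1 u hu, h2 w hw, neg_neg]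
  · intro d hd hdU
    ext x
    obtain ⟨u, hu, w, hw, rfl⟩ := hdec x
    show a (d (u + w)) = d (a (u + w))
    rw [map_add, map_add, map_add, map_add, h1 u hu, h2 w hw, h1 _ (hdU u hu), h2 _ (perp_inv hd hdU w hw), map_neg]

/-- an involution which is normalised up to sign gives a decomposition -/
theorem red_of_inv {B : V →ₗ[F] V →ₗ[F] F} {ε : F} (hF : Fm B ε) {K : Subgroup (V ≃ₗ[F] V)}
    {z : V ≃ₗ[F] V} (hz : z ∈ Isom B) (hzz : z * z = 1) (hz1 : z ≠ 1) (hzs : z ≠ sg F V)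
    (hK : ∀ g ∈ K, g * z * g⁻¹ = z ∨ g * z * g⁻¹ = sg F V * z) : Red B K := by
  have hz2 : ∀ x, z (z x) = x := fun x => congrArg (fun f : V ≃ₗ[F] V => f x) hzz
  let U : Submodule F V :=
    { carrier := {x | z x = x}
      add_mem' := fun {a b} (ha : z a = a) (hb : z b = b) => by
        show z (a + b) = a + b
        rw [map_add, ha, hb]
      zero_mem' := map_zero _
      smul_mem' := fun c x (hx : z x = x) => by
        show z (c • x) = c • x
        rw [map_smul, hx] }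
  have hU : ∀ x, x ∈ U ↔ z x = x := fun x => Iff.rfl
  have hplus : ∀ x, x + z x ∈ U := fun x => by rw [hU, map_add, hz2, add_comm]
  have hperp : ∀ x, x ∈ perp B U ↔ z x = -x := by
    intro x
    constructor
    · intro hx
      -- `x + z x` is orthogonal to everything
      have h1 : x + z x = 0 := by
        apply hF.nondeg
        intro y
        have h2 : B (y + z y) x = 0 := hx _ (hplus y)
        have h3 : B x (y + z y) = 0 := symm_zero hF h2
        have h4 : B (z x) y = B x (z y) := by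
          rw [← hz (z x) y, hz2]
        rw [map_add, LinearMap.add_apply, h4, ← map_add]
        exact h3
      exact eq_neg_of_add_eq_zero_right h1
    · intro hx y hy
      have h1 : B y x = -B y x := by
        calc B y x = B (z y) (z x) := (hz y x).symm
          _ = -B y x := by rw [hx, (hU y).1 hy, map_neg]
      have h2 : (2 : F) * B y x = 0 := by rw [two_mul]; nth_rewrite 1 [h1]; exact neg_add_cancel _
      exact (mul_eq_zero.1 h2).resolve_left hF.two
  refine ⟨U, ?_, ?_, ?_, ?_⟩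
  · intro hb
    apply hzs
    ext x
    have h1 := hplus x
    rw [hb, Submodule.mem_bot] at h1
    exact eq_neg_of_add_eq_zero_right h1
  · intro ht
    apply hz1
    ext x
    have h1 : x ∈ U := by rw [ht]; exact Submodule.mem_top
    exact h1
  · intro x hx h
    apply hF.nondeg
    intro y
    have h1 : B x (y + z y) = 0 := h _ (hplus y)
    have h2 : B x (z y) = B x y := by
      rw [← hz x (z y), hz2, (hU x).1 hx]
    rw [map_add, h2, ← two_mul] at h1
    exact (mul_eq_zero.1 h1).resolve_left hF.two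
  · intro g hg
    have hmem : ∀ x, x ∈ U.map (g : V →ₗ[F] V) ↔ (g * z * g⁻¹) x = x := by
      intro x
      constructor
      · rintro ⟨y, hy, rfl⟩
        show g (z (g.symm (g y))) = g y
        rw [LinearEquiv.symm_apply_apply, (hU y).1 hy]
      · intro h
        have h' : g (z (g.symm x)) = x := h
        refine ⟨g.symm x, ?_, g.apply_symm_apply x⟩
        apply (hU _).2
        rw [← g.symm_apply_apply (z (g.symm x)), h']
    rcases hK g hg with h | h
    · left
      ext x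
      rw [hmem, h, hU]
    · right
      ext x
      rw [hmem, h, hperp]
      show -(z x) = x ↔ z x = -x
      exact ⟨fun h => by rw [← h, neg_neg, h], fun h => by rw [h, neg_neg]⟩

theorem red_of_four_dvd [Finite V] {B : V →ₗ[F] V →ₗ[F] F} {ε : F} (hF : Fm B ε)
    {c : V ≃ₗ[F] V} {P : Subgroup (V ≃ₗ[F] V)} (hP : P ≤ Isom B) (h2 : IsPGroup 2 P)
    (hact : ∀ g ∈ P, g * c * g⁻¹ = c ∨ g * c * g⁻¹ = c⁻¹) (hV : Nontrivial V)
    (h4 : 4 ∣ (Inv2 (CC B c)).ncard) : Red B (Subgroup.closure {c} ⊔ P) := by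
  have hfin : Finite (V ≃ₗ[F] V) := Finite.of_injective (fun e : V ≃ₗ[F] V => e.toEquiv) (fun a b h => by
    ext x
    exact congrArg (fun e : V ≃ V => e x) h)
  have hs1 : sg F V ≠ 1 := by
    intro h
    obtain ⟨x, hx⟩ := exists_ne (0 : V)
    exact hx (eq_zero_of_neg hF.two (congrArg (fun f : V ≃ₗ[F] V => f x) h))
  obtain ⟨z, hz, hz1, hzs, hzP⟩ := exists_pair (A := V ≃ₗ[F] V) (s := sg F V) sg_mul_sg hs1 (fun x => sg_comm x)
    (P := P) h2 (I := Inv2 (CC B c)) (Set.toFinite _) h4 ⟨(CC B c).one_mem, one_mul 1⟩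
    ⟨mem_CC.2 ⟨sg_mem B, (sg_comm c).symm⟩, sg_mul_sg⟩
    (by
      rintro z ⟨hz, hzz⟩
      refine ⟨(CC B c).mul_mem (mem_CC.2 ⟨sg_mem B, (sg_comm c).symm⟩) hz, ?_⟩
      calc sg F V * z * (sg F V * z) = sg F V * (z * sg F V) * z := by group
        _ = (sg F V * sg F V) * (z * z) := by rw [sg_comm]; group
        _ = 1 := by rw [sg_mul_sg, hzz, one_mul])
    (by
      rintro g hg z ⟨hz, hzz⟩
      obtain ⟨hzB, hzc⟩ := mem_CC.1 hz
      refine ⟨mem_CC.2 ⟨(Isom B).mul_mem ((Isom B).mul_mem (hP hg) hzB) ((Isom B).inv_mem (hP hg)), ?_⟩, ?_⟩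
      · -- `z` commutes with `g⁻¹ c g`
        have hcz : z * c⁻¹ = c⁻¹ * z := by
          rw [mul_inv_eq_iff_eq_mul, mul_assoc, hzc, ← mul_assoc, inv_mul_cancel, one_mul]
        have h1 : g⁻¹ * c * g = c ∨ g⁻¹ * c * g = c⁻¹ := by
          rcases hact g hg with h | h
          · left
            calc g⁻¹ * c * g = g⁻¹ * (g * c * g⁻¹) * g := by rw [h]
              _ = c := by group
          · right
            have h' : g * c⁻¹ * g⁻¹ = c := by
              calc g * c⁻¹ * g⁻¹ = (g * c * g⁻¹)⁻¹ := by group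
                _ = c := by rw [h, inv_inv]
            calc g⁻¹ * c * g = g⁻¹ * (g * c⁻¹ * g⁻¹) * g := by rw [h']
              _ = c⁻¹ := by group
        have h5 : z * (g⁻¹ * c * g) = (g⁻¹ * c * g) * z := by
          rcases h1 with h | h
          · rw [h]; exact hzc
          · rw [h]; exact hcz
        calc g * z * g⁻¹ * c = g * (z * (g⁻¹ * c * g)) * g⁻¹ := by group
          _ = g * ((g⁻¹ * c * g) * z) * g⁻¹ := by rw [h5]
          _ = c * (g * z * g⁻¹) := by group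
      · calc g * z * g⁻¹ * (g * z * g⁻¹) = g * (z * z) * g⁻¹ := by group
          _ = 1 := by rw [hzz]; group)
  obtain ⟨hzC, hzz⟩ := hz
  obtain ⟨hzB, hzc⟩ := mem_CC.1 hzC
  refine red_of_inv hF hzB hzz hz1 hzs ?_
  -- the stabiliser of `{z, -z}` is a subgroup
  let N : Subgroup (V ≃ₗ[F] V) :=
    { carrier := {g | g * z * g⁻¹ = z ∨ g * z * g⁻¹ = sg F V * z}
      one_mem' := Or.inl (by group)
      mul_mem' := by
        intro a b ha hb
        have e1 : a * b * z * (a * b)⁻¹ = a * (b * z * b⁻¹) * a⁻¹ := by group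
        have e2 : a * (sg F V * z) * a⁻¹ = sg F V * (a * z * a⁻¹) := by
          rw [← mul_assoc, sg_comm]; group
        show a * b * z * (a * b)⁻¹ = z ∨ a * b * z * (a * b)⁻¹ = sg F V * z
        rw [e1]
        rcases hb with hb | hb <;> rw [hb]
        · exact ha
        · rw [e2]
          rcases ha with ha | ha <;> rw [ha]
          · exact Or.inr rfl
          · left
            rw [← mul_assoc, sg_mul_sg, one_mul]
      inv_mem' := by
        intro a ha
        show a⁻¹ * z * a⁻¹⁻¹ = z ∨ a⁻¹ * z * a⁻¹⁻¹ = sg F V * z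
        rcases ha with ha | ha
        · left
          calc a⁻¹ * z * a⁻¹⁻¹ = a⁻¹ * (a * z * a⁻¹) * a := by rw [ha]; group
            _ = z := by group
        · right
          have h3 : z = a⁻¹ * (sg F V * z) * a := by
            calc z = a⁻¹ * (a * z * a⁻¹) * a := by group
              _ = _ := by rw [ha]
          have h4 : a⁻¹ * (sg F V * z) * a = sg F V * (a⁻¹ * z * a) := by
            rw [← mul_assoc, sg_comm]; group
          rw [h4] at h3
          calc a⁻¹ * z * a⁻¹⁻¹ = (sg F V * sg F V) * (a⁻¹ * z * a) := by rw [sg_mul_sg]; group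
            _ = sg F V * (sg F V * (a⁻¹ * z * a)) := by rw [mul_assoc]
            _ = sg F V * z := by rw [← h3] }
  have hN : Subgroup.closure {c} ⊔ P ≤ N := by
    refine sup_le ?_ (fun g hg => hzP g hg)
    rw [Subgroup.closure_le]
    rintro _ rfl
    left
    rw [← hzc]
    group
  exact fun g hg => hN hg

theorem ne_sg {a : V ≃ₗ[F] V} (h2 : (2 : F) ≠ 0) {x : V} (hx : x ≠ 0) (h : a x = x) : a ≠ sg F V := by
  rintro rfl
  exact hx (eq_zero_of_neg h2 h)

theorem ne_one {a : V ≃ₗ[F] V} (h2 : (2 : F) ≠ 0) {x : V} (hx : x ≠ 0) (h : a x = -x) : a ≠ 1 := by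
  rintro rfl
  exact hx (eq_zero_of_neg h2 h.symm)

/-- **Three orthogonal `c`-invariant summands.** -/
theorem red_of_three [Finite V] [FiniteDimensional F V] {B : V →ₗ[F] V →ₗ[F] F} {ε : F} (hF : Fm B ε)
    {c : V ≃ₗ[F] V} (hc : c ∈ Isom B) {P : Subgroup (V ≃ₗ[F] V)} (hP : P ≤ Isom B) (h2 : IsPGroup 2 P)
    (hact : ∀ g ∈ P, g * c * g⁻¹ = c ∨ g * c * g⁻¹ = c⁻¹)
    {U₁ U₂ : Submodule F V} (hc₁ : ∀ x ∈ U₁, c x ∈ U₁) (hc₂ : ∀ x ∈ U₂, c x ∈ U₂) (hn₁ : NdOn B U₁)
    (hn₂ : NdOn B U₂) (h12 : U₂ ≤ perp B U₁) (hb₁ : U₁ ≠ ⊥) (hb₂ : U₂ ≠ ⊥) (ht : U₁ ⊔ U₂ ≠ ⊤) :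
    Red B (Subgroup.closure {c} ⊔ P) := by
  have h21 : U₁ ≤ perp B U₂ := fun x hx y hy => symm_zero hF (h12 hy x hx)
  obtain ⟨a, haB, haa, ha1, ha2, hac⟩ := exists_inv hF hn₁
  obtain ⟨b, hbB, hbb, hb1, hb2, hbc⟩ := exists_inv hF hn₂
  obtain ⟨x₁, hx₁, hx₁0⟩ := Submodule.exists_mem_ne_zero_of_ne_bot hb₁
  obtain ⟨x₂, hx₂, hx₂0⟩ := Submodule.exists_mem_ne_zero_of_ne_bot hb₂
  -- a vector orthogonal to both
  have hnd : NdOn B (U₁ ⊔ U₂) := by
    intro x hx h
    obtain ⟨u, hu, w, hw, rfl⟩ := Submodule.mem_sup.1 hx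
    have e1 : u = 0 := by
      apply hn₁ u hu
      intro y hy
      have h3 := h y (Submodule.mem_sup_left hy)
      rw [map_add, LinearMap.add_apply, symm_zero hF (h12 hw y hy), add_zero] at h3
      exact h3
    have e2 : w = 0 := by
      apply hn₂ w hw
      intro y hy
      have h3 := h y (Submodule.mem_sup_right hy)
      rw [map_add, LinearMap.add_apply, h12 hy u hu, zero_add] at h3
      exact h3
    rw [e1, e2, add_zero]
  have h3 : perp B (U₁ ⊔ U₂) ≠ ⊥ := by
    intro h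
    have := (isCompl_perp hF hnd).sup_eq_top
    rw [h, sup_bot_eq] at this
    exact ht this
  obtain ⟨x₃, hx₃, hx₃0⟩ := Submodule.exists_mem_ne_zero_of_ne_bot h3
  have hx31 : x₃ ∈ perp B U₁ := fun y hy => hx₃ y (Submodule.mem_sup_left hy)
  have hx32 : x₃ ∈ perp B U₂ := fun y hy => hx₃ y (Submodule.mem_sup_right hy)
  refine red_of_four_dvd hF hP h2 hact ⟨x₁, 0, hx₁0⟩ ?_
  have hs1 : sg F V ≠ 1 := ne_one hF.two hx₁0 rfl
  have hba : b * a = a * b := hbc a haB (fun x hx => by rw [ha2 x (h12 hx)]; exact hx)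
  refine four_dvd_of_three (s := sg F V) (a := a) (b := b) ?_ (mem_CC.2 ⟨sg_mem B, (sg_comm c).symm⟩) sg_mul_sg hs1
    (fun x _ => sg_comm x) (mem_CC.2 ⟨haB, hac c hc hc₁⟩) haa (ne_one hF.two hx₁0 (ha1 _ hx₁))
    (ne_sg hF.two hx₂0 (ha2 _ (h12 hx₂))) (mem_CC.2 ⟨hbB, hbc c hc hc₂⟩) hbb (ne_one hF.two hx₂0 (hb1 _ hx₂))
    (ne_sg hF.two hx₁0 (hb2 _ (h21 hx₁))) hba.symm ?_ ?_
  · have hfin : Finite (V ≃ₗ[F] V) := Finite.of_injective (fun e : V ≃ₗ[F] V => e.toEquiv) (fun a b h => by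
      ext x
      exact congrArg (fun e : V ≃ V => e x) h)
    exact Set.toFinite _
  · refine ne_one hF.two hx₁0 ?_
    show a (b x₁) = -x₁
    rw [hb2 _ (h21 hx₁), ha1 _ hx₁]
  · refine ne_sg hF.two hx₃0 ?_
    show a (b x₃) = x₃
    rw [hb2 _ hx32, ha2 _ hx31]

/-- **Two orthogonal `c`-invariant summands and a central element with square `-1`.** -/
theorem red_of_two [Finite V] [FiniteDimensional F V] {B : V →ₗ[F] V →ₗ[F] F} {ε : F} (hF : Fm B ε)
    {c : V ≃ₗ[F] V} (hc : c ∈ Isom B) {P : Subgroup (V ≃ₗ[F] V)} (hP : P ≤ Isom B) (h2 : IsPGroup 2 P)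
    (hact : ∀ g ∈ P, g * c * g⁻¹ = c ∨ g * c * g⁻¹ = c⁻¹)
    {U : Submodule F V} (hcU : ∀ x ∈ U, c x ∈ U) (hn : NdOn B U) (hb : U ≠ ⊥) (ht : U ≠ ⊤)
    {j : V ≃ₗ[F] V} (hj : j ∈ CC B c) (hjj : j * j = sg F V) (hjc : ∀ x ∈ CC B c, x * j = j * x) :
    Red B (Subgroup.closure {c} ⊔ P) := by
  obtain ⟨a, haB, haa, ha1, ha2, hac⟩ := exists_inv hF hn
  obtain ⟨x₁, hx₁, hx₁0⟩ := Submodule.exists_mem_ne_zero_of_ne_bot hb
  have h3 : perp B U ≠ ⊥ := by
    intro h
    have := (isCompl_perp hF hn).sup_eq_top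
    rw [h, sup_bot_eq] at this
    exact ht this
  obtain ⟨x₃, hx₃, hx₃0⟩ := Submodule.exists_mem_ne_zero_of_ne_bot h3
  refine red_of_four_dvd hF hP h2 hact ⟨x₁, 0, hx₁0⟩ ?_
  refine four_dvd_of_four (s := sg F V) (j := j) (e := a) ?_ (mem_CC.2 ⟨sg_mem B, (sg_comm c).symm⟩) sg_mul_sg
    (ne_one hF.two hx₁0 rfl) (fun x _ => sg_comm x) hj hjj hjc (mem_CC.2 ⟨haB, hac c hc hcU⟩) haa
    (ne_one hF.two hx₁0 (ha1 _ hx₁)) (ne_sg hF.two hx₃0 (ha2 _ hx₃))
  have hfin : Finite (V ≃ₗ[F] V) := Finite.of_injective (fun e : V ≃ₗ[F] V => e.toEquiv) (fun a b h => by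
    ext x
    exact congrArg (fun e : V ≃ V => e x) h)
  exact Set.toFinite _

end Cfsg.Agent.H137.FR
end

-- part: H137/FR/Scalar
section
/-!
# S4970, FR-SEM2 (helper137): the case `c + c⁻¹ = τ`, `τ ≠ ±2`

* `exists_plane`: `c`-invariant nondegenerate planes;
* `red_of_scalar`: `Red B (closure {c} ⊔ P)` unless `dim V = 4` and `4 - τ²` is not a square.
-/

set_option autoImplicit false

universe u

namespace Cfsg.Agent.H137.FR

open Cfsg Cfsg.Agent.H721.FR Cfsg.Agent.H721.SR Module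

variable {F V : Type u} [Field F] [AddCommGroup V] [Module F V]

section

variable {B : V →ₗ[F] V →ₗ[F] F} {ε : F} (hF : Fm B ε) {c : V ≃ₗ[F] V} (hc : c ∈ Isom B) {τ : F}
  (hτ : ∀ x, c x + c.symm x = τ • x)

include hc in
theorem isom_symm (x y : V) : B (c.symm x) (c.symm y) = B x y := by
  rw [← hc (c.symm x), LinearEquiv.apply_symm_apply, LinearEquiv.apply_symm_apply]

include hc in
theorem isom_symm_left (x y : V) : B (c.symm x) y = B x (c y) := by
  rw [← hc (c.symm x) y, LinearEquiv.apply_symm_apply]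

include hτ in
theorem sq_apply (x : V) : c (c x) = τ • c x - x := by
  have h := hτ (c x)
  rw [LinearEquiv.symm_apply_apply] at h
  rw [← h, add_sub_cancel_right]

include hF hc hτ in
/-- `(1 + ε) B(v, cv) = τ B(v, v)` -/
theorem trace_eq (v : V) : (1 + ε) * B v (c v) = τ * B v v := by
  have h1 : B v (c v + c.symm v) = τ * B v v := by rw [hτ, map_smul, smul_eq_mul]
  have h2 : B v (c.symm v) = ε * B v (c v) := by
    rw [hF.symm v (c.symm v), isom_symm_left hc]
  rw [map_add, h2] at h1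
  rw [← h1]
  ring

/-- the plane `⟨v, c v⟩` -/
def pln (c : V ≃ₗ[F] V) (v : V) : Submodule F V := Submodule.span F {v, c v}

theorem mem_pln {v x : V} : x ∈ pln c v ↔ ∃ a b : F, a • v + b • c v = x := Submodule.mem_span_pair

include hτ in
theorem pln_inv (v : V) : ∀ x ∈ pln c v, c x ∈ pln c v := by
  intro x hx
  obtain ⟨a, b, rfl⟩ := mem_pln.1 hx
  refine mem_pln.2 ⟨-b, a + b * τ, ?_⟩
  rw [map_add, map_smul, map_smul, sq_apply hτ]
  module

include hF hc in
theorem ndOn_pln_of {v : V} (hd : ∀ a b : F, a * B v v + b * (ε * B v (c v)) = 0 → a * B v (c v) + b * B v v = 0 →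
    a = 0 ∧ b = 0) : NdOn B (pln c v) ∧ (v ≠ 0 → finrank F (pln c v) = 2) := by
  have h1 : ∀ a b : F, B (a • v + b • c v) v = a * B v v + b * (ε * B v (c v)) := by
    intro a b
    rw [map_add, map_smul, map_smul, LinearMap.add_apply, LinearMap.smul_apply, LinearMap.smul_apply,
      hF.symm (c v) v, smul_eq_mul, smul_eq_mul]
  have h2 : ∀ a b : F, B (a • v + b • c v) (c v) = a * B v (c v) + b * B v v := by
    intro a b
    rw [map_add, map_smul, map_smul, LinearMap.add_apply, LinearMap.smul_apply, LinearMap.smul_apply, hc v v,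
      smul_eq_mul, smul_eq_mul]
  refine ⟨fun x hx h => ?_, fun hv => ?_⟩
  · obtain ⟨a, b, rfl⟩ := mem_pln.1 hx
    have e1 := h v (mem_pln.2 ⟨1, 0, by module⟩)
    have e2 := h (c v) (mem_pln.2 ⟨0, 1, by module⟩)
    rw [h1] at e1
    rw [h2] at e2
    obtain ⟨rfl, rfl⟩ := hd a b e1 e2
    module
  · have hli : LinearIndependent F ![v, c v] := by
      rw [LinearIndependent.pair_iff]
      intro a b hab
      apply hd a b
      · rw [← h1, hab, map_zero, LinearMap.zero_apply]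
      · rw [← h2, hab, map_zero, LinearMap.zero_apply]
    have h3 := finrank_span_eq_card hli
    have h4 : Set.range ![v, c v] = {v, c v} := by
      rw [Matrix.range_cons, Matrix.range_cons, Matrix.range_empty, Set.union_empty]
      rfl
    rw [h4, Fintype.card_fin] at h3
    exact h3

include hF hc hτ in
/-- **Invariant nondegenerate planes.** -/
theorem exists_plane (h2 : τ ≠ 2) (h2' : τ ≠ -2) {W : Submodule F V} (hW : NdOn B W) (hcW : ∀ x ∈ W, c x ∈ W)
    (hb : W ≠ ⊥) :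
    ∃ U : Submodule F V, U ≤ W ∧ (∀ x ∈ U, c x ∈ U) ∧ NdOn B U ∧ finrank F U = 2 := by
  obtain ⟨w, hw, hw0⟩ := Submodule.exists_mem_ne_zero_of_ne_bot hb
  have hle : ∀ v ∈ W, pln c v ≤ W := by
    intro v hv x hx
    obtain ⟨a, b, rfl⟩ := mem_pln.1 hx
    exact W.add_mem (W.smul_mem _ hv) (W.smul_mem _ (hcW v hv))
  have hf2 := hF.two
  rcases hF.eps with he | ⟨he, -⟩
  · -- orthogonal
    obtain ⟨v, hv, hvv⟩ : ∃ v ∈ W, B v v ≠ 0 := by
      by_contra hcon
      push Not at hcon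
      apply hw0
      apply hW w hw
      intro y hy
      have h3 := hcon (w + y) (W.add_mem hw hy)
      rw [map_add, map_add, LinearMap.add_apply, LinearMap.add_apply, hcon w hw, hcon y hy, zero_add, add_zero,
        hF.symm y w, he, one_mul, ← two_mul] at h3
      exact (mul_eq_zero.1 h3).resolve_left hf2
    have hv0 : v ≠ 0 := by
      rintro rfl
      exact hvv (map_zero _)
    have h3 := trace_eq hF hc hτ v
    rw [he] at h3
    obtain ⟨h4, h5⟩ := ndOn_pln_of (c := c) hF hc (v := v) (by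
      intro a b e1 e2
      rw [he, one_mul] at e1
      have e3 : (4 - τ ^ 2) * B v v ^ 2 = 4 * (B v v ^ 2 - B v (c v) ^ 2) := by
        have : (2 * B v (c v)) ^ 2 = (τ * B v v) ^ 2 := by rw [← h3]; ring
        linear_combination this
      have e4 : (4 - τ ^ 2) * B v v ^ 2 ≠ 0 := by
        refine mul_ne_zero ?_ (pow_ne_zero 2 hvv)
        have : (4 - τ ^ 2) = (2 - τ) * (2 + τ) := by ring
        rw [this]
        refine mul_ne_zero (sub_ne_zero.2 h2.symm) ?_
        intro h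
        apply h2'
        linear_combination h
      rw [e3] at e4
      have e5 : B v v ^ 2 - B v (c v) ^ 2 ≠ 0 := right_ne_zero_of_mul e4
      constructor
      · have : a * (B v v ^ 2 - B v (c v) ^ 2) = 0 := by linear_combination B v v * e1 - B v (c v) * e2
        exact (mul_eq_zero.1 this).resolve_right e5
      · have : b * (B v v ^ 2 - B v (c v) ^ 2) = 0 := by linear_combination B v v * e2 - B v (c v) * e1
        exact (mul_eq_zero.1 this).resolve_right e5)
    exact ⟨pln c v, hle v hv, pln_inv hτ v, h4, h5 hv0⟩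
  · -- symplectic
    have hvv : ∀ v, B v v = 0 := by
      intro v
      have h3 := hF.symm v v
      rw [he] at h3
      have h4 : (2 : F) * B v v = 0 := by linear_combination h3
      exact (mul_eq_zero.1 h4).resolve_left hf2
    obtain ⟨v, hv, hvc⟩ : ∃ v ∈ W, B v (c v) ≠ 0 := by
      by_contra hcon
      push Not at hcon
      -- `c y = c⁻¹ y` on `W`
      have h4 : ∀ y ∈ W, c.symm y ∈ W := by
        intro y hy
        have : c.symm y = τ • y - c y := by rw [← hτ]; abel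
        rw [this]
        exact W.sub_mem (W.smul_mem _ hy) (hcW y hy)
      have h5 : ∀ y ∈ W, c y - c.symm y = 0 := by
        intro y hy
        apply hW _ (W.sub_mem (hcW y hy) (h4 y hy))
        intro x hx
        have h6 := hcon (x + y) (W.add_mem hx hy)
        simp only [map_add, LinearMap.add_apply, hcon x hx, hcon y hy] at h6
        have h7 : B y (c x) = B (c.symm y) x := (isom_symm_left hc y x).symm
        rw [h7] at h6
        rw [hF.symm x (c y), he] at h6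
        rw [map_sub, LinearMap.sub_apply]
        linear_combination -h6
      have h6 := h5 w hw
      have h7 : (2 : F) • c w = τ • w := by
        rw [← hτ, two_smul]
        rw [sub_eq_zero] at h6
        rw [← h6]
      have h8 : (4 : F) • w = τ ^ 2 • w := by
        have h9 : (2 : F) • c.symm w = τ • w := by
          rw [sub_eq_zero] at h6
          rw [← h6, h7]
        have h10 : (2 : F) • c (c.symm w) = c (c.symm ((2 : F) • w)) := by rw [map_smul, map_smul]
        have h11 : (2 : F) • ((2 : F) • w) = τ • (τ • w) := by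
          calc (2 : F) • ((2 : F) • w) = (2 : F) • ((2 : F) • c (c.symm w)) := by rw [LinearEquiv.apply_symm_apply]
            _ = (2 : F) • c ((2 : F) • c.symm w) := by rw [map_smul]
            _ = (2 : F) • c (τ • w) := by rw [h9]
            _ = τ • ((2 : F) • c w) := by rw [map_smul, smul_comm]
            _ = τ • (τ • w) := by rw [h7]
        rw [smul_smul, smul_smul] at h11
        rw [show (4 : F) = 2 * 2 by norm_num, pow_two]
        exact h11
      have h9 : ((2 - τ) * (2 + τ)) • w = 0 := by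
        have : (2 - τ) * (2 + τ) = 4 - τ ^ 2 := by ring
        rw [this, sub_smul, h8, sub_self]
      rcases smul_eq_zero.1 h9 with h10 | h10
      · rcases mul_eq_zero.1 h10 with h11 | h11
        · exact h2 (sub_eq_zero.1 h11).symm
        · exact h2' (by linear_combination h11)
      · exact hw0 h10
    have hv0 : v ≠ 0 := by
      rintro rfl
      apply hvc
      simp
    obtain ⟨h4, h5⟩ := ndOn_pln_of (c := c) hF hc (v := v) (by
      intro a b e1 e2
      rw [hvv v, he] at e1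
      rw [hvv v] at e2
      constructor
      · have : a * B v (c v) = 0 := by linear_combination e2
        exact (mul_eq_zero.1 this).resolve_right hvc
      · have : b * B v (c v) = 0 := by linear_combination -e1
        exact (mul_eq_zero.1 this).resolve_right hvc)
    exact ⟨pln c v, hle v hv, pln_inv hτ v, h4, h5 hv0⟩

include hc hτ in
/-- the element of order four -/
theorem exists_j {μ : F} (hμ : μ * μ = 4 - τ ^ 2) (hμ0 : μ ≠ 0) :
    ∃ j : V ≃ₗ[F] V, j ∈ CC B c ∧ j * j = sg F V ∧ ∀ x ∈ CC B c, x * j = j * x := by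
  have hs2 : ∀ x, c (c x) + c.symm (c.symm x) = (τ ^ 2 - 2) • x := by
    intro x
    have h1 : c.symm (c.symm x) = τ • c.symm x - x := by
      have h := hτ (c.symm x)
      rw [LinearEquiv.apply_symm_apply] at h
      rw [← h]
      abel
    rw [sq_apply hτ, h1]
    have h2 : τ • c x + τ • c.symm x = τ • (τ • x) := by rw [← smul_add, hτ]
    calc τ • c x - x + (τ • c.symm x - x) = (τ • c x + τ • c.symm x) - (2 : F) • x := by rw [two_smul]; abel
      _ = (τ ^ 2 - 2) • x := by rw [h2]; module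
  let D : V →ₗ[F] V := (c : V →ₗ[F] V) - (c.symm : V →ₗ[F] V)
  have hD : ∀ x, D x = c x - c.symm x := fun x => rfl
  have hDD : ∀ x, D (D x) = -((μ * μ) • x) := by
    intro x
    rw [hD, hD, map_sub, map_sub, LinearEquiv.apply_symm_apply, LinearEquiv.symm_apply_apply, hμ]
    calc c (c x) - x - (x - c.symm (c.symm x)) = (c (c x) + c.symm (c.symm x)) - (2 : F) • x := by
          rw [two_smul]; abel
      _ = -((4 - τ ^ 2) • x) := by rw [hs2]; module
  have hinv : ∀ x, (μ⁻¹ • D) ((-μ⁻¹) • D x) = x := by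
    intro x
    rw [LinearMap.smul_apply, map_smul, hDD, smul_smul, smul_neg, smul_smul]
    have : μ⁻¹ * -μ⁻¹ * (μ * μ) = -1 := by field_simp
    rw [this]
    module
  have hinv' : ∀ x, (-μ⁻¹) • D ((μ⁻¹ • D) x) = x := by
    intro x
    rw [LinearMap.smul_apply, map_smul, hDD, smul_smul, smul_neg, smul_smul]
    have : -μ⁻¹ * μ⁻¹ * (μ * μ) = -1 := by field_simp
    rw [this]
    module
  let j : V ≃ₗ[F] V := LinearEquiv.ofLinearMap (μ⁻¹ • D) ((-μ⁻¹) • D) (by ext x; exact hinv x) (by ext x; exact hinv' x)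
  have hj : ∀ x, j x = μ⁻¹ • (c x - c.symm x) := fun x => rfl
  refine ⟨j, mem_CC.2 ⟨?_, ?_⟩, ?_, ?_⟩
  · intro x y
    rw [hj, hj, map_smul, map_smul, LinearMap.smul_apply]
    have e1 : B (c x - c.symm x) (c y - c.symm y) = (μ * μ) * B x y := by
      have f1 : B (c x) (c.symm y) = B (c (c x)) y := by
        rw [← hc (c x) (c.symm y), LinearEquiv.apply_symm_apply]
      have f2 : B (c.symm x) (c y) = B (c.symm (c.symm x)) y := (isom_symm_left hc _ _).symm
      have f3 : B (c (c x)) y + B (c.symm (c.symm x)) y = (τ ^ 2 - 2) * B x y := by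
        rw [← LinearMap.add_apply, ← map_add, hs2, map_smul, LinearMap.smul_apply, smul_eq_mul]
      simp only [map_sub, LinearMap.sub_apply]
      rw [hc x y, isom_symm hc x y, f1, f2, hμ]
      linear_combination -f3
    rw [e1, smul_eq_mul, smul_eq_mul]
    field_simp
  · ext x
    show j (c x) = c (j x)
    rw [hj, hj, map_smul, map_sub, LinearEquiv.symm_apply_apply, LinearEquiv.apply_symm_apply]
  · ext x
    show j (j x) = -x
    have : j (j x) = μ⁻¹ • D (μ⁻¹ • D x) := rfl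
    rw [this, map_smul, hDD, smul_neg, smul_neg, smul_smul, smul_smul]
    have h5 : μ⁻¹ * μ⁻¹ * (μ * μ) = 1 := by field_simp
    rw [h5, one_smul]
  · intro g hg
    obtain ⟨-, hgc⟩ := mem_CC.1 hg
    have h1 : ∀ x, g (c x) = c (g x) := fun x => congrArg (fun f : V ≃ₗ[F] V => f x) hgc
    have h2 : ∀ x, g (c.symm x) = c.symm (g x) := by
      intro x
      rw [← LinearEquiv.symm_apply_apply c (g (c.symm x)), ← h1, LinearEquiv.apply_symm_apply]
    ext x
    show g (j x) = j (g x)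
    rw [hj, hj, map_smul, map_sub, h1, h2]

end

/-- **FR-SEM2.** -/
theorem red_of_scalar [Finite V] [FiniteDimensional F V] {B : V →ₗ[F] V →ₗ[F] F} {ε : F} (hF : Fm B ε)
    {c : V ≃ₗ[F] V} (hc : c ∈ Isom B) {τ : F} (hτ : ∀ x, c x + c.symm x = τ • x) (h2 : τ ≠ 2) (h2' : τ ≠ -2)
    {P : Subgroup (V ≃ₗ[F] V)} (hP : P ≤ Isom B) (hP2 : IsPGroup 2 P)
    (hact : ∀ g ∈ P, g * c * g⁻¹ = c ∨ g * c * g⁻¹ = c⁻¹) (hn : 3 ≤ finrank F V) :
    Red B (Subgroup.closure {c} ⊔ P) ∨ (finrank F V = 4 ∧ ¬ IsSquare (4 - τ ^ 2)) := by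
  have htop : NdOn B (⊤ : Submodule F V) := fun x _ h => hF.nondeg x fun y => h y Submodule.mem_top
  have hne : (⊤ : Submodule F V) ≠ ⊥ := by
    intro h
    have h1 := finrank_top F V
    rw [h, finrank_bot] at h1
    omega
  obtain ⟨U₁, -, hc₁, hn₁, hf₁⟩ := exists_plane hF hc hτ h2 h2' htop (fun x _ => Submodule.mem_top) hne
  have hco := isCompl_perp hF hn₁
  have hsum := Submodule.finrank_add_eq_of_isCompl hco
  have hperp : perp B U₁ ≠ ⊥ := by
    intro h
    rw [h, finrank_bot] at hsum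
    omega
  obtain ⟨U₂, hle, hc₂, hn₂, hf₂⟩ := exists_plane hF hc hτ h2 h2' (ndOn_perp hF hn₁) (perp_inv hc hc₁) hperp
  have hf3 := Submodule.finrank_mono hle
  have hb₁ : U₁ ≠ ⊥ := by
    rintro rfl
    rw [finrank_bot] at hf₁
    omega
  have hb₂ : U₂ ≠ ⊥ := by
    rintro rfl
    rw [finrank_bot] at hf₂
    omega
  by_cases h4 : finrank F V = 4
  · by_cases hsq : IsSquare (4 - τ ^ 2)
    · left
      obtain ⟨μ, hμ⟩ := hsq
      have hμ0 : μ ≠ 0 := by
        rintro rfl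
        rw [mul_zero] at hμ
        have h5 : (2 - τ) * (2 + τ) = 0 := by linear_combination hμ
        rcases mul_eq_zero.1 h5 with h6 | h6
        · exact h2 (sub_eq_zero.1 h6).symm
        · exact h2' (by linear_combination h6)
      obtain ⟨j, hj, hjj, hjc⟩ := exists_j hc hτ hμ.symm hμ0
      refine red_of_two hF hc hP hP2 hact hc₁ hn₁ hb₁ ?_ hj hjj hjc
      rintro rfl
      rw [finrank_top] at hf₁
      omega
    · exact Or.inr ⟨h4, hsq⟩
  · left
    refine red_of_three hF hc hP hP2 hact hc₁ hc₂ hn₁ hn₂ hle hb₁ hb₂ ?_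
    intro ht
    have h5 := Submodule.finrank_add_le_finrank_add_finrank U₁ U₂
    rw [ht, finrank_top, hf₁, hf₂] at h5
    rw [hf₁] at hsum
    rw [hf₂] at hf3
    omega

/-- the exceptional case in terms of the eigenvalues -/
theorem split_cases [Finite F] (h2 : (2 : F) ≠ 0) {τ : F} (hτ : τ ≠ 2) (hτ' : τ ≠ -2)
    (h : ¬ IsSquare (4 - τ ^ 2)) :
    ((∃ a : F, a * a + 1 = τ * a) ∧ Nat.card F % 4 = 3) ∨ ((¬ ∃ a : F, a * a + 1 = τ * a) ∧ Nat.card F % 4 = 1) := by
  classical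
  have := Fintype.ofFinite F
  have hchar : ringChar F ≠ 2 := by
    intro h0
    apply h2
    have h1 : ((ringChar F : ℕ) : F) = 0 := ringChar.Nat.cast_ringChar
    rw [h0] at h1
    exact_mod_cast h1
  have hodd : Fintype.card F % 2 = 1 := FiniteField.odd_card_of_char_ne_two hchar
  have hsplit : (∃ a : F, a * a + 1 = τ * a) ↔ IsSquare (τ ^ 2 - 4) := by
    constructor
    · rintro ⟨a, ha⟩
      exact ⟨2 * a - τ, by linear_combination -4 * ha⟩
    · rintro ⟨r, hr⟩
      refine ⟨(τ + r) / 2, ?_⟩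
      field_simp
      linear_combination -hr
  have h0 : τ ^ 2 - 4 ≠ 0 := by
    intro h0
    have h5 : (2 - τ) * (2 + τ) = 0 := by linear_combination -h0
    rcases mul_eq_zero.1 h5 with h6 | h6
    · exact hτ (sub_eq_zero.1 h6).symm
    · exact hτ' (by linear_combination h6)
  have hneg : 4 - τ ^ 2 = -1 * (τ ^ 2 - 4) := by ring
  rw [Nat.card_eq_fintype_card, hsplit]
  have hm := FiniteField.isSquare_neg_one_iff (F := F)
  by_cases hq : Fintype.card F % 4 = 3
  · left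
    refine ⟨?_, hq⟩
    by_contra hns
    apply h
    have h3 : ¬ IsSquare (-1 : F) := fun h4 => hm.1 h4 hq
    rw [hneg]
    -- a product of two nonsquares is a square
    have e1 := (quadraticChar_neg_one_iff_not_isSquare (F := F)).2 h3
    have e2 := (quadraticChar_neg_one_iff_not_isSquare (F := F)).2 hns
    have e3 : quadraticChar F (-1 * (τ ^ 2 - 4)) = 1 := by rw [map_mul, e1, e2]; norm_num
    exact (quadraticChar_one_iff_isSquare (mul_ne_zero (by simp) h0)).1 e3
  · right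
    refine ⟨fun hs => h ?_, by omega⟩
    rw [hneg]
    exact (hm.2 hq).mul hs

/-- FR-SEM2 with the exceptional case in terms of the eigenvalues of `c` -/
theorem red_or_four [Finite F] [FiniteDimensional F V] {B : V →ₗ[F] V →ₗ[F] F} {ε : F} (hF : Fm B ε)
    {c : V ≃ₗ[F] V} {P : Subgroup (V ≃ₗ[F] V)} {τ : F} (hc : c ∈ Isom B) (hP : P ≤ Isom B) (hP2 : IsPGroup 2 P)
    (hact : ∀ g ∈ P, g * c * g⁻¹ = c ∨ g * c * g⁻¹ = c⁻¹) (h2 : τ ≠ 2) (h2' : τ ≠ -2)
    (hτ : ∀ v, c v + c⁻¹ v = τ • v) (hn : 3 ≤ finrank F V) :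
    Red B (Subgroup.closure {c} ⊔ P) ∨ (finrank F V = 4 ∧ (((∃ a : F, a * a + 1 = τ * a) ∧ Nat.card F % 4 = 3) ∨
      ((¬ ∃ a : F, a * a + 1 = τ * a) ∧ Nat.card F % 4 = 1))) := by
  have : Finite V := Module.finite_of_finite F
  rcases red_of_scalar hF hc (τ := τ) (fun x => hτ x) h2 h2' hP hP2 hact hn with h | ⟨h4, h⟩
  · exact Or.inl h
  · exact Or.inr ⟨h4, split_cases hF.two h2 h2' h⟩

/-- the form for `Mx` -/
theorem sem2 {F V : Type u} [Field F] [Finite F] [AddCommGroup V] [Module F V] [FiniteDimensional F V]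
    {B : V →ₗ[F] V →ₗ[F] F} {ε : F} (hF : Fm B ε)
    {c : V ≃ₗ[F] V} {P : Subgroup (V ≃ₗ[F] V)} {τ : F} (hc : c ∈ Isom B) (hP : Mx B c P) (h2 : τ ≠ 2) (h2' : τ ≠ -2)
    (hτ : ∀ v, c v + c⁻¹ v = τ • v) (hn : 3 ≤ finrank F V) :
    Red B (Subgroup.closure {c} ⊔ P) ∨ (finrank F V = 4 ∧ (((∃ a : F, a * a + 1 = τ * a) ∧ Nat.card F % 4 = 3) ∨
      ((¬ ∃ a : F, a * a + 1 = τ * a) ∧ Nat.card F % 4 = 1))) :=
  red_or_four hF hc hP.le hP.two hP.act h2 h2' hτ hn

end Cfsg.Agent.H137.FR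
end

-- part: H194/FR/Cnt
section
/-!
# S4970, FR-N4, part 1: a 2-group fixes a pair `{s, -s}` (helper194)

`V` of dimension four with a nondegenerate symmetric form `B`, `δ` skew with `δ² = d`, `-d` not a square, `ν` not a
square: the number of the pairs `{s, -s}`, `s` self-adjoint, commuting with `δ`, `s² = ν`, is odd.
-/

set_option autoImplicit false

universe u

namespace Cfsg.Agent.H194.FR

open Module

/-! ### Parity -/

/-- the fixed points of an involution -/
theorem parity_one {α : Type*} [Finite α] (f : α → α) (hf : ∀ x, f (f x) = x) :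
    Nat.card α % 2 = Nat.card {x // f x = x} % 2 := by
  classical
  have := Fintype.ofFinite α
  have h : Fintype.card α ≡ Fintype.card (Function.fixedPoints f) [MOD 2] := by
    have h1 : (show Function.End α from f) ^ 2 ^ 1 = 1 := by
      rw [pow_one, pow_two]
      exact funext hf
    exact Equiv.Perm.card_fixedPoints_modEq (p := 2) (n := 1) h1
  rw [Nat.card_eq_fintype_card, Nat.card_eq_fintype_card]
  exact h

/-- the common fixed points of two commuting involutions -/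
theorem parity_two {α : Type*} [Finite α] (f g : α → α) (hf : ∀ x, f (f x) = x) (hg : ∀ x, g (g x) = x)
    (hfg : ∀ x, f (g x) = g (f x)) : Nat.card α % 2 = Nat.card {x // f x = x ∧ g x = x} % 2 := by
  rw [parity_one f hf]
  have h := parity_one (α := {x // f x = x}) (fun x => ⟨g x.1, by rw [hfg, x.2]⟩) (fun x => Subtype.ext (hg x.1))
  rw [h]
  congr 1
  refine Nat.card_congr
    { toFun := fun x => ⟨x.1.1, x.1.2, congrArg Subtype.val x.2⟩
      invFun := fun x => ⟨⟨x.1, x.2.1⟩, Subtype.ext x.2.2⟩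
      left_inv := fun x => rfl
      right_inv := fun x => rfl }

variable {F V : Type u} [Field F] [AddCommGroup V] [Module F V]

/-! ### The form -/

/-- nondegenerate symmetric form with a skew operator `δ`, `δ² = d` -/
structure Qd (B : V →ₗ[F] V →ₗ[F] F) (δ : Module.End F V) (d : F) : Prop where
  two : (2 : F) ≠ 0
  nd : ∀ x, (∀ y, B x y = 0) → x = 0
  sym : ∀ x y, B x y = B y x
  dd : ∀ x, δ (δ x) = d • x
  skew : ∀ x y, B (δ x) y = - B x (δ y)
  d0 : d ≠ 0

section form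

variable {B : V →ₗ[F] V →ₗ[F] F} {δ : Module.End F V} {d : F}

theorem eq_zero_of_neg (h2 : (2 : F) ≠ 0) {a : F} (h : a = -a) : a = 0 := by
  have : 2 * a = 0 := by linear_combination h
  exact (mul_eq_zero.1 this).resolve_left h2

theorem Qd.self (h : Qd B δ d) (x : V) : B x (δ x) = 0 := by
  apply eq_zero_of_neg h.two
  rw [← h.skew, h.sym]

theorem Qd.dl (h : Qd B δ d) (x : V) : B (δ x) x = 0 := by rw [h.sym, h.self]

theorem Qd.dB (h : Qd B δ d) (x y : V) : B (δ x) (δ y) = - d * B x y := by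
  rw [h.skew, h.dd, map_smul, smul_eq_mul]
  ring

/-- a vector of non-zero norm orthogonal to a given list -/
theorem Qd.exists_ne (h : Qd B δ d) [Nontrivial V] : ∃ x, B x x ≠ 0 := by
  by_contra hcon
  push Not at hcon
  obtain ⟨x, hx⟩ := _root_.exists_ne (0 : V)
  apply hx
  apply h.nd
  intro y
  have h1 := hcon (x + y)
  simp only [map_add, LinearMap.add_apply, hcon x, hcon y, h.sym y x] at h1
  have : 2 * B x y = 0 := by linear_combination h1
  exact (mul_eq_zero.1 this).resolve_left h.two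

/-- the second vector -/
theorem Qd.exists_two (h : Qd B δ d) [FiniteDimensional F V] (hn : finrank F V = 4) {e : V} (he : B e e ≠ 0) :
    ∃ f, B e f = 0 ∧ B (δ e) f = 0 ∧ B f f ≠ 0 := by
  by_contra hcon
  push Not at hcon
  -- the projection
  let π : V → V := fun v => v - (B e v / B e e) • e + (B (δ e) v / (d * B e e)) • δ e
  have hπ1 : ∀ v, B e (π v) = 0 := by
    intro v
    simp only [π, map_add, map_sub, map_smul, smul_eq_mul, h.self]
    field_simp
    ring
  have hd := h.d0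
  have hπ2 : ∀ v, B (δ e) (π v) = 0 := by
    intro v
    simp only [π, map_add, map_sub, map_smul, smul_eq_mul, h.dl, h.dB]
    field_simp
    ring
  have h0 : ∀ v, π v = 0 := by
    intro v
    apply h.nd
    intro y
    have h1 : ∀ x y, B (π x) (π y) = 0 := by
      intro x y
      have a1 := hcon (π x) (hπ1 x) (hπ2 x)
      have a2 := hcon (π y) (hπ1 y) (hπ2 y)
      have a3 := hcon (π x + π y) (by rw [map_add, hπ1, hπ1, add_zero]) (by rw [map_add, hπ2, hπ2, add_zero])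
      simp only [map_add, LinearMap.add_apply, a1, a2, h.sym (π y) (π x)] at a3
      have : 2 * B (π x) (π y) = 0 := by linear_combination a3
      exact (mul_eq_zero.1 this).resolve_left h.two
    have h2 : y = π y + (B e y / B e e) • e - (B (δ e) y / (d * B e e)) • δ e := by
      simp only [π]
      abel
    rw [h2, map_sub, map_add, map_smul, map_smul, h1, h.sym (π v) e, h.sym (π v) (δ e), hπ1, hπ2]
    simp
  have hspan : (⊤ : Submodule F V) ≤ Submodule.span F ({e, δ e} : Set V) := by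
    intro v _
    have h2 : v = (B e v / B e e) • e - (B (δ e) v / (d * B e e)) • δ e := by
      have := h0 v
      simp only [π] at this
      rw [← sub_eq_zero]
      rw [← this]
      abel
    rw [h2]
    exact Submodule.sub_mem _ (Submodule.smul_mem _ _ (Submodule.subset_span (by simp)))
      (Submodule.smul_mem _ _ (Submodule.subset_span (by simp)))
  have h3 : finrank F V ≤ 2 := by
    classical
    have h4 := finrank_span_finset_le_card (R := F) (M := V) ({e, δ e} : Finset V)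
    have h5 : Submodule.span F (({e, δ e} : Finset V) : Set V) = ⊤ := by
      rw [Finset.coe_pair]
      exact top_le_iff.1 hspan
    rw [Set.finrank, h5, finrank_top] at h4
    exact h4.trans Finset.card_le_two
  omega

end form

/-! ### Coordinates -/

/-- coordinates with respect to four vectors -/
def cmb (e f g k : V) : (F × F × F × F) →ₗ[F] V where
  toFun x := x.1 • e + x.2.1 • f + x.2.2.1 • g + x.2.2.2 • k
  map_add' x y := by
    simp only [Prod.fst_add, Prod.snd_add, add_smul]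
    abel
  map_smul' c x := by
    simp only [Prod.smul_fst, Prod.smul_snd, smul_eq_mul, mul_smul, smul_add, RingHom.id_apply]

theorem cmb_apply (e f g k : V) (x : F × F × F × F) :
    cmb e f g k x = x.1 • e + x.2.1 • f + x.2.2.1 • g + x.2.2.2 • k := rfl

theorem finrank_four : finrank F (F × F × F × F) = 4 := by
  rw [finrank_prod, finrank_prod, finrank_prod, finrank_self]

/-- the coordinates form an isomorphism as soon as they are injective -/
theorem exists_equiv [FiniteDimensional F V] (hn : finrank F V = 4) (e f g k : V)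
    (h : ∀ x : F × F × F × F, cmb e f g k x = 0 → x = 0) :
    ∃ Φ : (F × F × F × F) ≃ₗ[F] V, ∀ x, Φ x = x.1 • e + x.2.1 • f + x.2.2.1 • g + x.2.2.2 • k := by
  refine ⟨LinearEquiv.ofInjective (cmb (F := F) e f g k) ?_ |>.trans (LinearEquiv.ofTop _ ?_), fun x => rfl⟩
  · rw [← LinearMap.ker_eq_bot, LinearMap.ker_eq_bot']
    exact h
  · have hi : Function.Injective (cmb (F := F) e f g k) := by
      rw [← LinearMap.ker_eq_bot, LinearMap.ker_eq_bot']
      exact h
    apply Submodule.eq_top_of_finrank_eq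
    rw [LinearMap.finrank_range_of_inj hi, finrank_four, hn]

section coord

variable {B : V →ₗ[F] V →ₗ[F] F} {δ : Module.End F V} {d : F}

/-- the coordinates adapted to `B`, `δ` -/
structure Crd (B : V →ₗ[F] V →ₗ[F] F) (δ : Module.End F V) (d m n : F) (Φ : (F × F × F × F) ≃ₗ[F] V) : Prop where
  m0 : m ≠ 0
  n0 : n ≠ 0
  B : ∀ x y, B (Φ x) (Φ y) = m * x.1 * y.1 - d * m * x.2.1 * y.2.1 + n * x.2.2.1 * y.2.2.1 - d * n * x.2.2.2 * y.2.2.2
  δ : ∀ x, δ (Φ x) = Φ (d * x.2.1, x.1, d * x.2.2.2, x.2.2.1)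

theorem Qd.exists_crd (h : Qd B δ d) [FiniteDimensional F V] (hn : finrank F V = 4) :
    ∃ (m n : F) (Φ : (F × F × F × F) ≃ₗ[F] V), Crd B δ d m n Φ := by
  have : Nontrivial V := Module.nontrivial_of_finrank_pos (R := F) (by omega)
  obtain ⟨e, he⟩ := h.exists_ne
  obtain ⟨f, hf1, hf2, hf⟩ := h.exists_two hn he
  have hf3 : B e (δ f) = 0 := by
    have := h.skew e f
    rw [hf2] at this
    exact neg_eq_zero.1 this.symm
  have hf4 : B (δ e) (δ f) = 0 := by rw [h.dB, hf1, mul_zero]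
  have key : ∀ x y : F × F × F × F, B (cmb e (δ e) f (δ f) x) (cmb e (δ e) f (δ f) y) =
      B e e * x.1 * y.1 - d * B e e * x.2.1 * y.2.1 + B f f * x.2.2.1 * y.2.2.1 - d * B f f * x.2.2.2 * y.2.2.2 := by
    intro x y
    simp only [cmb_apply, map_add, map_smul, LinearMap.add_apply, LinearMap.smul_apply, smul_eq_mul, h.self, h.dl, h.dB,
      hf1, hf2, hf3, h.sym f e, h.sym (δ f) e, h.sym f (δ e)]
    ring
  obtain ⟨Φ, hΦ⟩ := exists_equiv hn e (δ e) f (δ f) (by
    intro x hx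
    have hd := h.d0
    have h1 := key x (1, 0, 0, 0)
    have h2 := key x (0, 1, 0, 0)
    have h3 := key x (0, 0, 1, 0)
    have h4 := key x (0, 0, 0, 1)
    simp only [hx, map_zero, LinearMap.zero_apply, mul_one, mul_zero, sub_zero, add_zero, zero_sub, zero_add] at h1 h2 h3 h4
    have a1 : x.1 = 0 := (mul_eq_zero.1 h1.symm).resolve_left he
    have a2 : x.2.1 = 0 := (mul_eq_zero.1 (neg_eq_zero.1 h2.symm)).resolve_left (mul_ne_zero hd he)
    have a3 : x.2.2.1 = 0 := (mul_eq_zero.1 h3.symm).resolve_left hf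
    have a4 : x.2.2.2 = 0 := (mul_eq_zero.1 (neg_eq_zero.1 h4.symm)).resolve_left (mul_ne_zero hd hf)
    exact Prod.ext a1 (Prod.ext a2 (Prod.ext a3 a4)))
  have hΦ' : ∀ x, Φ x = cmb e (δ e) f (δ f) x := hΦ
  refine ⟨B e e, B f f, Φ, he, hf, fun x y => by rw [hΦ', hΦ', key], fun x => ?_⟩
  rw [hΦ, hΦ]
  simp only [map_add, map_smul, h.dd, smul_smul]
  rw [mul_comm d x.2.1, mul_comm d x.2.2.2]
  abel

/-! ### Operators -/

/-- self-adjoint operators commuting with `δ`, of square `ν` -/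
def Sx (B : V →ₗ[F] V →ₗ[F] F) (δ : Module.End F V) (ν : F) : Set (Module.End F V) :=
  {s | (∀ x, s (δ x) = δ (s x)) ∧ (∀ x y, B (s x) y = B x (s y)) ∧ ∀ x, s (s x) = ν • x}

/-- a linear map of `F⁴` from a formula -/
def o0 : (F × F × F × F) →ₗ[F] (F × F × F × F) where
  toFun x := (x.1, x.2.1, -x.2.2.1, -x.2.2.2)
  map_add' x y := by (refine And.elim (fun cj1 => And.elim fun cj2 => And.elim fun cj3 cj4 => by ext; exacts [cj1, cj2, cj3, cj4]) ?_; simp [add_comm])
  map_smul' c x := by ext <;> simp only [_root_.Prod.smul_fst, _root_.smul_eq_mul, _root_.RingHom.id_apply, _root_.Prod.smul_mk, _root_.mul_neg, _root_.Prod.smul_snd]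

/-- the second map -/
def o1 (μ : F) : (F × F × F × F) →ₗ[F] (F × F × F × F) where
  toFun x := (μ * x.2.2.1, μ * x.2.2.2, x.1, x.2.1)
  map_add' x y := by ext <;> simp only [mul_add, _root_.Prod.snd_add, _root_.Prod.fst_add, _root_.Prod.mk_add_mk]
  map_smul' c x := by ext <;> simp [mul_left_comm]

/-- the third map -/
def o2 (d μ : F) : (F × F × F × F) →ₗ[F] (F × F × F × F) where
  toFun x := (-(μ * d) * x.2.2.2, -μ * x.2.2.1, d * x.2.1, x.1)
  map_add' x y := by ext <;> simp only [_root_.Prod.snd_add, _root_.neg_mul, _root_.Prod.mk_add_mk, _root_.Prod.fst_add] <;> ring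
  map_smul' c x := by ext <;> simp only [_root_.Prod.smul_snd, _root_.smul_eq_mul, _root_.neg_mul, _root_.RingHom.id_apply, _root_.Prod.smul_mk, _root_.mul_neg, _root_.neg_inj, _root_.Prod.smul_fst] <;> ring

theorem o0_apply (x : F × F × F × F) : o0 x = (x.1, x.2.1, -x.2.2.1, -x.2.2.2) := rfl

theorem o1_apply (μ : F) (x : F × F × F × F) : o1 μ x = (μ * x.2.2.1, μ * x.2.2.2, x.1, x.2.1) := rfl

theorem o2_apply (d μ : F) (x : F × F × F × F) :
    o2 d μ x = (-(μ * d) * x.2.2.2, -μ * x.2.2.1, d * x.2.1, x.1) := rfl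

/-- transport to `V` -/
def op (Φ : (F × F × F × F) ≃ₗ[F] V) (f : (F × F × F × F) →ₗ[F] (F × F × F × F)) : Module.End F V :=
  (Φ : (F × F × F × F) →ₗ[F] V) ∘ₗ f ∘ₗ (Φ.symm : V →ₗ[F] (F × F × F × F))

theorem op_apply (Φ : (F × F × F × F) ≃ₗ[F] V) (f : (F × F × F × F) →ₗ[F] (F × F × F × F)) (x : F × F × F × F) :
    op Φ f (Φ x) = Φ (f x) := by
  simp [op]

theorem ext_of {s s' : Module.End F V} (Φ : (F × F × F × F) ≃ₗ[F] V) (h : ∀ x, s (Φ x) = s' (Φ x)) : s = s' := by
  ext v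
  obtain ⟨x, rfl⟩ := Φ.surjective v
  exact h x

variable {m n : F} {Φ : (F × F × F × F) ≃ₗ[F] V}

/-- an operator commuting with `δ` is given by the images of two vectors -/
theorem Crd.ext (h : Crd B δ d m n Φ) {s s' : Module.End F V} (hs : ∀ x, s (δ x) = δ (s x))
    (hs' : ∀ x, s' (δ x) = δ (s' x)) (h1 : s (Φ (1, 0, 0, 0)) = s' (Φ (1, 0, 0, 0)))
    (h2 : s (Φ (0, 0, 1, 0)) = s' (Φ (0, 0, 1, 0))) : s = s' := by
  apply ext_of Φ
  intro x
  have e1 : Φ x = x.1 • Φ (1, 0, 0, 0) + x.2.1 • δ (Φ (1, 0, 0, 0)) + x.2.2.1 • Φ (0, 0, 1, 0) +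
      x.2.2.2 • δ (Φ (0, 0, 1, 0)) := by
    rw [h.δ, h.δ, ← map_smul, ← map_smul, ← map_smul, ← map_smul, ← map_add, ← map_add, ← map_add]
    congr 1
    ext <;> simp
  rw [e1]
  simp only [map_add, map_smul, hs, hs', h1, h2]

theorem Crd.sa_o0 (h : Crd B δ d m n Φ) : op Φ o0 ∈ Sx B δ 1 := by
  refine ⟨fun v => ?_, fun v w => ?_, fun v => ?_⟩
  · obtain ⟨x, rfl⟩ := Φ.surjective v
    rw [h.δ, op_apply, op_apply, h.δ, o0_apply, o0_apply]
    congr 1
    ext <;> simp
  · obtain ⟨x, rfl⟩ := Φ.surjective v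
    obtain ⟨y, rfl⟩ := Φ.surjective w
    rw [op_apply, op_apply, h.B, h.B, o0_apply, o0_apply]
    ring
  · obtain ⟨x, rfl⟩ := Φ.surjective v
    rw [op_apply, op_apply, o0_apply, o0_apply, one_smul]
    congr 1
    ext <;> simp

theorem Crd.sa_o1 (h : Crd B δ d m n Φ) : op Φ (o1 (n / m)) ∈ Sx B δ (n / m) := by
  have hm := h.m0
  refine ⟨fun v => ?_, fun v w => ?_, fun v => ?_⟩
  · obtain ⟨x, rfl⟩ := Φ.surjective v
    rw [h.δ, op_apply, op_apply, h.δ, o1_apply, o1_apply]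
    congr 1
    ext <;> simp [mul_left_comm]
  · obtain ⟨x, rfl⟩ := Φ.surjective v
    obtain ⟨y, rfl⟩ := Φ.surjective w
    rw [op_apply, op_apply, h.B, h.B, o1_apply, o1_apply]
    field_simp
    ring
  · obtain ⟨x, rfl⟩ := Φ.surjective v
    rw [op_apply, op_apply, o1_apply, o1_apply, ← map_smul]
    congr 1

theorem Crd.sa_o2 (h : Crd B δ d m n Φ) : op Φ (o2 d (n / m)) ∈ Sx B δ (-(d * (n / m))) := by
  have hm := h.m0
  refine ⟨fun v => ?_, fun v w => ?_, fun v => ?_⟩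
  · obtain ⟨x, rfl⟩ := Φ.surjective v
    rw [h.δ, op_apply, op_apply, h.δ, o2_apply, o2_apply]
    congr 1
    ext <;> simp only [_root_.neg_mul, _root_.mul_neg, _root_.neg_inj] <;> ring
  · obtain ⟨x, rfl⟩ := Φ.surjective v
    obtain ⟨y, rfl⟩ := Φ.surjective w
    rw [op_apply, op_apply, h.B, h.B, o2_apply, o2_apply]
    field_simp
    ring
  · obtain ⟨x, rfl⟩ := Φ.surjective v
    rw [op_apply, op_apply, o2_apply, o2_apply, ← map_smul]
    congr 1
    ext <;> simp only [Prod.smul_fst, Prod.smul_snd, smul_eq_mul] <;> ring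

theorem Qd.self_s (hq : Qd B δ d) {ν : F} {s : Module.End F V} (hs : s ∈ Sx B δ ν) (x : V) :
    B (s x) (δ x) = 0 := by
  obtain ⟨h1, h2, -⟩ := hs
  apply eq_zero_of_neg hq.two
  calc B (s x) (δ x) = B x (δ (s x)) := by rw [h2, h1]
    _ = - B (δ x) (s x) := by rw [hq.skew, neg_neg]
    _ = _ := by rw [hq.sym]

/-- a self-adjoint operator commuting with `δ` and with `op o0` has an eigenvector -/
theorem Crd.not_comm (h : Crd B δ d m n Φ) (hq : Qd B δ d) {ν : F} (hν : ¬ IsSquare ν) {s : Module.End F V}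
    (hs : s ∈ Sx B δ ν) (hc : ∀ x, op Φ o0 (s x) = s (op Φ o0 x)) : False := by
  obtain ⟨h1, h2, h3⟩ := id hs
  obtain ⟨a, ha⟩ := Φ.surjective (s (Φ (1, 0, 0, 0)))
  have e1 := hc (Φ (1, 0, 0, 0))
  rw [← ha, op_apply, op_apply, o0_apply, o0_apply] at e1
  have e2 : Φ ((1 : F), (0 : F), -(0 : F), -(0 : F)) = Φ (1, 0, 0, 0) := by rw [neg_zero]
  simp only [e2] at e1
  rw [← ha] at e1
  have e3 := Φ.injective e1
  have a3 : a.2.2.1 = 0 := by
    have := congrArg (fun z : F × F × F × F => z.2.2.1) e3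
    exact eq_zero_of_neg hq.two this.symm
  have a4 : a.2.2.2 = 0 := by
    have := congrArg (fun z : F × F × F × F => z.2.2.2) e3
    exact eq_zero_of_neg hq.two this.symm
  -- the coefficient at `δ e`
  have hm := h.m0
  have hd := hq.d0
  have e4 := hq.self_s hs (Φ (1, 0, 0, 0))
  have a2 : a.2.1 = 0 := by
    rw [← ha, h.δ, h.B] at e4
    simp only [mul_one, mul_zero, zero_sub, add_zero, sub_zero] at e4
    exact (mul_eq_zero.1 (neg_eq_zero.1 e4)).resolve_left (mul_ne_zero hd hm)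
  apply hν
  have e5 := h3 (Φ (1, 0, 0, 0))
  have e6 : a = a.1 • ((1 : F), (0 : F), (0 : F), (0 : F)) := by
    ext <;> simp [a2, a3, a4]
  rw [← ha, e6, map_smul, map_smul, ← ha, e6, map_smul, smul_smul, ← map_smul, ← map_smul] at e5
  have e7 := congrArg Prod.fst (Φ.injective e5)
  simp only [Prod.smul_fst, smul_eq_mul, mul_one] at e7
  exact ⟨a.1, e7.symm⟩

theorem smul_sq {ν κ b : F} {s t : Module.End F V} (hs : ∀ x, s (s x) = ν • x) (ht : ∀ x, t (t x) = κ • x)
    (h : s = b • t) {v : V} (hv : v ≠ 0) : b * b * κ = ν := by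
  have h1 := hs v
  rw [h, LinearMap.smul_apply, LinearMap.smul_apply, map_smul, ht, smul_smul, smul_smul] at h1
  have h2 : (b * b * κ - ν) • v = 0 := by rw [sub_smul, h1, sub_self]
  exact sub_eq_zero.1 ((smul_eq_zero.1 h2).resolve_right hv)

theorem Crd.e_ne (_ : Crd B δ d m n Φ) : Φ ((1 : F), (0 : F), (0 : F), (0 : F)) ≠ 0 := by
  intro h
  have h1 := congrArg Prod.fst (Φ.injective (h.trans (map_zero Φ).symm))
  exact one_ne_zero h1

theorem Crd.anti_comm (h : Crd B δ d m n Φ) (hq : Qd B δ d) {ν : F} {s : Module.End F V}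
    (hs : s ∈ Sx B δ ν) (hc : ∀ x, op Φ o0 (s x) = - s (op Φ o0 x))
    (hc1 : ∀ x, op Φ (o1 (n / m)) (s x) = s (op Φ (o1 (n / m)) x)) :
    ∃ b : F, s = b • op Φ (o1 (n / m)) ∧ b * b * (n / m) = ν := by
  obtain ⟨h1, h2, h3⟩ := id hs
  have hm := h.m0
  have hn := h.n0
  have hd := hq.d0
  obtain ⟨a, ha⟩ := Φ.surjective (s (Φ (1, 0, 0, 0)))
  have e1 := hc (Φ (1, 0, 0, 0))
  rw [← ha, op_apply, op_apply, o0_apply, o0_apply] at e1
  have e2 : Φ ((1 : F), (0 : F), -(0 : F), -(0 : F)) = Φ (1, 0, 0, 0) := by rw [neg_zero]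
  simp only [e2] at e1
  rw [← ha, ← map_neg] at e1
  have e3 := Φ.injective e1
  have a1 : a.1 = 0 := eq_zero_of_neg hq.two (congrArg Prod.fst e3)
  have a2 : a.2.1 = 0 := eq_zero_of_neg hq.two (congrArg (fun z : F × F × F × F => z.2.1) e3)
  have e4 : op Φ (o1 (n / m)) (Φ (1, 0, 0, 0)) = Φ (0, 0, 1, 0) := by
    rw [op_apply, o1_apply]
    simp
  have e5 : s (Φ (0, 0, 1, 0)) = Φ (n / m * a.2.2.1, n / m * a.2.2.2, 0, 0) := by
    rw [← e4, ← hc1, ← ha, op_apply, o1_apply, a1, a2]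
  have e6 : B (s (Φ (1, 0, 0, 0))) (δ (Φ (0, 0, 1, 0))) = - B (δ (Φ (1, 0, 0, 0))) (s (Φ (0, 0, 1, 0))) := by
    rw [h2, h1, hq.skew, neg_neg]
  have a4 : a.2.2.2 = 0 := by
    rw [← ha, e5, h.δ, h.δ, h.B, h.B] at e6
    simp only [mul_one, mul_zero, zero_sub, add_zero, sub_zero, zero_mul, neg_neg] at e6
    field_simp at e6
    exact eq_zero_of_neg hq.two e6.symm
  have e8 : s = a.2.2.1 • op Φ (o1 (n / m)) := by
    apply h.ext h1 (fun x => by rw [LinearMap.smul_apply, LinearMap.smul_apply, h.sa_o1.1, map_smul])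
    · rw [← ha, LinearMap.smul_apply, e4, ← map_smul]
      congr 1
      ext <;> simp [a1, a2, a4]
    · rw [e5, LinearMap.smul_apply, op_apply, o1_apply, ← map_smul, a4]
      congr 1
      ext <;> simp only [mul_comm, _root_.mul_one, _root_.MulZeroClass.mul_zero, _root_.Prod.smul_mk, _root_.smul_eq_mul]
  exact ⟨a.2.2.1, e8, smul_sq h3 h.sa_o1.2.2 e8 h.e_ne⟩

theorem Crd.anti_anti (h : Crd B δ d m n Φ) (hq : Qd B δ d) {ν : F} {s : Module.End F V}
    (hs : s ∈ Sx B δ ν) (hc : ∀ x, op Φ o0 (s x) = - s (op Φ o0 x))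
    (hc1 : ∀ x, op Φ (o1 (n / m)) (s x) = - s (op Φ (o1 (n / m)) x)) :
    ∃ b : F, s = b • op Φ (o2 d (n / m)) ∧ b * b * (-(d * (n / m))) = ν := by
  obtain ⟨h1, h2, h3⟩ := id hs
  have hm := h.m0
  have hn := h.n0
  have hd := hq.d0
  obtain ⟨a, ha⟩ := Φ.surjective (s (Φ (1, 0, 0, 0)))
  have e1 := hc (Φ (1, 0, 0, 0))
  rw [← ha, op_apply, op_apply, o0_apply, o0_apply] at e1
  have e2 : Φ ((1 : F), (0 : F), -(0 : F), -(0 : F)) = Φ (1, 0, 0, 0) := by rw [neg_zero]
  simp only [e2] at e1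
  rw [← ha, ← map_neg] at e1
  have e3 := Φ.injective e1
  have a1 : a.1 = 0 := eq_zero_of_neg hq.two (congrArg Prod.fst e3)
  have a2 : a.2.1 = 0 := eq_zero_of_neg hq.two (congrArg (fun z : F × F × F × F => z.2.1) e3)
  have e4 : op Φ (o1 (n / m)) (Φ (1, 0, 0, 0)) = Φ (0, 0, 1, 0) := by
    rw [op_apply, o1_apply]
    simp
  have e5 : s (Φ (0, 0, 1, 0)) = - Φ (n / m * a.2.2.1, n / m * a.2.2.2, 0, 0) := by
    have := hc1 (Φ (1, 0, 0, 0))
    rw [e4, ← ha, op_apply, o1_apply, a1, a2] at this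
    rw [this, neg_neg]
  have e6 : B (s (Φ (1, 0, 0, 0))) (Φ (0, 0, 1, 0)) = B (Φ (1, 0, 0, 0)) (s (Φ (0, 0, 1, 0))) := h2 _ _
  have a3 : a.2.2.1 = 0 := by
    rw [← ha, e5, map_neg, h.B, h.B] at e6
    simp only [mul_one, mul_zero, add_zero, sub_zero, zero_add, zero_mul] at e6
    field_simp at e6
    exact eq_zero_of_neg hq.two e6
  have e8 : s = a.2.2.2 • op Φ (o2 d (n / m)) := by
    apply h.ext h1 (fun x => by rw [LinearMap.smul_apply, LinearMap.smul_apply, h.sa_o2.1, map_smul])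
    · rw [← ha, LinearMap.smul_apply, op_apply, o2_apply, ← map_smul]
      congr 1
      ext <;> simp only [a1, a2, a3, _root_.MulZeroClass.mul_zero, _root_.Prod.smul_mk, _root_.smul_eq_mul, _root_.mul_one]
    · rw [e5, LinearMap.smul_apply, op_apply, o2_apply, ← map_smul, a3, ← map_neg]
      congr 1
      ext <;> simp only [mul_comm, _root_.MulZeroClass.mul_zero, _root_.Prod.neg_mk, _root_.neg_zero, _root_.mul_one, _root_.Prod.smul_mk, _root_.smul_eq_mul, _root_.mul_neg]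
  exact ⟨a.2.2.2, e8, smul_sq h3 h.sa_o2.2.2 e8 h.e_ne⟩

/-! ### Pairs -/

/-- the pairs `{s, -s}` -/
abbrev Pr (B : V →ₗ[F] V →ₗ[F] F) (δ : Module.End F V) (ν : F) : Type u :=
  {ω : Set (Module.End F V) // ∃ s ∈ Sx B δ ν, ω = {s, -s}}

/-- conjugation by `a`, `a² = α` -/
def cj (a : Module.End F V) (α : F) (s : Module.End F V) : Module.End F V := α⁻¹ • (a * s * a)

theorem cj_apply (a : Module.End F V) (α : F) (s : Module.End F V) (x : V) : cj a α s x = α⁻¹ • a (s (a x)) := rfl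

theorem cj_neg (a : Module.End F V) (α : F) (s : Module.End F V) : cj a α (-s) = - cj a α s := by
  ext x
  rw [cj_apply, LinearMap.neg_apply, LinearMap.neg_apply, cj_apply, map_neg, smul_neg]

theorem cj_mem {α ν : F} (hα : α ≠ 0) {a s : Module.End F V} (ha : a ∈ Sx B δ α) (hs : s ∈ Sx B δ ν) :
    cj a α s ∈ Sx B δ ν := by
  obtain ⟨h1, h2, h3⟩ := hs
  obtain ⟨a1, a2, a3⟩ := ha
  refine ⟨fun x => ?_, fun x y => ?_, fun x => ?_⟩
  · rw [cj_apply, cj_apply, a1, h1, a1, map_smul]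
  · rw [cj_apply, cj_apply, map_smul, LinearMap.smul_apply, map_smul, a2, h2, a2]
  · simp only [cj_apply, map_smul, a3, h3, smul_smul]
    congr 1
    field_simp

theorem cj_cj {α : F} (hα : α ≠ 0) {a : Module.End F V} (ha : a ∈ Sx B δ α) (s : Module.End F V) :
    cj a α (cj a α s) = s := by
  obtain ⟨a1, a2, a3⟩ := ha
  ext x
  simp only [cj_apply, map_smul, a3, smul_smul]
  refine Eq.trans ?_ (one_smul F (s x))
  congr 1
  field_simp

/-- conjugation on the pairs -/
def th {α ν : F} (hα : α ≠ 0) {a : Module.End F V} (ha : a ∈ Sx B δ α) (ω : Pr B δ ν) : Pr B δ ν :=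
  ⟨cj a α '' ω.1, by
    obtain ⟨s, hs, h⟩ := ω.2
    refine ⟨cj a α s, cj_mem hα ha hs, ?_⟩
    rw [h, Set.image_pair, cj_neg]⟩

theorem th_th {α ν : F} (hα : α ≠ 0) {a : Module.End F V} (ha : a ∈ Sx B δ α) (ω : Pr B δ ν) :
    th hα ha (th hα ha ω) = ω := by
  apply Subtype.ext
  show cj a α '' (cj a α '' ω.1) = ω.1
  rw [Set.image_image]
  simp only [cj_cj hα ha, Set.image_id']

theorem fix_th {α ν : F} (hα : α ≠ 0) {a : Module.End F V} (ha : a ∈ Sx B δ α) {ω : Pr B δ ν}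
    (hω : th hα ha ω = ω) {s : Module.End F V} (hs : ω.1 = {s, -s}) :
    (∀ x, a (s x) = s (a x)) ∨ ∀ x, a (s x) = - s (a x) := by
  have h1 : cj a α s ∈ ω.1 := by
    rw [← hω]
    exact ⟨s, by rw [hs]; simp, rfl⟩
  rw [hs] at h1
  have key : ∀ x, a (s x) = cj a α s (a x) := by
    intro x
    rw [cj_apply, ha.2.2, map_smul, map_smul, smul_smul, inv_mul_cancel₀ hα, one_smul]
  rcases h1 with h1 | h1
  · left
    intro x
    rw [key, h1]
  · right
    intro x
    rw [key, Set.mem_singleton_iff.1 h1, LinearMap.neg_apply]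

theorem th_fix {α ν : F} (hα : α ≠ 0) {a : Module.End F V} (ha : a ∈ Sx B δ α) {ω : Pr B δ ν}
    {s : Module.End F V} (hs : ω.1 = {s, -s}) (h : (∀ x, a (s x) = s (a x)) ∨ ∀ x, a (s x) = - s (a x)) :
    th hα ha ω = ω := by
  apply Subtype.ext
  show cj a α '' ω.1 = ω.1
  have h1 : cj a α s = s ∨ cj a α s = - s := by
    rcases h with h | h
    · left
      ext x
      rw [cj_apply, h, ha.2.2, map_smul, smul_smul, inv_mul_cancel₀ hα, one_smul]
    · right
      ext x
      rw [cj_apply, h, ha.2.2, map_smul, smul_neg, smul_smul, inv_mul_cancel₀ hα, one_smul, LinearMap.neg_apply]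
  rw [hs, Set.image_pair, cj_neg]
  rcases h1 with h1 | h1
  · rw [h1]
  · rw [h1, neg_neg, Set.pair_comm]

theorem Sx.smul {κ : F} {t : Module.End F V} (h : t ∈ Sx B δ κ) (b : F) : b • t ∈ Sx B δ (b * b * κ) := by
  obtain ⟨h1, h2, h3⟩ := h
  refine ⟨fun x => ?_, fun x y => ?_, fun x => ?_⟩
  · rw [LinearMap.smul_apply, LinearMap.smul_apply, h1, map_smul]
  · rw [LinearMap.smul_apply, LinearMap.smul_apply, map_smul, LinearMap.smul_apply, h2, map_smul]
  · rw [LinearMap.smul_apply, LinearMap.smul_apply, map_smul, h3, smul_smul, smul_smul, mul_assoc]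

theorem Crd.o0_o2 (_ : Crd B δ d m n Φ) (x : V) :
    op Φ o0 (op Φ (o2 d (n / m)) x) = - op Φ (o2 d (n / m)) (op Φ o0 x) := by
  obtain ⟨y, rfl⟩ := Φ.surjective x
  rw [op_apply, op_apply, op_apply, op_apply, ← map_neg]
  congr 1
  ext <;> simp only [o0_apply, o2_apply, _root_.neg_mul, _root_.mul_neg, _root_.neg_neg, _root_.Prod.neg_mk]

theorem Crd.o1_o2 (_ : Crd B δ d m n Φ) (x : V) :
    op Φ (o1 (n / m)) (op Φ (o2 d (n / m)) x) = - op Φ (o2 d (n / m)) (op Φ (o1 (n / m)) x) := by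
  obtain ⟨y, rfl⟩ := Φ.surjective x
  rw [op_apply, op_apply, op_apply, op_apply, ← map_neg]
  congr 1
  ext <;> simp only [o1_apply, o2_apply, Prod.fst_neg, Prod.snd_neg] <;> ring

theorem Crd.o0_o1 (_ : Crd B δ d m n Φ) (x : V) :
    op Φ o0 (op Φ (o1 (n / m)) x) = - op Φ (o1 (n / m)) (op Φ o0 x) := by
  obtain ⟨y, rfl⟩ := Φ.surjective x
  rw [op_apply, op_apply, op_apply, op_apply, ← map_neg]
  congr 1
  ext <;> simp only [o0_apply, o1_apply, _root_.mul_neg, _root_.Prod.neg_mk, _root_.neg_neg]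

theorem sq_mul [Finite F] {a b : F} (ha : ¬ IsSquare a) (hb : ¬ IsSquare b) : IsSquare (a * b) := by
  classical
  have := Fintype.ofFinite F
  have ha0 : a ≠ 0 := by rintro rfl; exact ha (IsSquare.zero)
  have hb0 : b ≠ 0 := by rintro rfl; exact hb (IsSquare.zero)
  by_cases h2 : ringChar F = 2
  · exact FiniteField.isSquare_of_char_two h2 _
  · rw [← quadraticChar_one_iff_isSquare (mul_ne_zero ha0 hb0), map_mul,
      quadraticChar_neg_one_iff_not_isSquare.2 ha, quadraticChar_neg_one_iff_not_isSquare.2 hb]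
    norm_num

/-- the number of the pairs is odd -/
theorem Crd.odd_card [Finite F] [Finite V] (h : Crd B δ d m n Φ) (hq : Qd B δ d) (hd : ¬ IsSquare (-d)) {ν : F}
    (hν : ¬ IsSquare ν) : Nat.card (Pr B δ ν) % 2 = 1 := by
  classical
  have hm := h.m0
  have hn := h.n0
  have hμ : n / m ≠ 0 := div_ne_zero hn hm
  have hfin : Finite (Module.End F V) := Finite.of_injective (fun f : Module.End F V => (f : V → V)) DFunLike.coe_injective
  have : Finite (Pr B δ ν) := inferInstance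
  rw [parity_two (th one_ne_zero h.sa_o0) (th hμ h.sa_o1) (th_th _ _) (th_th _ _) (by
    intro ω
    apply Subtype.ext
    show cj (op Φ o0) 1 '' (cj (op Φ (o1 (n / m))) (n / m) '' ω.1) =
      cj (op Φ (o1 (n / m))) (n / m) '' (cj (op Φ o0) 1 '' ω.1)
    rw [Set.image_image, Set.image_image]
    apply Set.image_congr
    intro s _
    ext x
    simp only [cj_apply, map_smul, h.o0_o1, map_neg, smul_neg]
    rw [smul_comm])]
  have hcase : ∀ s ∈ Sx B δ ν, ∀ ω : Pr B δ ν, ω.1 = {s, -s} → th one_ne_zero h.sa_o0 ω = ω →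
      th hμ h.sa_o1 ω = ω → (∃ b : F, s = b • op Φ (o1 (n / m)) ∧ b * b * (n / m) = ν) ∨
        ∃ b : F, s = b • op Φ (o2 d (n / m)) ∧ b * b * (-(d * (n / m))) = ν := by
    intro s hs ω hω h0 h1
    have c0 : ∀ x, op Φ o0 (s x) = - s (op Φ o0 x) := by
      rcases fix_th _ _ h0 hω with h2 | h2
      · exact (h.not_comm hq hν hs h2).elim
      · exact h2
    rcases fix_th _ _ h1 hω with h2 | h2
    · exact Or.inl (h.anti_comm hq hs c0 h2)
    · exact Or.inr (h.anti_anti hq hs c0 h2)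
  have hν0 : ν ≠ 0 := by rintro rfl; exact hν IsSquare.zero
  -- the two cases exclude each other
  have hexcl : ∀ b c : F, b * b * (n / m) = ν → c * c * (-(d * (n / m))) = ν → False := by
    intro b c hb hc
    have hc0 : c ≠ 0 := by
      rintro rfl
      rw [mul_zero, zero_mul] at hc
      exact hν0 hc.symm
    apply hd
    refine ⟨b / c, ?_⟩
    field_simp
    have : (b * b - c * c * (-d)) * (n / m) = 0 := by linear_combination hb - hc
    have h2 := (mul_eq_zero.1 this).resolve_right hμ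
    linear_combination -h2
  have hpm : ∀ (b c κ : F), κ ≠ 0 → b * b * κ = ν → c * c * κ = ν → b = c ∨ b = -c := by
    intro b c κ hκ hb hc
    have h1 : (b - c) * (b + c) * κ = 0 := by linear_combination hb - hc
    rcases mul_eq_zero.1 ((mul_eq_zero.1 h1).resolve_right hκ) with h2 | h2
    · exact Or.inl (sub_eq_zero.1 h2)
    · exact Or.inr (eq_neg_of_add_eq_zero_left h2)
  have huniq : Nat.card {ω : Pr B δ ν // th one_ne_zero h.sa_o0 ω = ω ∧ th hμ h.sa_o1 ω = ω} = 1 := by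
    rw [Nat.card_eq_one_iff_unique]
    constructor
    · constructor
      rintro ⟨ω, h0, h1⟩ ⟨ω', h0', h1'⟩
      apply Subtype.ext
      apply Subtype.ext
      obtain ⟨s, hs, hω⟩ := ω.2
      obtain ⟨s', hs', hω'⟩ := ω'.2
      show ω.1 = ω'.1
      have hss : ∀ (t : Module.End F V) (b c : F), s = b • t → s' = c • t → (b = c ∨ b = -c) → ω.1 = ω'.1 := by
        intro t b c e1 e2 e3
        rw [hω, hω', e1, e2]
        rcases e3 with rfl | rfl
        · rfl
        · rw [neg_smul, neg_neg, Set.pair_comm]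
      have hdn : d * (n / m) ≠ 0 := mul_ne_zero hq.d0 hμ
      rcases hcase s hs ω hω h0 h1 with ⟨b, e1, e2⟩ | ⟨b, e1, e2⟩ <;>
        rcases hcase s' hs' ω' hω' h0' h1' with ⟨c, e3, e4⟩ | ⟨c, e3, e4⟩
      · exact hss _ b c e1 e3 (hpm b c _ hμ e2 e4)
      · exact (hexcl b c e2 e4).elim
      · exact (hexcl c b e4 e2).elim
      · exact hss _ b c e1 e3 (hpm b c _ (neg_ne_zero.2 hdn) e2 e4)
    · by_cases hsq : IsSquare (ν / (n / m))
      · obtain ⟨b, hb⟩ := hsq
        have hb' : b * b * (n / m) = ν := by rw [← hb, div_mul_cancel₀ _ hμ]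
        have hs := Sx.smul h.sa_o1 b
        rw [hb'] at hs
        refine ⟨⟨⟨{b • op Φ (o1 (n / m)), -(b • op Φ (o1 (n / m)))}, _, hs, rfl⟩, th_fix _ _ rfl (Or.inr fun x => ?_),
          th_fix _ _ rfl (Or.inl fun x => ?_)⟩⟩
        · rw [LinearMap.smul_apply, LinearMap.smul_apply, map_smul, h.o0_o1, smul_neg]
        · rw [LinearMap.smul_apply, LinearMap.smul_apply, map_smul]
      · have h1 := sq_mul hsq (b := (-d)⁻¹) (fun h2 => hd (by
          have := h2.inv
          rwa [inv_inv] at this))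
        obtain ⟨b, hb⟩ := h1
        have hd0 := hq.d0
        have hb' : b * b * (-(d * (n / m))) = ν := by
          rw [← hb, div_mul_eq_mul_div, div_mul_eq_mul_div, div_eq_iff hμ]
          field_simp
        have hs := Sx.smul h.sa_o2 b
        rw [hb'] at hs
        refine ⟨⟨⟨{b • op Φ (o2 d (n / m)), -(b • op Φ (o2 d (n / m)))}, _, hs, rfl⟩, th_fix _ _ rfl (Or.inr fun x => ?_),
          th_fix _ _ rfl (Or.inr fun x => ?_)⟩⟩
        · rw [LinearMap.smul_apply, LinearMap.smul_apply, map_smul, h.o0_o2, smul_neg]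
        · rw [LinearMap.smul_apply, LinearMap.smul_apply, map_smul, h.o1_o2, smul_neg]
  rw [huniq]

end coord

/-! ### The action of a 2-group -/

section act

variable {B : V →ₗ[F] V →ₗ[F] F} {δ : Module.End F V} {d ν : F}

/-- `g` is a similarity of `B` that centralises or negates `δ` -/
def Gd (B : V →ₗ[F] V →ₗ[F] F) (δ : Module.End F V) (g : V ≃ₗ[F] V) : Prop :=
  (∃ η : F, η ≠ 0 ∧ ∀ x y, B (g x) (g y) = η * B x y) ∧ ((∀ x, g (δ x) = δ (g x)) ∨ ∀ x, g (δ x) = - δ (g x))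

theorem Gd.symm {g : V ≃ₗ[F] V} (h : Gd B δ g) : Gd B δ g⁻¹ := by
  obtain ⟨⟨η, h0, h1⟩, h2⟩ := h
  refine ⟨⟨η⁻¹, inv_ne_zero h0, fun x y => ?_⟩, ?_⟩
  · have := h1 (g⁻¹ x) (g⁻¹ y)
    have e : ∀ z, g (g⁻¹ z) = z := fun z => g.apply_symm_apply z
    rw [e, e] at this
    rw [this, ← mul_assoc, inv_mul_cancel₀ h0, one_mul]
  · have e : ∀ z, g (g⁻¹ z) = z := fun z => g.apply_symm_apply z
    rcases h2 with h2 | h2
    · left
      intro x
      apply g.injective
      rw [h2, e, e]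
    · right
      intro x
      apply g.injective
      rw [map_neg, h2, e, e, neg_neg]

theorem conj_mem {g : V ≃ₗ[F] V} (hg : Gd B δ g) {s : Module.End F V} (hs : s ∈ Sx B δ ν) :
    g.conj s ∈ Sx B δ ν := by
  obtain ⟨h1, h2, h3⟩ := hs
  obtain ⟨⟨η, e0, e1⟩, e2⟩ := hg
  have e : ∀ z, g (g.symm z) = z := fun z => g.apply_symm_apply z
  have e' : ∀ z, g.symm (g z) = z := fun z => g.symm_apply_apply z
  have c : ∀ z, g.conj s z = g (s (g.symm z)) := fun z => rfl
  refine ⟨fun x => ?_, fun x y => ?_, fun x => ?_⟩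
  · rw [c, c]
    rcases e2 with e2 | e2
    · have : g.symm (δ x) = δ (g.symm x) := by
        apply g.injective
        rw [e2, e, e]
      rw [this, h1, e2]
    · have : g.symm (δ x) = - δ (g.symm x) := by
        apply g.injective
        rw [map_neg, e2, e, e, neg_neg]
      rw [this, map_neg, h1, map_neg, e2, neg_neg]
  · rw [c, c]
    have a1 := e1 (s (g.symm x)) (g.symm y)
    have a2 := e1 (g.symm x) (s (g.symm y))
    rw [e] at a1 a2
    rw [a1, a2, h2]
  · rw [c, c, e', h3, map_smul, e]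

/-- the action of a group of similarities on the pairs -/
@[reducible] def prAct (P : Subgroup (V ≃ₗ[F] V)) (hP : ∀ g ∈ P, Gd B δ g) : MulAction P (Pr B δ ν) where
  smul g ω := ⟨(g : V ≃ₗ[F] V).conj '' ω.1, by
    obtain ⟨s, hs, h⟩ := ω.2
    refine ⟨(g : V ≃ₗ[F] V).conj s, conj_mem (hP g g.2) hs, ?_⟩
    rw [h, Set.image_pair, map_neg]⟩
  one_smul ω := by
    apply Subtype.ext
    show (1 : V ≃ₗ[F] V).conj '' ω.1 = ω.1
    have : ∀ s : Module.End F V, (1 : V ≃ₗ[F] V).conj s = s := fun s => rfl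
    simp only [this, Set.image_id']
  mul_smul g g' ω := by
    apply Subtype.ext
    show ((g : V ≃ₗ[F] V) * (g' : V ≃ₗ[F] V)).conj '' ω.1 = (g : V ≃ₗ[F] V).conj '' ((g' : V ≃ₗ[F] V).conj '' ω.1)
    rw [Set.image_image]
    rfl

/-- **A 2-group of similarities that centralise or negate `δ` centralises or negates some `s`.** -/
theorem Qd.exists_fix [Finite F] [FiniteDimensional F V] (hq : Qd B δ d) (hn : finrank F V = 4)
    (hd : ¬ IsSquare (-d)) (hν : ¬ IsSquare ν) (P : Subgroup (V ≃ₗ[F] V)) (hP2 : IsPGroup 2 P)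
    (hP : ∀ g ∈ P, Gd B δ g) :
    ∃ s ∈ Sx B δ ν, ∀ g ∈ P, (∀ x, g (s x) = s (g x)) ∨ ∀ x, g (s x) = - s (g x) := by
  have : Finite V := Module.finite_of_finite F
  obtain ⟨m, n, Φ, hc⟩ := hq.exists_crd hn
  have hcard := hc.odd_card hq hd hν
  have hfin : Finite (Module.End F V) := Finite.of_injective (fun f : Module.End F V => (f : V → V)) DFunLike.coe_injective
  have : Finite (Pr B δ ν) := inferInstance
  let _ := prAct (ν := ν) P hP
  have : Fact (Nat.Prime 2) := ⟨Nat.prime_two⟩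
  obtain ⟨ω, hω⟩ := hP2.nonempty_fixed_point_of_prime_not_dvd_card (Pr B δ ν) (by omega)
  obtain ⟨s, hs, h⟩ := ω.2
  refine ⟨s, hs, fun g hg => ?_⟩
  have h1 : (g : V ≃ₗ[F] V).conj '' ω.1 = ω.1 := congrArg Subtype.val (hω ⟨g, hg⟩)
  have h2 : g.conj s ∈ ω.1 := by
    rw [← h1]
    exact ⟨s, by rw [h]; simp, rfl⟩
  have c : ∀ z, g.conj s (g z) = g (s z) := fun z => by
    show g (s (g.symm (g z))) = _
    rw [g.symm_apply_apply]
  rw [h] at h2
  rcases h2 with h2 | h2
  · left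
    intro x
    rw [← c, h2]
  · right
    intro x
    rw [← c, Set.mem_singleton_iff.1 h2, LinearMap.neg_apply]

end act

end Cfsg.Agent.H194.FR
end

-- part: H194/FR/Str
section
/-!
# S4970, FR-N4, part 2: the group of isometries which centralise or negate `δ` and `s` (helper194)
-/

set_option autoImplicit false

universe u

namespace Cfsg.Agent.H194.FR

open Module Cfsg.Agent.H721.FR

variable {F V : Type u} [Field F] [AddCommGroup V] [Module F V]

/-- the situation -/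
structure Dt (B : V →ₗ[F] V →ₗ[F] F) (ε : F) (δ s : Module.End F V) (d ν : F) : Prop where
  two : (2 : F) ≠ 0
  nd : ∀ x, (∀ y, B x y = 0) → x = 0
  ee : ε * ε = 1
  symm : ∀ x y, B x y = ε * B y x
  dd : ∀ x, δ (δ x) = d • x
  skew : ∀ x y, B (δ x) y = - B x (δ y)
  d0 : d ≠ 0
  sx : s ∈ Sx B δ ν
  ns : ¬ IsSquare ν

/-- coordinates adapted to the situation -/
structure Kd (B : V →ₗ[F] V →ₗ[F] F) (ε : F) (δ s : Module.End F V) (d ν f0 f1 : F)
    (Φ : (F × F × F × F) ≃ₗ[F] V) : Prop where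
  two : (2 : F) ≠ 0
  ee : ε * ε = 1
  ff : f0 * f1 = 0
  f : f0 * f0 + ν * (f1 * f1) = d
  d0 : d ≠ 0
  ν0 : ν ≠ 0
  B : ∀ x y, B (Φ x) (Φ y) = x.1 * y.2.2.1 + ν * (x.2.1 * y.2.2.2) + ε * (x.2.2.1 * y.1 + ν * (x.2.2.2 * y.2.1))
  s : ∀ x, s (Φ x) = Φ (ν * x.2.1, x.1, ν * x.2.2.2, x.2.2.1)
  δ : ∀ x, δ (Φ x) = Φ (f0 * x.1 + ν * f1 * x.2.1, f0 * x.2.1 + f1 * x.1, -(f0 * x.2.2.1 + ν * f1 * x.2.2.2),
    -(f0 * x.2.2.2 + f1 * x.2.2.1))

section

variable {B : V →ₗ[F] V →ₗ[F] F} {ε : F} {δ s : Module.End F V} {d ν : F}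

theorem Dt.exists_f [Finite F] (h : Dt B ε δ s d ν) : ∃ f0 f1 : F, f0 * f1 = 0 ∧ f0 * f0 + ν * (f1 * f1) = d := by
  by_cases hd : IsSquare d
  · obtain ⟨f, hf⟩ := hd
    exact ⟨f, 0, mul_zero _, by rw [mul_zero, mul_zero, add_zero, hf]⟩
  · obtain ⟨r, hr⟩ := sq_mul hd h.ns
    have hν : ν ≠ 0 := by rintro rfl; exact h.ns IsSquare.zero
    refine ⟨0, r / ν, zero_mul _, ?_⟩
    field_simp
    linear_combination -hr

/-- no eigenvector of `s` -/
theorem Dt.indep (h : Dt B ε δ s d ν) {v : V} (hv : v ≠ 0) {a b : F} (hab : a • v + b • s v = 0) : a = 0 ∧ b = 0 := by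
  have hν : ν ≠ 0 := by rintro rfl; exact h.ns IsSquare.zero
  have h1 := congrArg s hab
  rw [map_add, map_smul, map_smul, h.sx.2.2, map_zero, smul_smul] at h1
  have h2 : (a * a - b * b * ν) • v = 0 := by
    have : (a * a - b * b * ν) • v = a • (a • v + b • s v) - b • (a • s v + (b * ν) • v) := by
      module
    rw [this, hab, h1, smul_zero, smul_zero, sub_zero]
  have h3 := (smul_eq_zero.1 h2).resolve_right hv
  have hb : b = 0 := by
    by_contra hb
    apply h.ns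
    refine ⟨a / b, ?_⟩
    field_simp
    linear_combination -h3
  refine ⟨?_, hb⟩
  rw [hb, zero_smul, add_zero] at hab
  exact (smul_eq_zero.1 hab).resolve_right hv

theorem Dt.exists_kd [Finite F] [FiniteDimensional F V] (h : Dt B ε δ s d ν) (hn : finrank F V = 4) :
    ∃ (f0 f1 : F) (Φ : (F × F × F × F) ≃ₗ[F] V), Kd B ε δ s d ν f0 f1 Φ := by
  obtain ⟨f0, f1, ff, hf⟩ := h.exists_f
  have hν : ν ≠ 0 := by rintro rfl; exact h.ns IsSquare.zero
  obtain ⟨s1, s2, s3⟩ := id h.sx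
  let φ : Module.End F V := f0 • 1 + f1 • s
  have hφ : ∀ x, φ x = f0 • x + f1 • s x := fun x => rfl
  have φφ : ∀ x, φ (φ x) = d • x := by
    intro x
    rw [hφ, hφ, map_add, map_smul, map_smul, s3, ← hf]
    have : f0 • (f0 • x + f1 • s x) + f1 • (f0 • s x + f1 • ν • x) =
        (f0 * f0 + ν * (f1 * f1)) • x + (2 * (f0 * f1)) • s x := by module
    rw [this, ff, mul_zero, zero_smul, add_zero]
  have φB : ∀ x y, B (φ x) y = B x (φ y) := by
    intro x y
    rw [hφ, hφ, map_add, map_smul, map_smul, map_add, LinearMap.add_apply, map_smul, map_smul, LinearMap.smul_apply,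
      LinearMap.smul_apply, s2]
  have φδ : ∀ x, φ (δ x) = δ (φ x) := by
    intro x
    rw [hφ, hφ, map_add, map_smul, map_smul, s1]
  have φs : ∀ x, φ (s x) = s (φ x) := by
    intro x
    rw [hφ, hφ, map_add, map_smul, map_smul]
  -- the isotropic subspaces
  have iso : ∀ η : F, η * η = 1 → ∀ x y, δ x = η • φ x → δ y = η • φ y → B x y = 0 := by
    intro η hη x y hx hy
    have h1 : ∀ x y, δ x = η • φ x → δ y = η • φ y → B (φ x) y = 0 := by
      intro x y hx hy
      apply eq_zero_of_neg h.two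
      have e1 : B (δ x) y = - B x (δ y) := h.skew x y
      rw [hx, hy, map_smul, LinearMap.smul_apply, map_smul, ← φB, smul_eq_mul] at e1
      linear_combination η * e1 + (- B (φ x) y - B (φ x) y) * hη
    have h2 : δ (φ x) = η • φ (φ x) := by rw [← φδ, hx, map_smul]
    have h3 := h1 (φ x) y h2 hy
    rw [φφ, map_smul, LinearMap.smul_apply, smul_eq_mul] at h3
    exact (mul_eq_zero.1 h3).resolve_left h.d0
  have hd := h.d0
  have h2 := h.two
  -- the projections
  have pr1 : ∀ x, δ (φ x + δ x) = (1 : F) • φ (φ x + δ x) := by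
    intro x
    rw [map_add, map_add, h.dd, φφ, φδ, one_smul, add_comm]
  have pr2 : ∀ x, δ (φ x - δ x) = (-1 : F) • φ (φ x - δ x) := by
    intro x
    rw [map_sub, map_sub, h.dd, φφ, φδ]
    module
  have hsum : ∀ x, x = (2 * d)⁻¹ • (φ (φ x + δ x) + φ (φ x - δ x)) := by
    intro x
    rw [← map_add, add_add_sub_cancel, map_add, φφ, ← two_smul F (d • x), smul_smul, smul_smul, mul_assoc,
      inv_mul_cancel₀ (mul_ne_zero h2 hd), one_smul]
  have stab : ∀ (η : F) (x : V), δ x = η • φ x → δ (φ x) = η • φ (φ x) := by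
    intro η x hx
    rw [← φδ, hx, map_smul]
  have stabs : ∀ (η : F) (x : V), δ x = η • φ x → δ (s x) = η • φ (s x) := by
    intro η x hx
    rw [← s1, hx, map_smul, φs]
  -- the first vector
  obtain ⟨v, hv, hv0⟩ : ∃ v, δ v = (1 : F) • φ v ∧ v ≠ 0 := by
    by_contra hcon
    push Not at hcon
    have h3 : ∀ x, φ x + δ x = 0 := fun x => hcon _ (pr1 x)
    have h4 : ∀ x, δ x = (-1 : F) • φ x := by
      intro x
      rw [neg_smul, one_smul]
      exact (neg_eq_of_add_eq_zero_right (h3 x)).symm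
    have : Nontrivial V := Module.nontrivial_of_finrank_pos (R := F) (by omega)
    obtain ⟨x, hx⟩ := _root_.exists_ne (0 : V)
    exact hx (h.nd x fun y => iso (-1) (by norm_num) x y (h4 x) (h4 y))
  -- the second vector
  obtain ⟨y, hy1, hy2⟩ : ∃ y, B v y = 1 ∧ B (s v) y = 0 := by
    have hsur : Function.Surjective (LinearMap.prod (B v) (B (s v)) : V →ₗ[F] F × F) := by
      rw [← LinearMap.range_eq_top]
      by_contra hne
      obtain ⟨ℓ, hℓ0, hℓ⟩ := Submodule.exists_le_ker_of_lt_top _ (lt_top_iff_ne_top.2 hne)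
      have e1 : ∀ z : F × F, ℓ z = ℓ (1, 0) * z.1 + ℓ (0, 1) * z.2 := by
        intro z
        have : z = z.1 • ((1 : F), (0 : F)) + z.2 • ((0 : F), (1 : F)) := by ext <;> simp
        rw [this, map_add, map_smul, map_smul]
        simp only [mul_comm, _root_.smul_eq_mul, _root_.Prod.smul_mk, _root_.mul_one, _root_.MulZeroClass.mul_zero, _root_.Prod.mk_add_mk, _root_.add_zero, _root_.zero_add, _root_.Prod.mk.eta]
      have e2 : ℓ (1, 0) • v + ℓ (0, 1) • s v = 0 := by
        apply h.nd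
        intro y
        rw [map_add, map_smul, map_smul, LinearMap.add_apply, LinearMap.smul_apply, LinearMap.smul_apply]
        have := LinearMap.mem_ker.1 (hℓ ⟨y, rfl⟩)
        rw [e1] at this
        exact this
      obtain ⟨e3, e4⟩ := h.indep hv0 e2
      apply hℓ0
      ext <;> simp only [e3, e4, _root_.LinearMap.coe_comp, _root_.LinearMap.coe_inl, _root_.Function.comp_apply, _root_.LinearMap.zero_comp, _root_.LinearMap.zero_apply, _root_.LinearMap.coe_inr]
    obtain ⟨y, hy⟩ := hsur (1, 0)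
    exact ⟨y, congrArg Prod.fst hy, congrArg Prod.snd hy⟩
  let u : V := (2 * d)⁻¹ • φ (φ y - δ y)
  have hu : δ u = (-1 : F) • φ u := by
    simp only [u, map_smul]
    rw [stab _ _ (pr2 y), smul_comm]
  have huB : ∀ x, δ x = (1 : F) • φ x → B x u = B x y := by
    intro x hx
    have e1 := hsum y
    rw [smul_add] at e1
    have e2 : B x ((2 * d)⁻¹ • φ (φ y + δ y)) = 0 := by
      rw [map_smul, iso 1 (by norm_num) x _ hx (stab _ _ (pr1 y)), smul_zero]
    conv_rhs => rw [e1]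
    rw [map_add, e2, zero_add]
  have u1 : B v u = 1 := by rw [huB v hv, hy1]
  have u2 : B (s v) u = 0 := by rw [huB _ (stabs _ _ hv), hy2]
  have u3 : B v (s u) = 0 := by rw [← s2, u2]
  have u4 : B (s v) (s u) = ν := by rw [s2, s3, map_smul, u1, smul_eq_mul, mul_one]
  have w1 : B u v = ε := by rw [h.symm, u1, mul_one]
  have w2 : B u (s v) = 0 := by rw [h.symm, u2, mul_zero]
  have w3 : B (s u) v = 0 := by rw [h.symm, u3, mul_zero]
  have w4 : B (s u) (s v) = ε * ν := by rw [h.symm, u4]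
  have z1 : B v v = 0 := iso 1 (by norm_num) _ _ hv hv
  have z2 : B v (s v) = 0 := iso 1 (by norm_num) _ _ hv (stabs _ _ hv)
  have z3 : B (s v) v = 0 := iso 1 (by norm_num) _ _ (stabs _ _ hv) hv
  have z4 : B (s v) (s v) = 0 := iso 1 (by norm_num) _ _ (stabs _ _ hv) (stabs _ _ hv)
  have y1 : B u u = 0 := iso (-1) (by norm_num) _ _ hu hu
  have y2 : B u (s u) = 0 := iso (-1) (by norm_num) _ _ hu (stabs _ _ hu)
  have y3 : B (s u) u = 0 := iso (-1) (by norm_num) _ _ (stabs _ _ hu) hu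
  have y4 : B (s u) (s u) = 0 := iso (-1) (by norm_num) _ _ (stabs _ _ hu) (stabs _ _ hu)
  have key : ∀ x y : F × F × F × F, B (cmb v (s v) u (s u) x) (cmb v (s v) u (s u) y) =
      x.1 * y.2.2.1 + ν * (x.2.1 * y.2.2.2) + ε * (x.2.2.1 * y.1 + ν * (x.2.2.2 * y.2.1)) := by
    intro x y
    simp only [cmb_apply, map_add, map_smul, LinearMap.add_apply, LinearMap.smul_apply, smul_eq_mul, u1, u2, u3, u4, w1,
      w2, w3, w4, z1, z2, z3, z4, y1, y2, y3, y4]
    ring
  obtain ⟨Φ, hΦ⟩ := exists_equiv hn v (s v) u (s u) (by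
    intro x hx
    have h1 := key x (0, 0, 1, 0)
    have h2 := key x (0, 0, 0, 1)
    have h3 := key x (1, 0, 0, 0)
    have h4 := key x (0, 1, 0, 0)
    have hε : ε ≠ 0 := by
      rintro rfl
      have := h.ee
      simp at this
    simp only [hx, map_zero, LinearMap.zero_apply, mul_one, mul_zero, add_zero, zero_add] at h1 h2 h3 h4
    have a2 : x.2.1 = 0 := (mul_eq_zero.1 h2.symm).resolve_left hν
    have a3 : x.2.2.1 = 0 := (mul_eq_zero.1 h3.symm).resolve_left hε
    have a4 : x.2.2.2 = 0 := (mul_eq_zero.1 ((mul_eq_zero.1 h4.symm).resolve_left hε)).resolve_left hν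
    exact Prod.ext h1.symm (Prod.ext a2 (Prod.ext a3 a4)))
  have hΦ' : ∀ x, Φ x = cmb v (s v) u (s u) x := hΦ
  refine ⟨f0, f1, Φ, h.two, h.ee, ff, hf, h.d0, hν, fun x y => by rw [hΦ', hΦ', key], fun x => ?_, fun x => ?_⟩
  · rw [hΦ, hΦ]
    simp only [map_add, map_smul, s3, smul_smul]
    rw [mul_comm ν x.2.1, mul_comm ν x.2.2.2]
    abel
  · rw [hΦ, hΦ]
    have b1 := stabs _ _ hv
    have b2 := stabs _ _ hu
    simp only [map_add, map_smul, hv, hu, b1, b2, hφ, s3, one_smul]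
    module

end

/-! ### The groups -/

/-- isometries commuting with `δ` and `s` -/
def AA (B : V →ₗ[F] V →ₗ[F] F) (δ s : Module.End F V) : Subgroup (V ≃ₗ[F] V) where
  carrier := {g | g ∈ Isom B ∧ (∀ x, g (s x) = s (g x)) ∧ ∀ x, g (δ x) = δ (g x)}
  mul_mem' := fun {a b} ha hb => ⟨mul_mem ha.1 hb.1, fun x => by
    show a (b (s x)) = s (a (b x))
    rw [hb.2.1, ha.2.1], fun x => by
    show a (b (δ x)) = δ (a (b x))
    rw [hb.2.2, ha.2.2]⟩
  one_mem' := ⟨one_mem _, fun _ => rfl, fun _ => rfl⟩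
  inv_mem' := fun {a} ha => ⟨inv_mem ha.1, fun x => by
    show a.symm (s x) = s (a.symm x)
    apply a.injective
    rw [ha.2.1, a.apply_symm_apply, a.apply_symm_apply], fun x => by
    show a.symm (δ x) = δ (a.symm x)
    apply a.injective
    rw [ha.2.2, a.apply_symm_apply, a.apply_symm_apply]⟩

/-- isometries which centralise or negate `δ` and `s` -/
def YY (B : V →ₗ[F] V →ₗ[F] F) (δ s : Module.End F V) : Subgroup (V ≃ₗ[F] V) where
  carrier := {g | g ∈ Isom B ∧ ((∀ x, g (s x) = s (g x)) ∨ ∀ x, g (s x) = - s (g x)) ∧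
    ((∀ x, g (δ x) = δ (g x)) ∨ ∀ x, g (δ x) = - δ (g x))}
  mul_mem' := by
    rintro a b ⟨ha, ha1, ha2⟩ ⟨hb, hb1, hb2⟩
    refine ⟨mul_mem ha hb, ?_, ?_⟩
    · have e : ∀ x, (a * b) x = a (b x) := fun _ => rfl
      rcases ha1 with h1 | h1 <;> rcases hb1 with h2 | h2
      · exact Or.inl fun x => by rw [e, e, h2, h1]
      · exact Or.inr fun x => by rw [e, e, h2, map_neg, h1]
      · exact Or.inr fun x => by rw [e, e, h2, h1]
      · exact Or.inl fun x => by rw [e, e, h2, map_neg, h1, neg_neg]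
    · have e : ∀ x, (a * b) x = a (b x) := fun _ => rfl
      rcases ha2 with h1 | h1 <;> rcases hb2 with h2 | h2
      · exact Or.inl fun x => by rw [e, e, h2, h1]
      · exact Or.inr fun x => by rw [e, e, h2, map_neg, h1]
      · exact Or.inr fun x => by rw [e, e, h2, h1]
      · exact Or.inl fun x => by rw [e, e, h2, map_neg, h1, neg_neg]
  one_mem' := ⟨one_mem _, Or.inl fun _ => rfl, Or.inl fun _ => rfl⟩
  inv_mem' := by
    rintro a ⟨ha, ha1, ha2⟩
    refine ⟨inv_mem ha, ?_, ?_⟩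
    · have e : ∀ x, a⁻¹ x = a.symm x := fun _ => rfl
      rcases ha1 with h1 | h1
      · exact Or.inl fun x => by
          rw [e, e]; apply a.injective; rw [h1, a.apply_symm_apply, a.apply_symm_apply]
      · exact Or.inr fun x => by
          rw [e, e]; apply a.injective; rw [map_neg, h1, a.apply_symm_apply, a.apply_symm_apply, neg_neg]
    · have e : ∀ x, a⁻¹ x = a.symm x := fun _ => rfl
      rcases ha2 with h1 | h1
      · exact Or.inl fun x => by
          rw [e, e]; apply a.injective; rw [h1, a.apply_symm_apply, a.apply_symm_apply]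
      · exact Or.inr fun x => by
          rw [e, e]; apply a.injective; rw [map_neg, h1, a.apply_symm_apply, a.apply_symm_apply, neg_neg]

theorem AA_le (B : V →ₗ[F] V →ₗ[F] F) (δ s : Module.End F V) : AA B δ s ≤ YY B δ s :=
  fun _ h => ⟨h.1, Or.inl h.2.1, Or.inl h.2.2⟩

/-- the swap -/
def mt (ε : F) (ee : ε * ε = 1) : (F × F × F × F) ≃ₗ[F] (F × F × F × F) where
  toFun x := (ε * x.2.2.1, ε * x.2.2.2, x.1, x.2.1)
  invFun x := (x.2.2.1, x.2.2.2, ε * x.1, ε * x.2.1)
  map_add' x y := by ext <;> simp only [mul_add, _root_.Prod.snd_add, _root_.Prod.fst_add, _root_.Prod.mk_add_mk]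
  map_smul' c x := by ext <;> simp [mul_left_comm]
  left_inv x := by ext <;> simp [← mul_assoc, ee]
  right_inv x := by ext <;> simp [← mul_assoc, ee]

/-- the Frobenius map -/
def mw : (F × F × F × F) ≃ₗ[F] (F × F × F × F) where
  toFun x := (x.1, -x.2.1, x.2.2.1, -x.2.2.2)
  invFun x := (x.1, -x.2.1, x.2.2.1, -x.2.2.2)
  map_add' x y := by (refine And.elim (fun cj1 => And.elim fun cj2 => And.elim fun cj3 cj4 => by ext; exacts [cj1, cj2, cj3, cj4]) ?_; simp [add_comm])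
  map_smul' c x := by ext <;> simp only [_root_.Prod.smul_fst, _root_.smul_eq_mul, _root_.RingHom.id_apply, _root_.Prod.smul_mk, _root_.mul_neg, _root_.Prod.smul_snd]
  left_inv x := by ext <;> simp
  right_inv x := by ext <;> simp

/-- transport -/
def tr (Φ : (F × F × F × F) ≃ₗ[F] V) (g : (F × F × F × F) ≃ₗ[F] (F × F × F × F)) : V ≃ₗ[F] V :=
  Φ.symm.trans (g.trans Φ)

theorem tr_apply (Φ : (F × F × F × F) ≃ₗ[F] V) (g : (F × F × F × F) ≃ₗ[F] (F × F × F × F)) (x : F × F × F × F) :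
    tr Φ g (Φ x) = Φ (g x) := by simp [tr]

section kd

variable {B : V →ₗ[F] V →ₗ[F] F} {ε : F} {δ s : Module.End F V} {d ν f0 f1 : F} {Φ : (F × F × F × F) ≃ₗ[F] V}

theorem Kd.t_isom (h : Kd B ε δ s d ν f0 f1 Φ) : tr Φ (mt ε h.ee) ∈ Isom B := by
  intro x y
  obtain ⟨x, rfl⟩ := Φ.surjective x
  obtain ⟨y, rfl⟩ := Φ.surjective y
  rw [tr_apply, tr_apply, h.B, h.B]
  show ε * x.2.2.1 * y.1 + ν * (ε * x.2.2.2 * y.2.1) + ε * (x.1 * (ε * y.2.2.1) + ν * (x.2.1 * (ε * y.2.2.2))) = _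
  linear_combination (x.1 * y.2.2.1 + ν * (x.2.1 * y.2.2.2)) * h.ee

theorem Kd.w_isom (h : Kd B ε δ s d ν f0 f1 Φ) : tr Φ mw ∈ Isom B := by
  intro x y
  obtain ⟨x, rfl⟩ := Φ.surjective x
  obtain ⟨y, rfl⟩ := Φ.surjective y
  rw [tr_apply, tr_apply, h.B, h.B]
  show x.1 * y.2.2.1 + ν * (-x.2.1 * -y.2.2.2) + ε * (x.2.2.1 * y.1 + ν * (-x.2.2.2 * -y.2.1)) = _
  ring

theorem Kd.t_s (h : Kd B ε δ s d ν f0 f1 Φ) (x : V) : tr Φ (mt ε h.ee) (s x) = s (tr Φ (mt ε h.ee) x) := by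
  obtain ⟨x, rfl⟩ := Φ.surjective x
  rw [h.s, tr_apply, tr_apply, h.s]
  congr 1
  ext <;> simp only [mt, mul_left_comm, _root_.LinearEquiv.coe_mk, _root_.LinearMap.coe_mk, _root_.AddHom.coe_mk]

theorem Kd.t_δ (h : Kd B ε δ s d ν f0 f1 Φ) (x : V) : tr Φ (mt ε h.ee) (δ x) = - δ (tr Φ (mt ε h.ee) x) := by
  obtain ⟨x, rfl⟩ := Φ.surjective x
  rw [h.δ, tr_apply, tr_apply, h.δ, ← map_neg]
  congr 1
  ext <;> simp only [mt, _root_.neg_add_rev, _root_.LinearEquiv.coe_mk, _root_.LinearMap.coe_mk, _root_.AddHom.coe_mk, _root_.Prod.neg_mk, _root_.neg_neg] <;> ring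

theorem Kd.w_s (h : Kd B ε δ s d ν f0 f1 Φ) (x : V) : tr Φ mw (s x) = - s (tr Φ mw x) := by
  obtain ⟨x, rfl⟩ := Φ.surjective x
  rw [h.s, tr_apply, tr_apply, h.s, ← map_neg]
  congr 1
  ext <;> simp only [mw, _root_.LinearEquiv.coe_mk, _root_.LinearMap.coe_mk, _root_.AddHom.coe_mk, _root_.mul_neg, _root_.Prod.neg_mk, _root_.neg_neg]

theorem Kd.w_δ (h : Kd B ε δ s d ν f0 f1 Φ) : (∀ x, tr Φ mw (δ x) = δ (tr Φ mw x)) ∨
    ∀ x, tr Φ mw (δ x) = - δ (tr Φ mw x) := by
  rcases mul_eq_zero.1 h.ff with h0 | h0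
  · right
    intro x
    obtain ⟨x, rfl⟩ := Φ.surjective x
    rw [h.δ, tr_apply, tr_apply, h.δ, ← map_neg]
    congr 1
    ext <;> simp only [mw, h0, _root_.MulZeroClass.zero_mul, _root_.zero_add, _root_.LinearEquiv.coe_mk, _root_.LinearMap.coe_mk, _root_.AddHom.coe_mk, _root_.neg_neg, _root_.mul_neg, _root_.neg_zero, _root_.Prod.neg_mk]
  · left
    intro x
    obtain ⟨x, rfl⟩ := Φ.surjective x
    rw [h.δ, tr_apply, tr_apply, h.δ]
    congr 1
    ext <;> simp only [mw, h0, _root_.MulZeroClass.mul_zero, _root_.MulZeroClass.zero_mul, _root_.add_zero, _root_.LinearEquiv.coe_mk, _root_.LinearMap.coe_mk, _root_.AddHom.coe_mk, _root_.neg_neg, _root_.mul_neg, _root_.neg_zero]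

theorem Kd.w_w (_ : Kd B ε δ s d ν f0 f1 Φ) : tr Φ mw * tr Φ mw = 1 := by
  ext x
  obtain ⟨x, rfl⟩ := Φ.surjective x
  show tr Φ mw (tr Φ mw (Φ x)) = Φ x
  rw [tr_apply, tr_apply]
  congr 1
  ext <;> simp only [mw, _root_.LinearEquiv.coe_mk, _root_.LinearMap.coe_mk, _root_.AddHom.coe_mk, _root_.neg_neg, _root_.Prod.mk.eta]

theorem Kd.t_t (h : Kd B ε δ s d ν f0 f1 Φ) (x : V) : tr Φ (mt ε h.ee) (tr Φ (mt ε h.ee) x) = ε • x := by
  obtain ⟨x, rfl⟩ := Φ.surjective x
  rw [tr_apply, tr_apply, ← map_smul]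
  congr 1

theorem Kd.t_w (h : Kd B ε δ s d ν f0 f1 Φ) : tr Φ (mt ε h.ee) * tr Φ mw = tr Φ mw * tr Φ (mt ε h.ee) := by
  ext x
  obtain ⟨x, rfl⟩ := Φ.surjective x
  show tr Φ (mt ε h.ee) (tr Φ mw (Φ x)) = tr Φ mw (tr Φ (mt ε h.ee) (Φ x))
  rw [tr_apply, tr_apply, tr_apply, tr_apply]
  congr 1
  ext <;> simp only [mw, mt, _root_.LinearEquiv.coe_mk, _root_.LinearMap.coe_mk, _root_.AddHom.coe_mk, _root_.mul_neg]

/-- the elements of `A` in coordinates -/
theorem Kd.A_coord (h : Kd B ε δ s d ν f0 f1 Φ) {a : V ≃ₗ[F] V} (ha : a ∈ AA B δ s) :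
    ∃ p r p' r' : F, p * p' + ν * (r * r') = 1 ∧ p * r' + r * p' = 0 ∧
      ∀ x, a (Φ x) = Φ (p * x.1 + ν * r * x.2.1, r * x.1 + p * x.2.1, p' * x.2.2.1 + ν * r' * x.2.2.2,
        r' * x.2.2.1 + p' * x.2.2.2) := by
  obtain ⟨a1, a2, a3⟩ := ha
  obtain ⟨y, hy⟩ := Φ.surjective (a (Φ (1, 0, 0, 0)))
  obtain ⟨z, hz⟩ := Φ.surjective (a (Φ (0, 0, 1, 0)))
  have h2 := h.two
  -- `δ (Φ (1, 0, 0, 0)) = (f0 + f1 s) (Φ (1, 0, 0, 0))`
  have e1 : δ (Φ (1, 0, 0, 0)) = f0 • Φ (1, 0, 0, 0) + f1 • s (Φ (1, 0, 0, 0)) := by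
    rw [h.δ, h.s, ← map_smul, ← map_smul, ← map_add]
    congr 1
    ext <;> simp
  have e2 : δ (Φ (0, 0, 1, 0)) = -(f0 • Φ (0, 0, 1, 0) + f1 • s (Φ (0, 0, 1, 0))) := by
    rw [h.δ, h.s, ← map_smul, ← map_smul, ← map_add, ← map_neg]
    congr 1
    ext <;> simp
  have e3 := a3 (Φ (1, 0, 0, 0))
  rw [e1, map_add, map_smul, map_smul, a2, ← hy, h.δ, h.s, ← map_smul, ← map_smul, ← map_add] at e3
  have e4 := a3 (Φ (0, 0, 1, 0))
  rw [e2, map_neg, map_add, map_smul, map_smul, a2, ← hz, h.δ, h.s, ← map_smul, ← map_smul, ← map_add, ← map_neg] at e4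
  have e5 := Φ.injective e3
  have e6 := Φ.injective e4
  have hν := h.ν0
  have hfd := h.f
  have hd0 := h.d0
  have kill : ∀ u v : F, f0 * u + ν * f1 * v = 0 → f0 * v + f1 * u = 0 → u = 0 ∧ v = 0 := by
    intro u v k1 k2
    rcases mul_eq_zero.1 h.ff with h0 | h0
    · have hf1 : f1 ≠ 0 := by
        rintro rfl
        apply hd0
        rw [← hfd, h0]
        ring
      rw [h0, zero_mul, zero_add] at k1 k2
      exact ⟨(mul_eq_zero.1 k2).resolve_left hf1, (mul_eq_zero.1 k1).resolve_left (mul_ne_zero hν hf1)⟩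
    · have hf0 : f0 ≠ 0 := by
        rintro rfl
        apply hd0
        rw [← hfd, h0]
        ring
      rw [h0, mul_zero, zero_mul, add_zero] at k1
      rw [h0, zero_mul, add_zero] at k2
      exact ⟨(mul_eq_zero.1 k1).resolve_left hf0, (mul_eq_zero.1 k2).resolve_left hf0⟩
  have y34 := kill y.2.2.1 y.2.2.2 (by
    have := congrArg (fun w : F × F × F × F => w.2.2.1) e5
    simp only [Prod.fst_add, Prod.snd_add, Prod.smul_fst, Prod.smul_snd, smul_eq_mul] at this
    have k : 2 * (f0 * y.2.2.1 + ν * f1 * y.2.2.2) = 0 := by linear_combination this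
    exact (mul_eq_zero.1 k).resolve_left h2) (by
    have := congrArg (fun w : F × F × F × F => w.2.2.2) e5
    simp only [Prod.snd_add, Prod.smul_snd, smul_eq_mul] at this
    have k : 2 * (f0 * y.2.2.2 + f1 * y.2.2.1) = 0 := by linear_combination this
    exact (mul_eq_zero.1 k).resolve_left h2)
  have z12 := kill z.1 z.2.1 (by
    have := congrArg (fun w : F × F × F × F => w.1) e6
    simp only [Prod.fst_add, Prod.fst_neg, Prod.smul_fst, smul_eq_mul] at this
    have k : 2 * (f0 * z.1 + ν * f1 * z.2.1) = 0 := by linear_combination -this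
    exact (mul_eq_zero.1 k).resolve_left h2) (by
    have := congrArg (fun w : F × F × F × F => w.2.1) e6
    simp only [Prod.fst_add, Prod.snd_add, Prod.fst_neg, Prod.snd_neg, Prod.smul_fst, Prod.smul_snd, smul_eq_mul] at this
    have k : 2 * (f0 * z.2.1 + f1 * z.1) = 0 := by linear_combination -this
    exact (mul_eq_zero.1 k).resolve_left h2)
  have hy' : a (Φ (1, 0, 0, 0)) = Φ (y.1, y.2.1, 0, 0) := by
    rw [← hy]
    congr 1
    ext <;> simp [y34]
  have hz' : a (Φ (0, 0, 1, 0)) = Φ (0, 0, z.2.2.1, z.2.2.2) := by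
    rw [← hz]
    congr 1
    ext <;> simp [z12]
  refine ⟨y.1, y.2.1, z.2.2.1, z.2.2.2, ?_, ?_, ?_⟩
  · have := a1 (Φ (1, 0, 0, 0)) (Φ (0, 0, 1, 0))
    rw [hy', hz', h.B, h.B] at this
    simp only [mul_zero, mul_one, add_zero] at this
    exact this
  · have := a1 (Φ (1, 0, 0, 0)) (s (Φ (0, 0, 1, 0)))
    rw [a2, hy', hz', h.s, h.s, h.B, h.B] at this
    simp only [mul_zero, mul_one, add_zero] at this
    have k : ν * (y.1 * z.2.2.2 + y.2.1 * z.2.2.1) = 0 := by linear_combination this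
    exact (mul_eq_zero.1 k).resolve_left hν
  · intro x
    have e : Φ x = x.1 • Φ (1, 0, 0, 0) + x.2.1 • s (Φ (1, 0, 0, 0)) + x.2.2.1 • Φ (0, 0, 1, 0) +
        x.2.2.2 • s (Φ (0, 0, 1, 0)) := by
      rw [h.s, h.s, ← map_smul, ← map_smul, ← map_smul, ← map_smul, ← map_add, ← map_add, ← map_add]
      congr 1
      ext <;> simp
    rw [e, map_add, map_add, map_add, map_smul, map_smul, map_smul, map_smul, a2, a2, hy', hz', h.s, h.s,
      ← map_smul, ← map_smul, ← map_smul, ← map_smul, ← map_add, ← map_add, ← map_add]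
    congr 1
    ext <;> simp only [_root_.Prod.smul_mk, _root_.smul_eq_mul, _root_.MulZeroClass.mul_zero, _root_.Prod.mk_add_mk, _root_.add_zero, _root_.Prod.mk.eta, _root_.Prod.fst_add, _root_.Prod.smul_fst, _root_.zero_add, _root_.Prod.snd_add, _root_.Prod.smul_snd] <;> ring

/-- `t` inverts `A` -/
theorem Kd.t_inv (h : Kd B ε δ s d ν f0 f1 Φ) {a : V ≃ₗ[F] V} (ha : a ∈ AA B δ s) :
    tr Φ (mt ε h.ee) * a * (tr Φ (mt ε h.ee))⁻¹ = a⁻¹ := by
  obtain ⟨p, r, p', r', e1, e2, e3⟩ := h.A_coord ha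
  have key : a * tr Φ (mt ε h.ee) * a = tr Φ (mt ε h.ee) := by
    ext x
    obtain ⟨x, rfl⟩ := Φ.surjective x
    show a (tr Φ (mt ε h.ee) (a (Φ x))) = tr Φ (mt ε h.ee) (Φ x)
    rw [e3, tr_apply, e3, tr_apply]
    congr 1
    refine Prod.ext ?_ (Prod.ext ?_ (Prod.ext ?_ ?_))
    · show p * (ε * (p' * x.2.2.1 + ν * r' * x.2.2.2)) + ν * r * (ε * (r' * x.2.2.1 + p' * x.2.2.2)) = ε * x.2.2.1
      linear_combination ε * x.2.2.1 * e1 + ε * ν * x.2.2.2 * e2
    · show r * (ε * (p' * x.2.2.1 + ν * r' * x.2.2.2)) + p * (ε * (r' * x.2.2.1 + p' * x.2.2.2)) = ε * x.2.2.2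
      linear_combination ε * x.2.2.2 * e1 + ε * x.2.2.1 * e2
    · show p' * (p * x.1 + ν * r * x.2.1) + ν * r' * (r * x.1 + p * x.2.1) = x.1
      linear_combination x.1 * e1 + ν * x.2.1 * e2
    · show r' * (p * x.1 + ν * r * x.2.1) + p' * (r * x.1 + p * x.2.1) = x.2.1
      linear_combination x.2.1 * e1 + x.1 * e2
  have k2 : tr Φ (mt ε h.ee) * a = a⁻¹ * tr Φ (mt ε h.ee) := by
    rw [eq_inv_mul_iff_mul_eq, ← mul_assoc, key]
  rw [k2, mul_inv_cancel_right]

end kd

end Cfsg.Agent.H194.FR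
end

-- part: H194/FR/Nfour
section
/-!
# S4970, FR-N4: dimension four, `c + c⁻¹ = τ`, `4 - τ²` not a square (helper194)

* `cov_dt`  : the general form, with `δ` and `s`;
* `cov_n4`  : `finrank F V = 4`, `c + c⁻¹ = τ`, `4 - τ²` not a square: `Cov B ε c P` for every 2-group `P` of isometries
  that centralise or invert `c`;
* `not_isSquare_of` : the hypothesis `4 - τ²` not a square in terms of the roots of `X² - τ X + 1` and `q mod 4`.
-/

set_option autoImplicit false

universe u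

namespace Cfsg.Agent.H194.FR

open Module Cfsg.Agent.H721.FR

variable {F V : Type u} [Field F] [AddCommGroup V] [Module F V]

theorem zel_apply {ε : F} (hε : ε = 1 ∨ ε = -1) (x : V) : zel V ε x = ε • x := by
  unfold zel
  split_ifs with h
  · rw [h, one_smul]
    rfl
  · rcases hε with h1 | h1
    · exact absurd h1 h
    · rw [h1, neg_smul, one_smul]
      rfl

theorem ee_of {ε : F} (hε : ε = 1 ∨ ε = -1) : ε * ε = 1 := by
  rcases hε with h | h <;> rw [h] <;> ring

/-- the class lemma for the group `YY` -/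
theorem Kd.fszs {B : V →ₗ[F] V →ₗ[F] F} {ε : F} {δ s : Module.End F V} {d ν f0 f1 : F}
    {Φ : (F × F × F × F) ≃ₗ[F] V} [Finite V] (h : Kd B ε δ s d ν f0 f1 Φ) (hε : ε = 1 ∨ ε = -1) :
    FSZs (YY B δ s) (zel V ε) := by
  classical
  set t := tr Φ (mt ε h.ee) with ht
  set w := tr Φ mw with hw
  have hww : w * w = 1 := h.w_w
  have htw : t * w = w * t := h.t_w
  have hzel : ∀ x, zel V ε x = ε • x := zel_apply hε
  have hfin : Finite (V ≃ₗ[F] V) := Finite.of_injective (fun f : V ≃ₗ[F] V => (f : V → V)) DFunLike.coe_injective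
  have htY : t ∈ YY B δ s := ⟨h.t_isom, Or.inl h.t_s, Or.inr h.t_δ⟩
  have hwY : w ∈ YY B δ s := ⟨h.w_isom, Or.inr h.w_s, h.w_δ⟩
  have hinv : ∀ a ∈ AA B δ s, t * a * t⁻¹ = a⁻¹ := fun a ha => h.t_inv ha
  have hE : ∀ e ∈ Subgroup.zpowers w, e = 1 ∨ e = w := by
    rintro _ ⟨k, rfl⟩
    have h2 : w ^ (2 : ℤ) = 1 := by rw [zpow_ofNat, pow_two, hww]
    rcases Int.even_or_odd' k with ⟨j, hj | hj⟩
    · left
      show w ^ k = 1
      rw [hj, zpow_mul, h2, one_zpow]
    · right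
      show w ^ k = w
      rw [hj, zpow_add, zpow_mul, h2, one_zpow, one_mul, zpow_one]
  have hneg : ∀ (a : V ≃ₗ[F] V) (r : Module.End F V), (∀ x, a (r x) = r (a x)) ∨ (∀ x, a (r x) = - r (a x)) →
      ∀ x, a (r (a⁻¹ x)) = r x ∨ a (r (a⁻¹ x)) = - r x := by
    intro a r har x
    have e : a (a⁻¹ x) = x := a.apply_symm_apply x
    rcases har with h1 | h1
    · left; rw [h1, e]
    · right; rw [h1, e]
  refine Cfsg.Agent.H619.FR.fszs_cls (A := AA B δ s) (E := Subgroup.zpowers w) (Y := YY B δ s) (t := t)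
    (z := zel V ε) (AA_le B δ s) (by rw [Subgroup.zpowers_le]; exact hwY) ?_ ?_ ?_ htY ?_ ?_ ?_ ?_ ?_ hinv ?_
  · -- `A` is normal
    rintro y ⟨y1, y2, y3⟩ a ⟨a1, a2, a3⟩
    have e : ∀ x, (y * a * y⁻¹) x = y (a (y⁻¹ x)) := fun x => rfl
    have e' : ∀ x, y⁻¹ (y x) = x := fun x => y.symm_apply_apply x
    have e'' : ∀ x, y (y⁻¹ x) = x := fun x => y.apply_symm_apply x
    have gen : ∀ r : Module.End F V, ((∀ x, y (r x) = r (y x)) ∨ ∀ x, y (r x) = - r (y x)) →
        (∀ x, a (r x) = r (a x)) → ∀ x, (y * a * y⁻¹) (r x) = r ((y * a * y⁻¹) x) := by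
      intro r hr ha x
      rw [e, e]
      rcases hr with hr | hr
      · have : y⁻¹ (r x) = r (y⁻¹ x) := by
          apply y.injective
          rw [e'', hr, e'']
        rw [this, ha, hr]
      · have : y⁻¹ (r x) = - r (y⁻¹ x) := by
          apply y.injective
          rw [e'', map_neg, hr, e'', neg_neg]
        rw [this, map_neg, map_neg, ha, hr, neg_neg]
    exact ⟨mul_mem (mul_mem y1 a1) (inv_mem y1), gen s y2 a2, gen δ y3 a3⟩
  · -- `A` is commutative
    intro a ha b hb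
    have h1 := hinv (a * b) (mul_mem ha hb)
    have h2 : t * (a * b) * t⁻¹ = (t * a * t⁻¹) * (t * b * t⁻¹) := by group
    rw [h2, hinv a ha, hinv b hb, mul_inv_rev] at h1
    have h3 := congrArg (fun g => g⁻¹) h1
    simp only [mul_inv_rev, inv_inv] at h3
    exact h3.symm
  · intro e he
    rcases hE e he with rfl | rfl
    · exact one_mul 1
    · exact hww
  · refine ⟨fun x y => ?_, fun x => ?_, fun x => ?_⟩
    · rw [hzel, hzel, map_smul, map_smul, LinearMap.smul_apply, smul_smul, ee_of hε, one_smul]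
    · rw [hzel, hzel, map_smul]
    · rw [hzel, hzel, map_smul]
  · intro y _
    ext x
    show y (zel V ε x) = zel V ε (y x)
    rw [hzel, hzel, map_smul]
  · ext x
    show zel V ε (zel V ε x) = x
    rw [hzel, hzel, smul_smul, ee_of hε, one_smul]
  · intro e he
    rcases hE e he with rfl | rfl
    · rw [mul_one, one_mul]
    · exact htw
  · ext x
    show t (t x) = zel V ε x
    rw [hzel]
    exact h.t_t x
  · -- generation
    set C := Subgroup.closure ((AA B δ s : Set (V ≃ₗ[F] V)) ∪ Subgroup.zpowers w ∪ {t}) with hC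
    have hAC : ∀ a ∈ AA B δ s, a ∈ C := fun a ha => Subgroup.subset_closure (Or.inl (Or.inl ha))
    have hwC : w ∈ C := Subgroup.subset_closure (Or.inl (Or.inr (Subgroup.mem_zpowers w)))
    have htC : t ∈ C := Subgroup.subset_closure (Or.inr rfl)
    -- elements commuting with `s`
    have step1 : ∀ g ∈ YY B δ s, (∀ x, g (s x) = s (g x)) → g ∈ C := by
      rintro g ⟨g1, -, g3⟩ gs
      rcases g3 with g3 | g3
      · exact hAC g ⟨g1, gs, g3⟩
      · have : t * g ∈ AA B δ s := by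
          refine ⟨mul_mem h.t_isom g1, fun x => ?_, fun x => ?_⟩
          · show t (g (s x)) = s (t (g x))
            rw [gs]
            exact h.t_s _
          · show t (g (δ x)) = δ (t (g x))
            rw [g3, map_neg]
            have := h.t_δ (g x)
            rw [this, neg_neg]
        have h2 := mul_mem (inv_mem htC) (hAC _ this)
        rwa [inv_mul_cancel_left] at h2
    intro g hg
    rcases hg.2.1 with gs | gs
    · exact step1 g hg gs
    · have h2 := step1 (w * g) (mul_mem hwY hg) (fun x => by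
        show w (g (s x)) = s (w (g x))
        rw [gs, map_neg]
        have := h.w_s (g x)
        rw [this, neg_neg])
      have h3 := mul_mem (inv_mem hwC) h2
      rwa [inv_mul_cancel_left] at h3

/-- **general form** -/
theorem cov_dt [Finite F] [FiniteDimensional F V] {B : V →ₗ[F] V →ₗ[F] F} {ε : F} (hF : Fm B ε)
    (hn : finrank F V = 4) {δ : Module.End F V} {d : F} (dd : ∀ x, δ (δ x) = d • x)
    (skew : ∀ x y, B (δ x) y = - B x (δ y)) (hd : ¬ IsSquare (-d)) {P : Subgroup (V ≃ₗ[F] V)} (hPI : P ≤ Isom B)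
    (hP2 : IsPGroup 2 P) (act : ∀ g ∈ P, (∀ x, g (δ x) = δ (g x)) ∨ ∀ x, g (δ x) = - δ (g x)) :
    ∃ s : Module.End F V, P ≤ YY B δ s ∧ FSZs (YY B δ s) (zel V ε) ∧
      (∀ c ∈ Isom B, (∀ x, c (s x) = s (c x)) → (∀ x, c (δ x) = δ (c x)) → c ∈ YY B δ s) ∧ s ∈ Sx B δ (-d) := by
  have : Finite V := Module.finite_of_finite F
  have hd0 : d ≠ 0 := by
    rintro rfl
    apply hd
    rw [neg_zero]
    exact IsSquare.zero
  have hε : ε = 1 ∨ ε = -1 := hF.eps.imp id And.left
  have key : ∃ s ∈ Sx B δ (-d), ∀ g ∈ P, (∀ x, g (s x) = s (g x)) ∨ ∀ x, g (s x) = - s (g x) := by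
    rcases hε with h1 | h1
    · have hq : Qd B δ d := ⟨hF.two, hF.nondeg, fun x y => by rw [hF.symm, h1, one_mul], dd, skew, hd0⟩
      exact hq.exists_fix hn hd hd P hP2 fun g hg =>
        ⟨⟨1, one_ne_zero, fun x y => by rw [hPI hg x y, one_mul]⟩, act g hg⟩
    · -- the symmetric form `B(x, δ y)`
      let B' : V →ₗ[F] V →ₗ[F] F := B.compl₁₂ LinearMap.id δ
      have hB' : ∀ x y, B' x y = B x (δ y) := fun x y => rfl
      have hq : Qd B' δ d := by
        refine ⟨hF.two, fun x hx => ?_, fun x y => ?_, dd, fun x y => ?_, hd0⟩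
        · apply hF.nondeg
          intro y
          have := hx (d⁻¹ • δ y)
          rw [hB', map_smul, dd, smul_smul, inv_mul_cancel₀ hd0, one_smul] at this
          exact this
        · rw [hB', hB', hF.symm, h1, skew]
          ring
        · rw [hB', hB', skew, dd]
      obtain ⟨s, hs, hsP⟩ := hq.exists_fix hn hd hd P hP2 fun g hg => by
        refine ⟨?_, act g hg⟩
        rcases act g hg with h2 | h2
        · exact ⟨1, one_ne_zero, fun x y => by rw [hB', hB', ← h2, hPI hg x (δ y), one_mul]⟩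
        · refine ⟨-1, neg_ne_zero.2 one_ne_zero, fun x y => ?_⟩
          have h3 : δ (g y) = - g (δ y) := by rw [h2, neg_neg]
          rw [hB', hB', h3, map_neg, hPI hg x (δ y)]
          ring
      refine ⟨s, ⟨hs.1, fun x y => ?_, hs.2.2⟩, hsP⟩
      have h2 := hs.2.1 x (d⁻¹ • δ y)
      simp only [hB', map_smul, hs.1, dd, smul_eq_mul] at h2
      rwa [← mul_assoc, ← mul_assoc, inv_mul_cancel₀ hd0, one_mul, one_mul] at h2
  obtain ⟨s, hs, hsP⟩ := key
  have hD : Dt B ε δ s d (-d) := ⟨hF.two, hF.nondeg, ee_of hε, hF.symm, dd, skew, hd0, hs, hd⟩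
  obtain ⟨f0, f1, Φ, hK⟩ := hD.exists_kd hn
  exact ⟨s, fun g hg => ⟨hPI hg, hsP g hg, act g hg⟩, hK.fszs hε, fun c hc c1 c2 => ⟨hc, Or.inl c1, Or.inl c2⟩, hs⟩

/-- **FR-N4** -/
theorem cov_n4 [Finite F] [FiniteDimensional F V] {B : V →ₗ[F] V →ₗ[F] F} {ε : F} (hF : Fm B ε)
    (hn : finrank F V = 4) {c : V ≃ₗ[F] V} (hc : c ∈ Isom B) {τ : F} (hτ : ∀ x, c x + c.symm x = τ • x)
    (hns : ¬ IsSquare (4 - τ ^ 2)) {P : Subgroup (V ≃ₗ[F] V)} (hPI : P ≤ Isom B) (hP2 : IsPGroup 2 P)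
    (act : ∀ g ∈ P, g * c * g⁻¹ = c ∨ g * c * g⁻¹ = c⁻¹) : Cov B ε c P := by
  let δ : Module.End F V := (c : V →ₗ[F] V) - (c.symm : V →ₗ[F] V)
  have hδ : ∀ x, δ x = c x - c.symm x := fun x => rfl
  have hcs : ∀ x, c (c.symm x) = x := fun x => c.apply_symm_apply x
  have hsc : ∀ x, c.symm (c x) = x := fun x => c.symm_apply_apply x
  have dd : ∀ x, δ (δ x) = (τ ^ 2 - 4) • x := by
    intro x
    have e1 : τ • (τ • x) = c (c x) + c.symm (c.symm x) + (2 : F) • x := by
      rw [← hτ x, smul_add, ← hτ (c x), ← hτ (c.symm x), hcs, hsc, two_smul]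
      abel
    have e2 : (τ ^ 2 - 4) • x = τ • (τ • x) - (4 : F) • x := by module
    rw [e2, e1, hδ, hδ, map_sub, map_sub, hcs, hsc]
    module
  have skew : ∀ x y, B (δ x) y = - B x (δ y) := by
    intro x y
    have e1 : B (c x) y = B x (c.symm y) := by
      have := hc x (c.symm y)
      rwa [hcs] at this
    have e2 : B (c.symm x) y = B x (c y) := by
      have := hc (c.symm x) y
      rw [hcs] at this
      exact this.symm
    rw [hδ, hδ, map_sub, map_sub, LinearMap.sub_apply, e1, e2, neg_sub]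
  have hdd : -(τ ^ 2 - 4) = 4 - τ ^ 2 := by ring
  have hact : ∀ g ∈ P, (∀ x, g (δ x) = δ (g x)) ∨ ∀ x, g (δ x) = - δ (g x) := by
    intro g hg
    have e1 : ∀ x, (g * c) x = g (c x) := fun _ => rfl
    rcases act g hg with h1 | h1
    · left
      have h2 : g * c = c * g := mul_inv_eq_iff_eq_mul.1 h1
      have h3 : ∀ x, g (c x) = c (g x) := fun x => congrArg (fun f : V ≃ₗ[F] V => f x) h2
      intro x
      have h4 : g (c.symm x) = c.symm (g x) := by
        apply c.injective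
        rw [← h3, hcs, hcs]
      rw [hδ, hδ, map_sub, h3, h4]
    · right
      have h2 : g * c = c⁻¹ * g := mul_inv_eq_iff_eq_mul.1 h1
      have h3 : ∀ x, g (c x) = c.symm (g x) := fun x => congrArg (fun f : V ≃ₗ[F] V => f x) h2
      intro x
      have h4 : g (c.symm x) = c (g x) := by
        apply c.symm.injective
        rw [← h3, hcs, hsc]
      rw [hδ, hδ, map_sub, h3, h4, neg_sub]
  obtain ⟨s, h1, h2, -, h4⟩ := cov_dt hF hn dd skew (by rwa [hdd]) hPI hP2 hact
  refine ⟨YY B δ s, fun g hg => hg.1, ⟨hc, Or.inl ?_, Or.inl ?_⟩, h1, h2⟩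
  · -- `2 c = τ + δ`
    intro x
    have h5 : ∀ x, c x = (2 : F)⁻¹ • (τ • x + δ x) := by
      intro x
      rw [hδ, ← hτ, eq_inv_smul_iff₀ hF.two]
      module
    rw [h5, h5, map_smul, map_add, map_smul, h4.1]
  · intro x
    rw [hδ, hδ, map_sub, hcs, hsc]

theorem not_isSquare_of [Finite F] (h2 : (2 : F) ≠ 0) {τ : F} (hτ : τ ≠ 2) (hτ' : τ ≠ -2)
    (h : ((∃ a : F, a * a + 1 = τ * a) ∧ Nat.card F % 4 = 3) ∨
      ((¬ ∃ a : F, a * a + 1 = τ * a) ∧ Nat.card F % 4 = 1)) : ¬ IsSquare (4 - τ ^ 2) := by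
  classical
  have := Fintype.ofFinite F
  rw [Nat.card_eq_fintype_card] at h
  have hne : τ ^ 2 - 4 ≠ 0 := by
    intro h0
    have : (τ - 2) * (τ + 2) = 0 := by linear_combination h0
    rcases mul_eq_zero.1 this with h3 | h3
    · exact hτ (sub_eq_zero.1 h3)
    · exact hτ' (eq_neg_of_add_eq_zero_left h3)
  rintro ⟨r, hr⟩
  rcases h with ⟨⟨a, ha⟩, hq⟩ | ⟨hns, hq⟩
  · have h3 : (2 * a - τ) * (2 * a - τ) = τ ^ 2 - 4 := by linear_combination 4 * ha
    have h4 : 2 * a - τ ≠ 0 := by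
      intro h0
      rw [h0, mul_zero] at h3
      exact hne h3.symm
    have h5 : IsSquare (-1 : F) := by
      refine ⟨r / (2 * a - τ), ?_⟩
      rw [div_mul_div_comm, ← hr, h3, eq_div_iff hne]
      ring
    rw [FiniteField.isSquare_neg_one_iff] at h5
    exact h5 hq
  · have h5 : IsSquare (-1 : F) := by
      rw [FiniteField.isSquare_neg_one_iff]
      omega
    obtain ⟨i, hi⟩ := h5
    apply hns
    refine ⟨(τ + i * r) / 2, ?_⟩
    field_simp
    linear_combination hr - r ^ 2 * hi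

/-- **FR-N4** in the form of the assembly -/
theorem cov_n4' [Finite F] [FiniteDimensional F V] {B : V →ₗ[F] V →ₗ[F] F} {ε : F} (hF : Fm B ε)
    {c : V ≃ₗ[F] V} {P : Subgroup (V ≃ₗ[F] V)} {τ : F} (hc : c ∈ Isom B) (hP : Mx B c P) (h2 : τ ≠ 2) (h2' : τ ≠ -2)
    (hτ : ∀ v, c v + c⁻¹ v = τ • v) (hn : finrank F V = 4)
    (h : ((∃ a : F, a * a + 1 = τ * a) ∧ Nat.card F % 4 = 3) ∨
      ((¬ ∃ a : F, a * a + 1 = τ * a) ∧ Nat.card F % 4 = 1)) : Cov B ε c P :=
  cov_n4 hF hn hc hτ (not_isSquare_of hF.two h2 h2' h) hP.le hP.two hP.act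

end Cfsg.Agent.H194.FR
end

-- part: H396/Uni/Cay
section
/-!
# S4970, FR-UNI, part 1: the Cayley transform of a unipotent isometry
-/

set_option autoImplicit false

namespace Cfsg.Agent.H396.Uni

open Module

section cayley

variable {F V : Type*} [Field F] [AddCommGroup V] [Module F V]

/-- the Cayley transform -/
theorem exists_cayley (h2 : (2 : F) ≠ 0) {C : End F V} (hu : IsNilpotent (C - 1)) :
    ∃ N D : End F V, (C + 1) * D = 1 ∧ D * (C + 1) = 1 ∧ N = (C - 1) * D ∧ IsNilpotent N ∧ Commute C N ∧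
      C * (1 - N) = 1 + N := by
  have hu2 : IsUnit (C + 1) := by
    have h1 : C + 1 = (C - 1) + (2 : F) • (1 : End F V) := by
      rw [two_smul]; abel
    rw [h1]
    have h3 : IsUnit ((2 : F) • (1 : End F V)) := by
      refine ⟨⟨(2 : F) • 1, (2 : F)⁻¹ • 1, ?_, ?_⟩, rfl⟩
      · rw [smul_mul_smul_comm, mul_inv_cancel₀ h2, one_smul, one_mul]
      · rw [smul_mul_smul_comm, inv_mul_cancel₀ h2, one_smul, one_mul]
    have h4 : Commute (C - 1) ((2 : F) • (1 : End F V)) := (Commute.one_right _).smul_right _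
    exact hu.isUnit_add_right_of_commute h3 h4
  obtain ⟨u, hu3⟩ := hu2
  have hD1 : (C + 1) * (↑u⁻¹ : End F V) = 1 := by rw [← hu3]; exact u.mul_inv
  have hD2 : (↑u⁻¹ : End F V) * (C + 1) = 1 := by rw [← hu3]; exact u.inv_mul
  have hcomm : Commute C (↑u⁻¹ : End F V) := by
    have h1 : Commute (C + 1) (↑u⁻¹ : End F V) := by
      show _ = _
      rw [hD1, hD2]
    have h2 : Commute ((C + 1) - 1) (↑u⁻¹ : End F V) := h1.sub_left (Commute.one_left _)
    rwa [add_sub_cancel_right] at h2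
  refine ⟨(C - 1) * ↑u⁻¹, ↑u⁻¹, hD1, hD2, rfl, ?_, ?_, ?_⟩
  · have h1 : Commute (C - 1) (↑u⁻¹ : End F V) := hcomm.sub_left (Commute.one_left _)
    exact h1.isNilpotent_mul_right hu
  · exact ((Commute.refl C).sub_right (Commute.one_right _)).mul_right hcomm
  · have e1 : (1 : End F V) = (C + 1) * ↑u⁻¹ := hD1.symm
    have e2 : (1 : End F V) - (C - 1) * ↑u⁻¹ = (2 : F) • (↑u⁻¹ : End F V) := by
      conv_lhs => rw [e1]
      rw [← sub_mul, two_smul]
      have : C + 1 - (C - (C + 1) * ↑u⁻¹) = 1 + 1 := by rw [hD1]; abel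
      rw [this, add_mul, one_mul]
    have e3 : (1 : End F V) + (C - 1) * ↑u⁻¹ = (2 : F) • (C * (↑u⁻¹ : End F V)) := by
      conv_lhs => rw [e1]
      rw [← add_mul, two_smul]
      have : C + 1 + (C - (C + 1) * ↑u⁻¹) = C + C := by rw [hD1]; abel
      rw [this, add_mul]
    rw [e2, e3, mul_smul_comm]

/-- what we need of the Cayley transform `N` of `c` -/
structure Cay (B : V →ₗ[F] V →ₗ[F] F) (c : V ≃ₗ[F] V) (N : V →ₗ[F] V) : Prop where
  nil : IsNilpotent (N : End F V)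
  skew : ∀ x y, B (N x) y = - B x (N y)
  cc : ∀ x, c (x - N x) = x + N x
  comm : ∀ x, c (N x) = N (c x)
  plus : ∀ g : V ≃ₗ[F] V, g * c * g⁻¹ = c → ∀ x, g (N x) = N (g x)
  minus : ∀ g : V ≃ₗ[F] V, g * c * g⁻¹ = c⁻¹ → ∀ x, g (N x) = - N (g x)
  ne : c ≠ 1 → N ≠ 0

theorem exists_cay (h2 : (2 : F) ≠ 0) {B : V →ₗ[F] V →ₗ[F] F} {c : V ≃ₗ[F] V}
    (hc : ∀ x y, B (c x) (c y) = B x y) (hu : IsNilpotent (((c : V →ₗ[F] V) : End F V) - 1)) :
    ∃ N : V →ₗ[F] V, Cay B c N := by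
  obtain ⟨N, D, hD1, hD2, hN, hn, hcm, hc1⟩ := exists_cayley h2 hu
  have hsur : ∀ x, ∃ u, x = c u + u := by
    intro x
    refine ⟨D x, ?_⟩
    have := LinearMap.congr_fun hD1 x
    exact this.symm
  have hNu : ∀ u, N (c u + u) = c u - u := by
    intro u
    have h1 : N * (((c : V →ₗ[F] V) : End F V) + 1) = ((c : V →ₗ[F] V) : End F V) - 1 := by
      rw [hN, mul_assoc, hD2, mul_one]
    exact LinearMap.congr_fun h1 u
  refine ⟨N, hn, ?_, ?_, ?_, ?_, ?_, ?_⟩
  · intro x y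
    obtain ⟨u, rfl⟩ := hsur x
    obtain ⟨v, rfl⟩ := hsur y
    rw [hNu, hNu]
    simp only [map_add, map_sub, LinearMap.add_apply, LinearMap.sub_apply, hc]
    ring
  · intro x
    exact LinearMap.congr_fun hc1 x
  · intro x
    exact LinearMap.congr_fun hcm x
  · intro g hg x
    have hg' : ∀ y, g (c y) = c (g y) := by
      intro y
      have h1 : g * c = c * g := by
        calc g * c = g * c * g⁻¹ * g := by group
          _ = c * g := by rw [hg]
      exact LinearEquiv.congr_fun h1 y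
    obtain ⟨u, rfl⟩ := hsur x
    rw [hNu, map_sub, map_add, hg', hNu]
  · intro g hg x
    have hg' : ∀ y, c (g (c y)) = g y := by
      intro y
      have h1 : c * (g * c) = g := by
        calc c * (g * c) = c * (g * c * g⁻¹) * g := by group
          _ = g := by rw [hg]; group
      exact LinearEquiv.congr_fun h1 y
    obtain ⟨u, rfl⟩ := hsur x
    rw [hNu, map_sub, map_add]
    have h1 : g (c u) + g u = c (g (c u)) + g (c u) := by rw [hg']; abel
    rw [h1, hNu, hg']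
    abel
  · intro hne h0
    apply hne
    ext x
    have h1 := LinearMap.congr_fun hc1 x
    rw [h0] at h1
    simpa only [_root_.LinearEquiv.coe_one, _root_.id_eq, _root_.sub_zero, _root_.mul_one, _root_.LinearEquiv.coe_coe, _root_.add_zero, _root_.Module.End.one_apply] using h1

end cayley

end Cfsg.Agent.H396.Uni
end

-- part: H396/Uni/Top
section
/-!
# S4970, FR-UNI, part 2: an invariant complement and the top block
-/

set_option autoImplicit false

namespace Cfsg.Agent.H396.Uni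

open Module Cfsg.Agent.H721.FR Cfsg.Agent.H721.SR

section

variable {F V : Type*} [Field F] [AddCommGroup V] [Module F V]

/-- **Maschke**: an invariant complement -/
theorem exists_compl {P : Subgroup (V ≃ₗ[F] V)} [Finite P] (hP : (Nat.card P : F) ≠ 0) {W : Submodule F V}
    (hW : ∀ g ∈ P, ∀ x ∈ W, g x ∈ W) :
    ∃ M : Submodule F V, IsCompl W M ∧ ∀ g ∈ P, ∀ x ∈ M, g x ∈ M := by
  classical
  have : Fintype P := Fintype.ofFinite P
  obtain ⟨W', hW'⟩ := Submodule.exists_isCompl W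
  set π : V →ₗ[F] V := W.subtype ∘ₗ Submodule.projectionOnto W W' hW' with hπ
  have hπW : ∀ x, π x ∈ W := fun x => (Submodule.projectionOnto W W' hW' x).2
  have hπx : ∀ x ∈ W, π x = x := by
    intro x hx
    rw [hπ]
    show ((Submodule.projectionOnto W W' hW' x : W) : V) = x
    exact congrArg Subtype.val (Submodule.projectionOnto_apply_left hW' ⟨x, hx⟩)
  -- the average
  set ρ : V →ₗ[F] V := ((Nat.card P : F)⁻¹) • ∑ g : P, ((g : V ≃ₗ[F] V) : V →ₗ[F] V) ∘ₗ π ∘ₗ
    (((g⁻¹ : P) : V ≃ₗ[F] V) : V →ₗ[F] V) with hρ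
  have hρa : ∀ x, ρ x = (Nat.card P : F)⁻¹ • ∑ g : P, (g : V ≃ₗ[F] V) (π (((g⁻¹ : P) : V ≃ₗ[F] V) x)) := by
    intro x
    rw [hρ, LinearMap.smul_apply, LinearMap.sum_apply]
    rfl
  have hρW : ∀ x, ρ x ∈ W := by
    intro x
    rw [hρa]
    exact W.smul_mem _ (Submodule.sum_mem _ fun g _ => hW _ g.2 _ (hπW _))
  have hρx : ∀ x ∈ W, ρ x = x := by
    intro x hx
    rw [hρa]
    have h1 : ∀ g : P, (g : V ≃ₗ[F] V) (π (((g⁻¹ : P) : V ≃ₗ[F] V) x)) = x := by
      intro g
      rw [hπx _ (hW _ (g⁻¹).2 _ hx)]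
      show ((g : V ≃ₗ[F] V) * ((g⁻¹ : P) : V ≃ₗ[F] V)) x = x
      rw [← Subgroup.coe_mul, mul_inv_cancel]
      rfl
    rw [Finset.sum_congr rfl fun g _ => h1 g, Finset.sum_const, Finset.card_univ, ← Nat.card_eq_fintype_card,
      ← Nat.cast_smul_eq_nsmul F, smul_smul, inv_mul_cancel₀ hP, one_smul]
  have hρg : ∀ h : P, ∀ x, ρ ((h : V ≃ₗ[F] V) x) = (h : V ≃ₗ[F] V) (ρ x) := by
    intro h x
    rw [hρa, hρa, map_smul, map_sum]
    congr 1
    refine Fintype.sum_equiv (Equiv.mulLeft h⁻¹) _ _ fun g => ?_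
    simp only [Equiv.coe_mulLeft]
    have e1 : (h : V ≃ₗ[F] V) (((h⁻¹ * g : P) : V ≃ₗ[F] V) (π (((((h⁻¹ * g)⁻¹ : P)) : V ≃ₗ[F] V) x))) =
        (((h : V ≃ₗ[F] V) * ((h⁻¹ * g : P) : V ≃ₗ[F] V))) (π (((((h⁻¹ * g)⁻¹ : P)) : V ≃ₗ[F] V) x)) := rfl
    rw [e1, ← Subgroup.coe_mul, mul_inv_cancel_left, mul_inv_rev, inv_inv]
    rfl
  refine ⟨LinearMap.ker ρ, ?_, ?_⟩
  · constructor
    · rw [Submodule.disjoint_def]
      intro x hx hk
      rw [LinearMap.mem_ker, hρx x hx] at hk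
      exact hk
    · rw [codisjoint_iff_le_sup]
      intro x _
      rw [Submodule.mem_sup]
      refine ⟨ρ x, hρW x, x - ρ x, ?_, by abel⟩
      rw [LinearMap.mem_ker, map_sub, hρx _ (hρW x), sub_self]
  · intro g hg x hx
    rw [LinearMap.mem_ker] at hx ⊢
    have := hρg ⟨g, hg⟩ x
    rw [this, hx, map_zero]

variable {B : V →ₗ[F] V →ₗ[F] F} {N : V →ₗ[F] V} {k : ℕ}

theorem skew_pow (hs : ∀ x y, B (N x) y = - B x (N y)) (i : ℕ) (x y : V) :
    B ((N ^ i) x) y = (-1) ^ i * B x ((N ^ i) y) := by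
  induction i generalizing x y with
  | zero => simp
  | succ i ih =>
    have e1 : (N ^ (i + 1)) x = N ((N ^ i) x) := by rw [pow_succ', Module.End.mul_apply]
    have e2 : (N ^ (i + 1)) y = (N ^ i) (N y) := by rw [pow_succ, Module.End.mul_apply]
    rw [e1, e2, hs, ih, pow_succ]
    ring

/-- the top block is nondegenerate -/
theorem top_nd (hk : 1 ≤ k) (hs : ∀ x y, B (N x) y = - B x (N y)) (hn : N ^ k = 0)
    (hnd : ∀ x, (∀ y, B x y = 0) → x = 0)
    {U : Submodule F V} (hU1 : ∀ v, ∃ u ∈ U, ∃ w, (N ^ (k - 1)) w = 0 ∧ v = u + w) (hU2 : ∀ u ∈ U, N u ∈ U)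
    (hU3 : ∀ u ∈ U, (N ^ (k - 1)) u = 0 → ∃ v ∈ U, u = N v) : NdOn B U := by
  have key : ∀ j, j ≤ k - 1 → ∀ x ∈ U, N x = 0 → ∃ u ∈ U, x = (N ^ j) u := by
    intro j
    induction j with
    | zero => intro _ x hx _; exact ⟨x, hx, by simp⟩
    | succ j ih =>
      intro hj x hx h0
      obtain ⟨u, hu, rfl⟩ := ih (by omega) x hx h0
      have h1 : (N ^ (k - 1)) u = 0 := by
        have h2 : k - 1 = (k - 1 - (j + 1)) + (j + 1) := by omega
        rw [h2, pow_add, Module.End.mul_apply, pow_succ', Module.End.mul_apply, h0, map_zero]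
      obtain ⟨v, hv, rfl⟩ := hU3 u hu h1
      exact ⟨v, hv, by rw [pow_succ, Module.End.mul_apply]⟩
  -- a vector of the radical killed by `N` is zero
  have h0 : ∀ x ∈ U, N x = 0 → (∀ y ∈ U, B x y = 0) → x = 0 := by
    intro x hx hNx hr
    obtain ⟨u, hu, rfl⟩ := key (k - 1) le_rfl x hx hNx
    apply hnd
    intro v
    obtain ⟨u', hu', w, hw, rfl⟩ := hU1 v
    rw [map_add, hr u' hu', skew_pow hs, hw, map_zero, mul_zero, add_zero]
  -- induction on the nilpotency of `x`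
  have h1 : ∀ j, ∀ x ∈ U, (N ^ j) x = 0 → (∀ y ∈ U, B x y = 0) → x = 0 := by
    intro j
    induction j with
    | zero => intro x _ hx _; simpa using hx
    | succ j ih =>
      intro x hx hj hr
      apply h0 x hx _ hr
      apply ih (N x) (hU2 x hx)
      · rw [← Module.End.mul_apply, ← pow_succ]; exact hj
      · intro y hy
        rw [hs, hr _ (hU2 y hy), neg_zero]
  intro x hx hr
  exact h1 k x hx (by rw [hn]; rfl) hr

/-- the span of the `N^i M` -/
def blk (N : V →ₗ[F] V) (M : Submodule F V) : Submodule F V := ⨆ i : ℕ, M.map (N ^ i)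

theorem le_blk (M : Submodule F V) : M ≤ blk N M := by
  have h := le_iSup (fun i : ℕ => M.map (N ^ i)) 0
  have h1 : M.map (N ^ 0) = M := by rw [pow_zero]; exact Submodule.map_id M
  rw [h1] at h
  exact h

theorem N_mem_blk {M : Submodule F V} {u : V} (hu : u ∈ blk N M) : N u ∈ blk N M := by
  have h : (blk N M).map N ≤ blk N M := by
    rw [blk, Submodule.map_iSup]
    refine iSup_le fun i => ?_
    have h1 : (M.map (N ^ i)).map N = M.map (N ^ (i + 1)) := by
      rw [← Submodule.map_comp, pow_succ']; rfl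
    rw [h1]
    exact le_iSup (fun i : ℕ => M.map (N ^ i)) (i + 1)
  exact h ⟨u, hu, rfl⟩

theorem blk_le {M : Submodule F V} : blk N M ≤ M ⊔ (blk N M).map N := by
  rw [blk]
  refine iSup_le fun i => ?_
  cases i with
  | zero =>
    have h1 : M.map (N ^ 0) = M := by rw [pow_zero]; exact Submodule.map_id M
    rw [h1]; exact le_sup_left
  | succ i =>
    refine le_sup_of_le_right ?_
    have h1 : M.map (N ^ (i + 1)) = (M.map (N ^ i)).map N := by
      rw [← Submodule.map_comp, pow_succ']; rfl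
    rw [h1]
    exact Submodule.map_mono (le_iSup (fun i : ℕ => M.map (N ^ i)) i)

theorem blk_invt {M : Submodule F V} {g : V →ₗ[F] V} (hg : ∀ x ∈ M, g x ∈ M)
    (hN : (∀ x, g (N x) = N (g x)) ∨ ∀ x, g (N x) = - N (g x)) {u : V} (hu : u ∈ blk N M) : g u ∈ blk N M := by
  have h : (blk N M).map g ≤ blk N M := by
    rw [blk, Submodule.map_iSup]
    refine iSup_le fun i => ?_
    have h1 : ∀ (i : ℕ) (x : V), g ((N ^ i) x) = (N ^ i) (g x) ∨ g ((N ^ i) x) = - (N ^ i) (g x) := by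
      intro i
      induction i with
      | zero => intro x; left; simp
      | succ i ih =>
        intro x
        rw [pow_succ', Module.End.mul_apply, Module.End.mul_apply]
        rcases ih x with h | h <;> rcases hN with h' | h' <;> rw [h', h]
        · left; rfl
        · right; rfl
        · right; rw [map_neg]
        · left; rw [map_neg, neg_neg]
    rintro _ ⟨_, ⟨x, hx, rfl⟩, rfl⟩
    have h2 : (N ^ i) (g x) ∈ ⨆ i : ℕ, M.map (N ^ i) :=
      (le_iSup (fun i : ℕ => M.map (N ^ i)) i) ⟨g x, hg x hx, rfl⟩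
    rcases h1 i x with h | h
    · rw [h]; exact h2
    · rw [h]; exact Submodule.neg_mem _ h2
  exact h ⟨u, hu, rfl⟩

end

end Cfsg.Agent.H396.Uni
end

-- part: H396/Uni/Step
section
/-!
# S4970, FR-UNI, part 3: improving the complement
-/

set_option autoImplicit false

namespace Cfsg.Agent.H396.Uni

open Module Cfsg.Agent.H721.FR Cfsg.Agent.H721.SR

section

variable {F V : Type*} [Field F] [AddCommGroup V] [Module F V]

/-- `V` is free over `F[N]/N^k`, generated by `M` -/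
structure Pre (B : V →ₗ[F] V →ₗ[F] F) (N : V →ₗ[F] V) (k : ℕ) (M : Submodule F V) : Prop where
  hk : 2 ≤ k
  nil : N ^ k = 0
  skew : ∀ x y, B (N x) y = - B x (N y)
  gen : M ⊔ LinearMap.range N = ⊤
  inj : ∀ x ∈ M, (N ^ (k - 1)) x = 0 → x = 0

variable {B : V →ₗ[F] V →ₗ[F] F} {N : V →ₗ[F] V} {k : ℕ} {M : Submodule F V} {ε : F}

theorem pow_zero_of_le (hn : N ^ k = 0) {i : ℕ} (hi : k ≤ i) (x : V) : (N ^ i) x = 0 := by
  have h : N ^ i = 0 := pow_eq_zero_of_le hi hn
  rw [h]; rfl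

theorem powN (i j : ℕ) (x : V) : (N ^ i) ((N ^ j) x) = (N ^ (i + j)) x := by
  rw [pow_add, Module.End.mul_apply]

theorem Pre.exists_add (h : Pre B N k M) (v : V) : ∃ x ∈ M, ∃ w, v = x + N w := by
  have hv : v ∈ M ⊔ LinearMap.range N := by rw [h.gen]; trivial
  obtain ⟨x, hx, _, ⟨w, rfl⟩, rfl⟩ := Submodule.mem_sup.1 hv
  exact ⟨x, hx, w, rfl⟩

theorem Pre.nd_left (h : Pre B N k M) (hnd : ∀ x, (∀ y, B x y = 0) → x = 0) {x : V} (hx : x ∈ M)
    (h0 : ∀ y ∈ M, B x ((N ^ (k - 1)) y) = 0) : x = 0 := by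
  apply h.inj x hx
  apply hnd
  intro v
  obtain ⟨y, hy, w, rfl⟩ := h.exists_add v
  have hk := h.hk
  have h1 : (N ^ (k - 1)) (N w) = 0 := by
    have h2 := powN (N := N) (k - 1) 1 w
    rw [pow_one] at h2
    rw [h2]
    exact pow_zero_of_le h.nil (by omega) w
  rw [skew_pow h.skew, map_add, h1, add_zero, h0 y hy, mul_zero]

theorem Pre.nd_right (h : Pre B N k M) (hs : ∀ x y, B x y = ε * B y x)
    (hnd : ∀ x, (∀ y, B x y = 0) → x = 0) {y : V} (hy : y ∈ M)
    (h0 : ∀ x ∈ M, B x ((N ^ (k - 1)) y) = 0) : y = 0 := by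
  apply h.nd_left hnd hy
  intro x hx
  rw [hs, skew_pow h.skew, h0 x hx, mul_zero, mul_zero]

/-- the linear algebra: solve `B x (N^(k-1) (A y)) = c * B x (N^j y)` -/
theorem Pre.exists_A [FiniteDimensional F V] (h : Pre B N k M) (hs : ∀ x y, B x y = ε * B y x)
    (hnd : ∀ x, (∀ y, B x y = 0) → x = 0) (j : ℕ) (c : F) :
    ∃ A : M →ₗ[F] M, ∀ x ∈ M, ∀ y : M, B x ((N ^ (k - 1)) (A y : V)) = c * B x ((N ^ j) (y : V)) := by
  -- `y ↦ (x ↦ B x (N^i y))`
  let Φ : ℕ → (M →ₗ[F] Dual F M) := fun i =>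
    { toFun := fun y =>
        { toFun := fun x => B (x : V) ((N ^ i) (y : V))
          map_add' := fun a b => by simp only [_root_.Submodule.coe_add, _root_.map_add, _root_.LinearMap.add_apply]
          map_smul' := fun a b => by simp only [_root_.SetLike.val_smul, _root_.map_smul, _root_.LinearMap.smul_apply, _root_.smul_eq_mul, _root_.RingHom.id_apply] }
      map_add' := fun a b => by ext x; simp only [_root_.Submodule.coe_add, _root_.map_add, _root_.LinearMap.coe_mk, _root_.AddHom.coe_mk, _root_.LinearMap.add_apply]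
      map_smul' := fun a b => by ext x; simp only [_root_.SetLike.val_smul, _root_.map_smul, _root_.smul_eq_mul, _root_.LinearMap.coe_mk, _root_.AddHom.coe_mk, _root_.RingHom.id_apply, _root_.LinearMap.smul_apply] }
  have hΦ : ∀ i (y x : M), Φ i y x = B (x : V) ((N ^ i) (y : V)) := fun _ _ _ => rfl
  have hinj : Function.Injective (Φ (k - 1)) := by
    rw [← LinearMap.ker_eq_bot, LinearMap.ker_eq_bot']
    intro y hy
    apply Subtype.ext
    refine h.nd_right hs hnd y.2 fun x hx => ?_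
    have := LinearMap.congr_fun hy ⟨x, hx⟩
    exact this
  have hsur : Function.Surjective (Φ (k - 1)) :=
    (LinearMap.injective_iff_surjective_of_finrank_eq_finrank (Subspace.dual_finrank_eq (K := F) (V := M)).symm).1 hinj
  let e : M ≃ₗ[F] Dual F M := LinearEquiv.ofBijective (Φ (k - 1)) ⟨hinj, hsur⟩
  refine ⟨e.symm.toLinearMap ∘ₗ (c • Φ j), fun x hx y => ?_⟩
  have h1 : Φ (k - 1) (e.symm ((c • Φ j) y)) = (c • Φ j) y := e.apply_symm_apply _
  have h2 := LinearMap.congr_fun h1 ⟨x, hx⟩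
  exact h2

theorem g_pow {g : V →ₗ[F] V} {s : F} (hg : ∀ x, g (N x) = s • N (g x)) (i : ℕ) (x : V) :
    g ((N ^ i) x) = s ^ i • (N ^ i) (g x) := by
  induction i with
  | zero => simp
  | succ i ih =>
    rw [pow_succ', Module.End.mul_apply, Module.End.mul_apply, hg, ih, map_smul, smul_smul, pow_succ']

/-- **the improvement step** -/
theorem Pre.step [FiniteDimensional F V] (h2 : (2 : F) ≠ 0) (h : Pre B N k M) (hε : ε * ε = 1)
    (hs : ∀ x y, B x y = ε * B y x)
    (hnd : ∀ x, (∀ y, B x y = 0) → x = 0) {P : Subgroup (V ≃ₗ[F] V)}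
    (hPI : ∀ g ∈ P, ∀ x y, B (g x) (g y) = B x y) (hM : ∀ g ∈ P, ∀ x ∈ M, g x ∈ M)
    (hact : ∀ g ∈ P, ∃ s : F, s * s = 1 ∧ ∀ x, g (N x) = s • N (g x)) {j : ℕ} (hj : j + 2 ≤ k)
    (ho : ∀ x ∈ M, ∀ y ∈ M, ∀ i, j < i → i ≠ k - 1 → B x ((N ^ i) y) = 0) :
    ∃ M' : Submodule F V, Pre B N k M' ∧ (∀ g ∈ P, ∀ x ∈ M', g x ∈ M') ∧
      ∀ x ∈ M', ∀ y ∈ M', ∀ i, j ≤ i → i ≠ k - 1 → B x ((N ^ i) y) = 0 := by
  obtain ⟨A, hA⟩ := h.exists_A hs hnd j (-(2 : F)⁻¹)
  obtain ⟨e, he⟩ : ∃ e, k - 1 = j + e := ⟨k - 1 - j, by omega⟩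
  have he1 : 1 ≤ e := by omega
  let ψ : M →ₗ[F] V := M.subtype + (N ^ e) ∘ₗ M.subtype ∘ₗ A
  have hψ : ∀ x : M, ψ x = (x : V) + (N ^ e) (A x : V) := fun _ => rfl
  have hNe : ∀ y : V, (N ^ e) y = N ((N ^ (e - 1)) y) := by
    intro y
    have := powN (N := N) 1 (e - 1) y
    rw [pow_one] at this
    rw [this]
    congr 2
    omega
  have hsm : ∀ (s : F), s * s = 1 → ∀ i, s ^ i * s ^ i = 1 := by
    intro s hs i
    rw [← mul_pow, hs, one_pow]
  refine ⟨LinearMap.range ψ, ?_, ?_, ?_⟩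
  · refine ⟨h.hk, h.nil, h.skew, ?_, ?_⟩
    · rw [eq_top_iff, ← h.gen]
      refine sup_le ?_ le_sup_right
      intro x hx
      rw [Submodule.mem_sup]
      refine ⟨ψ ⟨x, hx⟩, ⟨_, rfl⟩, - (N ^ e) (A ⟨x, hx⟩ : V), ?_, ?_⟩
      · rw [hNe]
        exact Submodule.neg_mem _ ⟨_, rfl⟩
      · rw [hψ]; simp
    · rintro _ ⟨x, rfl⟩ h0
      have h0' : (N ^ (k - 1)) ((N ^ e) (A x : V)) = 0 := by
        rw [powN]
        exact pow_zero_of_le h.nil (by have := h.hk; omega) _
      rw [hψ, map_add, h0', add_zero] at h0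
      have h1 : x = 0 := Subtype.ext (h.inj _ x.2 h0)
      rw [h1, map_zero]
  · rintro g hg _ ⟨x, rfl⟩
    obtain ⟨s, hss, hgN⟩ := hact g hg
    have hgp := fun i y => g_pow (g := (g : V →ₗ[F] V)) hgN i y
    have hgx : g (x : V) ∈ M := hM g hg _ x.2
    have hginv : ∀ y ∈ M, g⁻¹ y ∈ M := hM _ (P.inv_mem hg)
    have hgi : ∀ y z, B y (g z) = B (g⁻¹ y) z := by
      intro y z
      have h1 := hPI g hg (g⁻¹ y) z
      have h1' : g (g⁻¹ y) = y := by
        show (g * g⁻¹) y = y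
        rw [mul_inv_cancel]
        rfl
      rw [← h1, h1']
    -- `A g = s^(j+k-1) g A`
    have hAg : (A ⟨g x, hgx⟩ : V) = s ^ (j + (k - 1)) • g (A x : V) := by
      have h1 : (A ⟨g x, hgx⟩ : V) - s ^ (j + (k - 1)) • g (A x : V) = 0 := by
        have hmem : (A ⟨g x, hgx⟩ : V) - s ^ (j + (k - 1)) • g (A x : V) ∈ M :=
          M.sub_mem (A ⟨g x, hgx⟩).2 (M.smul_mem _ (hM g hg _ (A x).2))
        refine h.nd_right hs hnd hmem fun y hy => ?_
        rw [map_sub, map_smul, map_sub, map_smul, hA y hy]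
        have e1 : (N ^ (k - 1)) (g (A x : V)) = s ^ (k - 1) • g ((N ^ (k - 1)) (A x : V)) := by
          have h3 := hgp (k - 1) (A x : V)
          have h3' : g ((N ^ (k - 1)) (A x : V)) = s ^ (k - 1) • (N ^ (k - 1)) (g (A x : V)) := h3
          rw [h3', smul_smul, hsm s hss, one_smul]
        have e2 : (N ^ j) (g (x : V)) = s ^ j • g ((N ^ j) (x : V)) := by
          have h3 := hgp j (x : V)
          have h3' : g ((N ^ j) (x : V)) = s ^ j • (N ^ j) (g (x : V)) := h3
          rw [h3', smul_smul, hsm s hss, one_smul]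
        have e3 : B y ((N ^ j) ((⟨g x, hgx⟩ : M) : V)) = s ^ j * B (g⁻¹ y) ((N ^ j) (x : V)) := by
          show B y ((N ^ j) (g (x : V))) = _
          rw [e2, map_smul, smul_eq_mul, hgi]
        rw [e3, e1, map_smul, hgi, hA _ (hginv y hy), smul_eq_mul, smul_eq_mul, pow_add]
        have h4 := hsm s hss (k - 1)
        linear_combination (s ^ j * 2⁻¹ * B (g⁻¹ y) ((N ^ j) (x : V))) * h4
      rwa [sub_eq_zero] at h1
    refine ⟨⟨g x, hgx⟩, ?_⟩
    rw [hψ, hψ, map_add, hAg, map_smul]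
    show g (x : V) + _ = g (x : V) + _
    congr 1
    have h3 : g ((N ^ e) (A x : V)) = s ^ e • (N ^ e) (g (A x : V)) := hgp e (A x : V)
    rw [h3, he]
    congr 1
    have h5 := hsm s hss j
    rw [pow_add, pow_add]
    linear_combination s ^ e * h5
  · rintro _ ⟨x, rfl⟩ _ ⟨y, rfl⟩ i hji hik
    rw [hψ, hψ, map_add (N ^ i), powN, map_add, map_add, LinearMap.add_apply, LinearMap.add_apply]
    rcases Nat.lt_or_ge j i with hlt | hge
    · have h3 : ∀ z, (N ^ (i + e)) z = 0 := fun z => pow_zero_of_le h.nil (by have := h.hk; omega) z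
      have h4 : B ((N ^ e) (A x : V)) ((N ^ i) (y : V)) = 0 := by
        rw [skew_pow h.skew, powN, add_comm e i, h3, map_zero, mul_zero]
      rw [ho x x.2 y y.2 i hlt hik, h3, map_zero, map_zero, h4]
      simp
    · have hij : i = j := by omega
      subst hij
      have h3 : B ((N ^ e) (A x : V)) ((N ^ (i + e)) (A y : V)) = 0 := by
        rw [skew_pow h.skew, powN, pow_zero_of_le h.nil (by have := h.hk; omega), map_zero, mul_zero]
      have h4 : B ((N ^ e) (A x : V)) ((N ^ i) (y : V)) = (-1) ^ e * B (A x : V) ((N ^ (k - 1)) (y : V)) := by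
        rw [skew_pow h.skew, powN, he, add_comm e i]
      have h5 : B (A x : V) ((N ^ (k - 1)) (y : V)) =
          ε * ((-1) ^ (k - 1) * (-(2 : F)⁻¹ * B (y : V) ((N ^ i) (x : V)))) := by
        rw [hs, skew_pow h.skew, hA y y.2]
      have h6 : B (y : V) ((N ^ i) (x : V)) = (-1) ^ i * (ε * B (x : V) ((N ^ i) (y : V))) := by
        have h7 : B ((N ^ i) (y : V)) (x : V) = (-1) ^ i * B (y : V) ((N ^ i) (x : V)) := skew_pow h.skew i _ _
        have h8 : B (x : V) ((N ^ i) (y : V)) = ε * B ((N ^ i) (y : V)) (x : V) := hs _ _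
        rw [h8, h7]
        have h9 := hsm (-1 : F) (by ring) i
        linear_combination (-(ε * ε) * B (y : V) ((N ^ i) (x : V))) * h9 - B (y : V) ((N ^ i) (x : V)) * hε
      have h7 : B (x : V) ((N ^ (i + e)) (A y : V)) = -(2 : F)⁻¹ * B (x : V) ((N ^ i) (y : V)) := by
        rw [← he]; exact hA x x.2 y
      rw [h3, h4, h5, h6, h7, he, pow_add]
      have h8 := hsm (-1 : F) (by ring) i
      have h9 := hsm (-1 : F) (by ring) e
      have h10 : (-1 : F) ^ e * (ε * ((-1) ^ i * (-1) ^ e * (-(2 : F)⁻¹ * ((-1) ^ i * (ε * B (x : V) ((N ^ i) (y : V))))))) =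
          -(2 : F)⁻¹ * B (x : V) ((N ^ i) (y : V)) := by
        calc _ = -(2 : F)⁻¹ * B (x : V) ((N ^ i) (y : V)) * (ε * ε) * ((-1 : F) ^ i * (-1) ^ i) * ((-1 : F) ^ e * (-1) ^ e) := by
              ring
          _ = _ := by rw [hε, h8, h9]; ring
      rw [h10]
      have h11 : (2 : F)⁻¹ * 2 = 1 := inv_mul_cancel₀ h2
      linear_combination (-(B (x : V) ((N ^ i) (y : V)))) * h11

end

end Cfsg.Agent.H396.Uni
end

-- part: H396/Uni/Str
section
/-!
# S4970, FR-UNI, part 4: the structure of a unipotent isometry and its normalising 2-group (UNI-1)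

* `uni1` : reducible, or `V` is free over `F[N]/N^k` on a `P`-invariant `M` with `B (N^i x) (N^j y) = 0` for `i + j ≠ k-1`.
-/

set_option autoImplicit false

universe u

namespace Cfsg.Agent.H396.Uni

open Module Cfsg.Agent.H721.FR Cfsg.Agent.H721.SR

section

variable {F V : Type u} [Field F] [AddCommGroup V] [Module F V]

/-- `V = M ⊗ F[N]/N^k`, `B (N^i x) (N^j y) = (-1)^i B x (N^(k-1) y)` if `i + j = k - 1` and `0` otherwise (`x, y ∈ M`) -/
structure Str (B : V →ₗ[F] V →ₗ[F] F) (N : V →ₗ[F] V) (k : ℕ) (M : Submodule F V) : Prop extends Pre B N k M where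
  orth : ∀ x ∈ M, ∀ y ∈ M, ∀ i, i ≠ k - 1 → B x ((N ^ i) y) = 0

variable {B : V →ₗ[F] V →ₗ[F] F} {N : V →ₗ[F] V} {k : ℕ} {M : Submodule F V} {ε : F}

/-- the stabiliser of a subspace -/
def stab (U : Submodule F V) : Subgroup (V ≃ₗ[F] V) where
  carrier := {g | U.map (g : V →ₗ[F] V) = U}
  one_mem' := Submodule.map_id U
  mul_mem' := fun {a b} ha hb => by
    show U.map ((a : V →ₗ[F] V) ∘ₗ (b : V →ₗ[F] V)) = U
    rw [Submodule.map_comp]
    have ha' : U.map (a : V →ₗ[F] V) = U := ha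
    have hb' : U.map (b : V →ₗ[F] V) = U := hb
    rw [hb', ha']
  inv_mem' := fun {a} ha => by
    have ha' : U.map (a : V →ₗ[F] V) = U := ha
    show U.map ((a⁻¹ : V ≃ₗ[F] V) : V →ₗ[F] V) = U
    conv_lhs => rw [← ha']
    rw [← Submodule.map_comp]
    have h1 : ((a⁻¹ : V ≃ₗ[F] V) : V →ₗ[F] V) ∘ₗ (a : V →ₗ[F] V) = LinearMap.id := by
      ext x
      show (a⁻¹ * a) x = x
      rw [inv_mul_cancel]
      rfl
    rw [h1, Submodule.map_id]

theorem mem_stab_of_le [FiniteDimensional F V] {U : Submodule F V} {g : V ≃ₗ[F] V} (h : ∀ x ∈ U, g x ∈ U) :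
    g ∈ stab U := by
  show U.map (g : V →ₗ[F] V) = U
  apply Submodule.eq_of_le_of_finrank_eq
  · rintro _ ⟨x, hx, rfl⟩
    exact h x hx
  · exact LinearEquiv.finrank_map_eq g U

/-- repeated improvement -/
theorem Pre.exists_str [FiniteDimensional F V] (h2 : (2 : F) ≠ 0) (h : Pre B N k M) (hε : ε * ε = 1)
    (hs : ∀ x y, B x y = ε * B y x)
    (hnd : ∀ x, (∀ y, B x y = 0) → x = 0) {P : Subgroup (V ≃ₗ[F] V)}
    (hPI : ∀ g ∈ P, ∀ x y, B (g x) (g y) = B x y) (hM : ∀ g ∈ P, ∀ x ∈ M, g x ∈ M)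
    (hact : ∀ g ∈ P, ∃ s : F, s * s = 1 ∧ ∀ x, g (N x) = s • N (g x)) :
    ∃ M' : Submodule F V, Str B N k M' ∧ (∀ g ∈ P, ∀ x ∈ M', g x ∈ M') := by
  have key : ∀ n, n ≤ k - 1 → ∃ M' : Submodule F V, Pre B N k M' ∧ (∀ g ∈ P, ∀ x ∈ M', g x ∈ M') ∧
      ∀ x ∈ M', ∀ y ∈ M', ∀ i, k - 1 - n ≤ i → i ≠ k - 1 → B x ((N ^ i) y) = 0 := by
    intro n
    induction n with
    | zero =>
      intro _
      refine ⟨M, h, hM, fun x _ y _ i hi hik => ?_⟩
      rw [pow_zero_of_le h.nil (by omega), map_zero]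
    | succ n ih =>
      intro hn
      obtain ⟨M₁, h1, h3, h4⟩ := ih (by omega)
      obtain ⟨M₂, h5, h6, h7⟩ := h1.step h2 hε hs hnd hPI h3 hact (j := k - 1 - (n + 1)) (by have := h.hk; omega)
        (fun x hx y hy i hi hik => h4 x hx y hy i (by omega) hik)
      exact ⟨M₂, h5, h6, h7⟩
  obtain ⟨M', h1, h3, h4⟩ := key (k - 1) le_rfl
  exact ⟨M', ⟨h1, fun x hx y hy i hi => h4 x hx y hy i (by omega) hi⟩, h3⟩

theorem geom_inv (hn : N ^ k = 0) (u : V) :
    u = (∑ i ∈ Finset.range k, (N ^ i) u) - N (∑ i ∈ Finset.range k, (N ^ i) u) := by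
  have h := mul_neg_geom_sum (N : End F V) k
  have h1 := LinearMap.congr_fun h u
  have hn' : (N : End F V) ^ k = 0 := hn
  rw [hn', sub_zero, Module.End.mul_apply, LinearMap.sum_apply] at h1
  exact h1.symm

/-- **UNI-1** -/
theorem uni1 [FiniteDimensional F V] (h2 : (2 : F) ≠ 0) (hε : ε * ε = 1) (hs : ∀ x y, B x y = ε * B y x)
    (hnd : ∀ x, (∀ y, B x y = 0) → x = 0) {c : V ≃ₗ[F] V} (hc : c ∈ Isom B) (hc1 : c ≠ 1)
    (hu : IsNilpotent (((c : V →ₗ[F] V) : End F V) - 1)) {P : Subgroup (V ≃ₗ[F] V)} [Finite P]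
    (hP : (Nat.card P : F) ≠ 0) (hPI : P ≤ Isom B) (hact : ∀ g ∈ P, g * c * g⁻¹ = c ∨ g * c * g⁻¹ = c⁻¹) :
    Red B (Subgroup.closure {c} ⊔ P) ∨ ∃ (N : V →ₗ[F] V) (k : ℕ) (M : Submodule F V), Cay B c N ∧ Str B N k M ∧
      (∀ g ∈ P, ∀ x ∈ M, g x ∈ M) ∧
      ∀ g ∈ P, (g * c * g⁻¹ = c ∧ ∀ x, g (N x) = N (g x)) ∨ (g * c * g⁻¹ = c⁻¹ ∧ ∀ x, g (N x) = - N (g x)) := by
  obtain ⟨N, hN⟩ := exists_cay h2 (B := B) hc hu
  have hN0 := hN.ne hc1
  set k := nilpotencyClass (N : End F V) with hk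
  have hnil : N ^ k = 0 := pow_nilpotencyClass hN.nil
  have hnt : Nontrivial V := by
    by_contra h
    rw [not_nontrivial_iff_subsingleton] at h
    exact hN0 (LinearMap.ext fun x => Subsingleton.elim _ _)
  have hk0 : 0 < k := pos_nilpotencyClass_iff.2 hN.nil
  have htop : N ^ (k - 1) ≠ 0 := pow_pred_nilpotencyClass hN.nil
  have hk2 : 2 ≤ k := by
    by_contra hcon
    have h1 : k = 1 := by omega
    rw [h1, pow_one] at hnil
    exact hN0 hnil
  have hPact : ∀ g ∈ P, (g * c * g⁻¹ = c ∧ ∀ x, g (N x) = N (g x)) ∨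
      (g * c * g⁻¹ = c⁻¹ ∧ ∀ x, g (N x) = - N (g x)) := by
    intro g hg
    rcases hact g hg with h | h
    · exact Or.inl ⟨h, hN.plus g h⟩
    · exact Or.inr ⟨h, hN.minus g h⟩
  have hact' : ∀ g ∈ P, ∃ s : F, s * s = 1 ∧ ∀ x, g (N x) = s • N (g x) := by
    intro g hg
    rcases hPact g hg with ⟨-, h⟩ | ⟨-, h⟩
    · exact ⟨1, one_mul 1, fun x => by rw [one_smul]; exact h x⟩
    · exact ⟨-1, by ring, fun x => by rw [neg_smul, one_smul]; exact h x⟩
  have hW : ∀ g ∈ P, ∀ x ∈ LinearMap.ker (N ^ (k - 1)), g x ∈ LinearMap.ker (N ^ (k - 1)) := by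
    intro g hg x hx
    rw [LinearMap.mem_ker] at hx ⊢
    obtain ⟨s, hs1, hs2⟩ := hact' g hg
    have h1 : g ((N ^ (k - 1)) x) = s ^ (k - 1) • (N ^ (k - 1)) (g x) :=
      g_pow (g := (g : V →ₗ[F] V)) hs2 (k - 1) x
    rw [hx, map_zero] at h1
    have h3 : s ≠ 0 := by rintro rfl; simp at hs1
    exact (smul_eq_zero.1 h1.symm).resolve_left (pow_ne_zero _ h3)
  obtain ⟨M, hM, hMP⟩ := exists_compl hP hW
  have hMinj : ∀ x ∈ M, (N ^ (k - 1)) x = 0 → x = 0 := fun x hx h0 =>
    (Submodule.disjoint_def.1 hM.disjoint) x (LinearMap.mem_ker.2 h0) hx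
  by_cases hU : blk N M = ⊤
  · right
    have hpre : Pre B N k M := by
      refine ⟨hk2, hnil, hN.skew, ?_, hMinj⟩
      rw [eq_top_iff]
      calc ⊤ = blk N M := hU.symm
        _ ≤ M ⊔ (blk N M).map N := blk_le
        _ ≤ M ⊔ LinearMap.range N := sup_le_sup_left LinearMap.map_le_range _
    obtain ⟨M', h3, h4⟩ := hpre.exists_str h2 hε hs hnd (P := P) (fun g hg => hPI hg) hMP hact'
    exact ⟨N, k, M', hN, h3, h4, hPact⟩
  · left
    refine ⟨blk N M, ?_, hU, ?_, ?_⟩
    · intro h0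
      apply htop
      rw [← LinearMap.ker_eq_top]
      have hM0 : M = ⊥ := eq_bot_iff.2 ((le_blk M).trans h0.le)
      have := hM.sup_eq_top
      rwa [hM0, sup_bot_eq] at this
    · refine top_nd (k := k) (by omega) hN.skew hnil hnd ?_ (fun u hu => N_mem_blk hu) ?_
      · intro v
        have hv : v ∈ LinearMap.ker (N ^ (k - 1)) ⊔ M := by rw [hM.sup_eq_top]; trivial
        obtain ⟨w, hw, m, hm, rfl⟩ := Submodule.mem_sup.1 hv
        exact ⟨m, le_blk M hm, w, hw, add_comm _ _⟩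
      · intro u hu h0
        obtain ⟨m, hm, _, ⟨u', hu', rfl⟩, rfl⟩ := Submodule.mem_sup.1 (blk_le hu)
        have h1 : (N ^ (k - 1)) (N u') = 0 := by
          have h3 := powN (N := N) (k - 1) 1 u'
          rw [pow_one] at h3
          rw [h3]
          exact pow_zero_of_le hnil (by omega) u'
        rw [map_add, h1, add_zero] at h0
        exact ⟨u', hu', by rw [hMinj m hm h0, zero_add]⟩
    · intro g hg
      left
      have hle : Subgroup.closure {c} ⊔ P ≤ stab (blk N M) := by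
        refine sup_le ?_ ?_
        · rw [Subgroup.closure_le, Set.singleton_subset_iff]
          refine mem_stab_of_le fun u hu => ?_
          have hsum : (∑ i ∈ Finset.range k, (N ^ i) u) ∈ blk N M := by
            refine Submodule.sum_mem _ fun i hi => ?_
            clear hi
            induction i with
            | zero => simpa using hu
            | succ i ih =>
              rw [pow_succ', Module.End.mul_apply]
              exact N_mem_blk ih
          rw [geom_inv hnil u, hN.cc]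
          exact Submodule.add_mem _ hsum (N_mem_blk hsum)
        · intro g hg
          refine mem_stab_of_le fun u hu => ?_
          refine blk_invt (g := (g : V →ₗ[F] V)) (hMP g hg) ?_ hu
          rcases hPact g hg with ⟨-, h⟩ | ⟨-, h⟩
          · exact Or.inl h
          · exact Or.inr h
      exact hle hg

end

end Cfsg.Agent.H396.Uni
end

-- part: H396/Uni/Tens
section
/-!
# S4970, FR-UNI, part 5: `V = J_k ⊗ M`, the operators `1 ⊗ a` and `h`
-/

set_option autoImplicit false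

universe u

namespace Cfsg.Agent.H396.Uni

open Module Cfsg.Agent.H721.FR Cfsg.Agent.H721.SR

section

variable {F V : Type u} [Field F] [AddCommGroup V] [Module F V]
variable {B : V →ₗ[F] V →ₗ[F] F} {N : V →ₗ[F] V} {k : ℕ} {M : Submodule F V} {ε : F}

/-- `m ↦ Σ N^i m_i` -/
noncomputable def phiL (N : V →ₗ[F] V) (k : ℕ) (M : Submodule F V) : (Fin k → M) →ₗ[F] V :=
  ∑ i : Fin k, (N ^ (i : ℕ)) ∘ₗ M.subtype ∘ₗ LinearMap.proj i

theorem phiL_apply (m : Fin k → M) : phiL N k M m = ∑ i : Fin k, (N ^ (i : ℕ)) (m i : V) := by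
  rw [phiL, LinearMap.sum_apply]
  rfl

theorem phiL_single (i : Fin k) (x : M) : phiL N k M (Pi.single i x) = (N ^ (i : ℕ)) (x : V) := by
  classical
  rw [phiL_apply, Finset.sum_eq_single i]
  · rw [Pi.single_eq_same]
  · intro j _ hj
    rw [Pi.single_eq_of_ne hj, Submodule.coe_zero, map_zero]
  · intro h; exact absurd (Finset.mem_univ _) h

theorem Pre.phiL_inj (h : Pre B N k M) : Function.Injective (phiL N k M) := by
  rw [← LinearMap.ker_eq_bot, LinearMap.ker_eq_bot']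
  intro m hm
  rw [phiL_apply] at hm
  have key : ∀ n : ℕ, ∀ i : Fin k, (i : ℕ) < n → m i = 0 := by
    intro n
    induction n with
    | zero => intro i hi; omega
    | succ n ih =>
      intro i hi
      by_cases hin : (i : ℕ) < n
      · exact ih i hin
      have hi' : (i : ℕ) = n := by omega
      apply Subtype.ext
      apply h.inj _ (m i).2
      have h1 := congrArg (N ^ (k - 1 - n)) hm
      rw [map_sum, map_zero, Finset.sum_eq_single i] at h1
      · rw [powN] at h1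
        have h2 : k - 1 - n + (i : ℕ) = k - 1 := by omega
        rwa [h2] at h1
      · intro j _ hj
        rw [powN]
        rcases Nat.lt_or_ge (j : ℕ) n with hjn | hjn
        · rw [ih j hjn, Submodule.coe_zero, map_zero]
        · have hj' : (j : ℕ) ≠ i := fun e => hj (Fin.ext e)
          exact pow_zero_of_le h.nil (by have := i.2; omega) _
      · intro h; exact absurd (Finset.mem_univ _) h
  funext i
  exact key k i i.2

theorem mem_range_phiL (hn : N ^ k = 0) {x : V} (hx : x ∈ M) (i : ℕ) : (N ^ i) x ∈ LinearMap.range (phiL N k M) := by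
  rcases Nat.lt_or_ge i k with hi | hi
  · exact ⟨Pi.single ⟨i, hi⟩ ⟨x, hx⟩, phiL_single ⟨i, hi⟩ ⟨x, hx⟩⟩
  · rw [pow_zero_of_le hn hi]
    exact Submodule.zero_mem _

theorem Pre.phiL_surj (h : Pre B N k M) : Function.Surjective (phiL N k M) := by
  have key : ∀ n : ℕ, ∀ v : V, ∃ r ∈ LinearMap.range (phiL N k M), ∃ w, v = r + (N ^ n) w := by
    intro n
    induction n with
    | zero => intro v; exact ⟨0, Submodule.zero_mem _, v, by simp⟩
    | succ n ih =>
      intro v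
      obtain ⟨r, hr, w, rfl⟩ := ih v
      obtain ⟨x, hx, w', rfl⟩ := h.exists_add w
      refine ⟨r + (N ^ n) x, Submodule.add_mem _ hr (mem_range_phiL h.nil hx n), w', ?_⟩
      rw [map_add, pow_succ, Module.End.mul_apply, add_assoc]
  intro v
  obtain ⟨r, hr, w, hv⟩ := key k v
  rw [h.nil, LinearMap.zero_apply, add_zero] at hv
  rw [hv]
  exact hr

/-- `V = M^k` -/
noncomputable def Pre.phi (h : Pre B N k M) : (Fin k → M) ≃ₗ[F] V :=
  LinearEquiv.ofBijective (phiL N k M) ⟨h.phiL_inj, h.phiL_surj⟩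

theorem Pre.phi_apply (h : Pre B N k M) (m : Fin k → M) : h.phi m = ∑ i : Fin k, (N ^ (i : ℕ)) (m i : V) :=
  phiL_apply m

theorem Pre.phi_single (h : Pre B N k M) (i : Fin k) (x : M) : h.phi (Pi.single i x) = (N ^ (i : ℕ)) (x : V) :=
  phiL_single i x

theorem Pre.phi_symm (h : Pre B N k M) (i : Fin k) (x : M) : h.phi.symm ((N ^ (i : ℕ)) (x : V)) = Pi.single i x := by
  rw [LinearEquiv.symm_apply_eq, h.phi_single]

/-- linear maps agree if they agree on the `N^i x` -/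
theorem Pre.ext_lin (h : Pre B N k M) {W : Type*} [AddCommGroup W] [Module F W] {f g : V →ₗ[F] W}
    (hfg : ∀ (i : ℕ) (x : M), f ((N ^ i) (x : V)) = g ((N ^ i) (x : V))) : f = g := by
  ext v
  obtain ⟨m, rfl⟩ := h.phi.surjective v
  rw [h.phi_apply, map_sum, map_sum]
  exact Finset.sum_congr rfl fun i _ => hfg i (m i)

theorem Pre.ext_equiv (h : Pre B N k M) {f g : V ≃ₗ[F] V}
    (hfg : ∀ (i : ℕ) (x : M), f ((N ^ i) (x : V)) = g ((N ^ i) (x : V))) : f = g := by
  have h1 : (f : V →ₗ[F] V) = (g : V →ₗ[F] V) := h.ext_lin hfg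
  ext v
  exact LinearMap.congr_fun h1 v

/-- bilinear identities can be checked on the `N^i x` -/
theorem Pre.ext_bil (h : Pre B N k M) {f g : V →ₗ[F] V →ₗ[F] F}
    (hfg : ∀ (i j : ℕ) (x y : M), f ((N ^ i) (x : V)) ((N ^ j) (y : V)) = g ((N ^ i) (x : V)) ((N ^ j) (y : V))) :
    f = g :=
  h.ext_lin fun i x => h.ext_lin fun j y => hfg i j x y

theorem Pre.ext_form (h : Pre B N k M) {f : V →ₗ[F] V} {t : F}
    (hfg : ∀ (i j : ℕ) (x y : M), B (f ((N ^ i) (x : V))) (f ((N ^ j) (y : V))) =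
      t * B ((N ^ i) (x : V)) ((N ^ j) (y : V))) : ∀ v w, B (f v) (f w) = t * B v w := by
  have h1 : (B ∘ₗ f).compl₂ f = t • B := h.ext_bil fun i j x y => by
    rw [LinearMap.compl₂_apply, LinearMap.comp_apply, LinearMap.smul_apply, LinearMap.smul_apply, smul_eq_mul]
    exact hfg i j x y
  intro v w
  have := LinearMap.congr_fun (LinearMap.congr_fun h1 v) w
  rwa [LinearMap.compl₂_apply, LinearMap.comp_apply, LinearMap.smul_apply, LinearMap.smul_apply, smul_eq_mul] at this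

/-- `1 ⊗ a` -/
noncomputable def Pre.tens (h : Pre B N k M) : (M ≃ₗ[F] M) →* (V ≃ₗ[F] V) where
  toFun a := h.phi.symm ≪≫ₗ LinearEquiv.piCongrRight (fun _ => a) ≪≫ₗ h.phi
  map_one' := by
    ext v
    simp only [LinearEquiv.trans_apply]
    exact h.phi.apply_symm_apply v
  map_mul' a b := by
    ext v
    simp only [LinearEquiv.trans_apply, LinearEquiv.mul_apply, LinearEquiv.symm_apply_apply]
    rfl

theorem Pre.tens_apply (h : Pre B N k M) (a : M ≃ₗ[F] M) (i : ℕ) (x : M) :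
    h.tens a ((N ^ i) (x : V)) = (N ^ i) (a x : V) := by
  classical
  rcases Nat.lt_or_ge i k with hi | hi
  · show h.phi (LinearEquiv.piCongrRight (fun _ => a) (h.phi.symm ((N ^ i) (x : V)))) = _
    have h1 := h.phi_symm ⟨i, hi⟩ x
    have h1' : h.phi.symm ((N ^ i) (x : V)) = Pi.single ⟨i, hi⟩ x := h1
    rw [h1']
    have h2 : LinearEquiv.piCongrRight (fun _ : Fin k => a) (Pi.single ⟨i, hi⟩ x) = Pi.single ⟨i, hi⟩ (a x) := by
      funext j
      show a ((Pi.single ⟨i, hi⟩ x : Fin k → M) j) = _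
      by_cases hj : j = ⟨i, hi⟩
      · subst hj; rw [Pi.single_eq_same, Pi.single_eq_same]
      · rw [Pi.single_eq_of_ne hj, Pi.single_eq_of_ne hj, map_zero]
    rw [h2]
    exact h.phi_single ⟨i, hi⟩ (a x)
  · rw [pow_zero_of_le h.nil hi, pow_zero_of_le h.nil hi, map_zero]

theorem Pre.tens_coe (h : Pre B N k M) (a : M ≃ₗ[F] M) (x : M) : h.tens a (x : V) = (a x : V) := by
  have := h.tens_apply a 0 x
  simpa only [_root_.pow_zero, _root_.Module.End.one_apply] using this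

theorem Pre.tens_N (h : Pre B N k M) (a : M ≃ₗ[F] M) (v : V) : h.tens a (N v) = N (h.tens a v) := by
  have h1 : (h.tens a : V →ₗ[F] V) ∘ₗ N = N ∘ₗ (h.tens a : V →ₗ[F] V) := h.ext_lin fun i x => by
    show h.tens a (N ((N ^ i) (x : V))) = N (h.tens a ((N ^ i) (x : V)))
    have h2 : ∀ y : V, N ((N ^ i) y) = (N ^ (i + 1)) y := fun y => by rw [pow_succ', Module.End.mul_apply]
    rw [h2, h.tens_apply, h.tens_apply, h2]
  exact LinearMap.congr_fun h1 v

/-- `h`: `(-1)^i` on `N^i M` -/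
noncomputable def Pre.hh (h : Pre B N k M) : V ≃ₗ[F] V :=
  h.phi.symm ≪≫ₗ LinearEquiv.piCongrRight (fun i : Fin k => LinearEquiv.smulOfUnit ((-1 : Fˣ) ^ (i : ℕ))) ≪≫ₗ h.phi

theorem Pre.hh_apply (h : Pre B N k M) (i : ℕ) (x : M) :
    h.hh ((N ^ i) (x : V)) = (-1 : F) ^ i • (N ^ i) (x : V) := by
  classical
  rcases Nat.lt_or_ge i k with hi | hi
  · show h.phi (LinearEquiv.piCongrRight (fun i : Fin k => LinearEquiv.smulOfUnit ((-1 : Fˣ) ^ (i : ℕ)))
      (h.phi.symm ((N ^ i) (x : V)))) = _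
    have h1' : h.phi.symm ((N ^ i) (x : V)) = Pi.single ⟨i, hi⟩ x := h.phi_symm ⟨i, hi⟩ x
    rw [h1']
    have h2 : LinearEquiv.piCongrRight (fun i : Fin k => LinearEquiv.smulOfUnit (R := F) (M := M) ((-1 : Fˣ) ^ (i : ℕ)))
        (Pi.single ⟨i, hi⟩ x) = Pi.single ⟨i, hi⟩ ((-1 : F) ^ i • x) := by
      funext j
      show ((-1 : Fˣ) ^ (j : ℕ)) • ((Pi.single ⟨i, hi⟩ x : Fin k → M) j) = _
      by_cases hj : j = ⟨i, hi⟩
      · subst hj
        rw [Pi.single_eq_same, Pi.single_eq_same, Units.smul_def]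
        simp only [_root_.Units.val_pow_eq_pow_val, _root_.Units.val_neg, _root_.Units.val_one]
      · rw [Pi.single_eq_of_ne hj, Pi.single_eq_of_ne hj, smul_zero]
    rw [h2]
    have h3 := h.phi_single ⟨i, hi⟩ ((-1 : F) ^ i • x)
    rw [h3, Submodule.coe_smul, map_smul]
  · rw [pow_zero_of_le h.nil hi, map_zero, smul_zero]

theorem Pre.hh_N (h : Pre B N k M) (v : V) : h.hh (N v) = - N (h.hh v) := by
  have h1 : (h.hh : V →ₗ[F] V) ∘ₗ N = - (N ∘ₗ (h.hh : V →ₗ[F] V)) := h.ext_lin fun i x => by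
    show h.hh (N ((N ^ i) (x : V))) = - N (h.hh ((N ^ i) (x : V)))
    have h2 : ∀ y : V, N ((N ^ i) y) = (N ^ (i + 1)) y := fun y => by rw [pow_succ', Module.End.mul_apply]
    rw [h2, h.hh_apply, h.hh_apply, map_smul, h2, pow_succ, mul_neg_one, neg_smul]
  exact LinearMap.congr_fun h1 v

theorem Pre.hh_hh (h : Pre B N k M) : h.hh * h.hh = 1 := by
  apply h.ext_equiv
  intro i x
  rw [LinearEquiv.mul_apply, h.hh_apply, map_smul, h.hh_apply, smul_smul, ← mul_pow]
  simp only [_root_.mul_neg, _root_.mul_one, _root_.neg_neg, _root_.one_pow, _root_.one_smul, _root_.LinearEquiv.coe_one, _root_.id_eq]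

theorem Pre.hh_tens (h : Pre B N k M) (a : M ≃ₗ[F] M) : h.hh * h.tens a = h.tens a * h.hh := by
  apply h.ext_equiv
  intro i x
  rw [LinearEquiv.mul_apply, LinearEquiv.mul_apply, h.tens_apply, h.hh_apply, h.hh_apply, map_smul, h.tens_apply]

/-! ### the form on `M` -/

/-- `β x y = B x (N^(k-1) y)` on `M` -/
noncomputable def bet (B : V →ₗ[F] V →ₗ[F] F) (N : V →ₗ[F] V) (k : ℕ) (M : Submodule F V) : M →ₗ[F] M →ₗ[F] F :=
  (B ∘ₗ M.subtype).compl₂ ((N ^ (k - 1)) ∘ₗ M.subtype)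

theorem bet_apply (x y : M) : bet B N k M x y = B (x : V) ((N ^ (k - 1)) (y : V)) := rfl

theorem Pre.bet_symm (h : Pre B N k M) (hs : ∀ x y, B x y = ε * B y x) (x y : M) :
    bet B N k M x y = (ε * (-1) ^ (k - 1)) * bet B N k M y x := by
  rw [bet_apply, bet_apply, hs, skew_pow h.skew, mul_assoc]

theorem Pre.bet_nd (h : Pre B N k M) (hnd : ∀ x, (∀ y, B x y = 0) → x = 0) (x : M)
    (h0 : ∀ y, bet B N k M x y = 0) : x = 0 :=
  Subtype.ext (h.nd_left hnd x.2 fun y hy => h0 ⟨y, hy⟩)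

theorem Str.form (h : Str B N k M) (i j : ℕ) (x y : M) :
    B ((N ^ i) (x : V)) ((N ^ j) (y : V)) = if i + j = k - 1 then (-1) ^ i * bet B N k M x y else 0 := by
  rw [skew_pow h.skew, powN]
  split_ifs with hij
  · rw [hij, bet_apply]
  · rw [h.orth _ x.2 _ y.2 _ hij, mul_zero]

/-- similarities -/
theorem Str.tens_form (h : Str B N k M) (a : M ≃ₗ[F] M) (t : F) :
    (∀ v w, B (h.tens a v) (h.tens a w) = t * B v w) ↔ ∀ x y, bet B N k M (a x) (a y) = t * bet B N k M x y := by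
  constructor
  · intro h1 x y
    have h2 := h1 (x : V) ((N ^ (k - 1)) (y : V))
    rw [h.tens_coe, h.tens_apply] at h2
    rw [bet_apply, bet_apply]
    exact h2
  · intro h1
    refine h.ext_form (f := (h.tens a : V →ₗ[F] V)) fun i j x y => ?_
    show B (h.tens a ((N ^ i) (x : V))) (h.tens a ((N ^ j) (y : V))) = _
    rw [h.tens_apply, h.tens_apply, h.form, h.form]
    split_ifs
    · rw [h1]; ring
    · rw [mul_zero]

theorem Str.tens_mem (h : Str B N k M) (a : M ≃ₗ[F] M) : h.tens a ∈ Isom B ↔ a ∈ Isom (bet B N k M) := by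
  have h1 := h.tens_form a 1
  simp only [one_mul] at h1
  exact h1

theorem Str.hh_form (h : Str B N k M) (v w : V) : B (h.hh v) (h.hh w) = (-1) ^ (k - 1) * B v w := by
  refine h.ext_form (f := (h.hh : V →ₗ[F] V)) (fun i j x y => ?_) v w
  show B (h.hh ((N ^ i) (x : V))) (h.hh ((N ^ j) (y : V))) = _
  rw [h.hh_apply, h.hh_apply, map_smul, map_smul, LinearMap.smul_apply, smul_eq_mul, smul_eq_mul, h.form]
  split_ifs with hij
  · rw [← hij, pow_add]; ring
  · rw [mul_zero, mul_zero, mul_zero]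

/-! ### `c` -/

theorem sub_surj (hn : N ^ k = 0) (v : V) : ∃ x, v = x - N x := ⟨_, geom_inv hn v⟩

theorem Pre.tens_c (h : Pre B N k M) {c : V ≃ₗ[F] V} (hc : Cay B c N) (a : M ≃ₗ[F] M) : h.tens a * c = c * h.tens a := by
  ext v
  obtain ⟨x, rfl⟩ := sub_surj h.nil v
  rw [LinearEquiv.mul_apply, LinearEquiv.mul_apply, hc.cc, map_add, map_sub, h.tens_N, hc.cc]

theorem Pre.hh_c (h : Pre B N k M) {c : V ≃ₗ[F] V} (hc : Cay B c N) : h.hh * c * h.hh⁻¹ = c⁻¹ := by
  have h1 : c * (h.hh * c) = h.hh := by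
    ext v
    obtain ⟨x, rfl⟩ := sub_surj h.nil v
    rw [LinearEquiv.mul_apply, LinearEquiv.mul_apply, hc.cc, map_add, map_sub, h.hh_N]
    have h2 := hc.cc (h.hh x)
    rw [← sub_eq_add_neg, h2, sub_neg_eq_add]
  calc h.hh * c * h.hh⁻¹ = c⁻¹ * (c * (h.hh * c)) * h.hh⁻¹ := by group
    _ = c⁻¹ := by rw [h1]; group

/-! ### the elements of `P` -/

/-- the restriction to an invariant subspace -/
noncomputable def res (M : Submodule F V) (g : V ≃ₗ[F] V) (h1 : ∀ x ∈ M, g x ∈ M) (h2 : ∀ x ∈ M, g⁻¹ x ∈ M) :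
    M ≃ₗ[F] M where
  toFun x := ⟨g x, h1 x x.2⟩
  invFun x := ⟨g⁻¹ x, h2 x x.2⟩
  map_add' x y := Subtype.ext (map_add g (x : V) (y : V))
  map_smul' c x := Subtype.ext (map_smul g c (x : V))
  left_inv x := Subtype.ext (g.symm_apply_apply (x : V))
  right_inv x := Subtype.ext (g.apply_symm_apply (x : V))

theorem res_apply {g : V ≃ₗ[F] V} (h1 : ∀ x ∈ M, g x ∈ M) (h2 : ∀ x ∈ M, g⁻¹ x ∈ M) (x : M) :
    (res M g h1 h2 x : V) = g x := rfl

theorem Pre.eq_tens (h : Pre B N k M) {g : V ≃ₗ[F] V} (h1 : ∀ x ∈ M, g x ∈ M) (h2 : ∀ x ∈ M, g⁻¹ x ∈ M)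
    (hN : ∀ x, g (N x) = N (g x)) : g = h.tens (res M g h1 h2) := by
  apply h.ext_equiv
  intro i x
  rw [h.tens_apply, res_apply]
  have := g_pow (N := N) (g := (g : V →ₗ[F] V)) (s := 1) (fun x => by rw [one_smul]; exact hN x) i (x : V)
  rw [one_pow, one_smul] at this
  exact this

theorem Pre.eq_hh_tens (h : Pre B N k M) {g : V ≃ₗ[F] V} (h1 : ∀ x ∈ M, g x ∈ M) (h2 : ∀ x ∈ M, g⁻¹ x ∈ M)
    (hN : ∀ x, g (N x) = - N (g x)) : g = h.hh * h.tens (res M g h1 h2) := by
  apply h.ext_equiv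
  intro i x
  rw [LinearEquiv.mul_apply, h.tens_apply, h.hh_apply, res_apply]
  exact g_pow (g := (g : V →ₗ[F] V)) (s := -1) (fun x => by rw [neg_smul, one_smul]; exact hN x) i (x : V)

/-- **the elements of `P`** -/
theorem Str.mem_cases (h : Str B N k M) {P : Subgroup (V ≃ₗ[F] V)} (hM : ∀ g ∈ P, ∀ x ∈ M, g x ∈ M)
    (hPI : P ≤ Isom B) {g : V ≃ₗ[F] V} (hg : g ∈ P)
    (hN : (∀ x, g (N x) = N (g x)) ∨ ∀ x, g (N x) = - N (g x)) :
    (∃ a ∈ Isom (bet B N k M), g = h.tens a) ∨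
      ∃ b : M ≃ₗ[F] M, (∀ x y, bet B N k M (b x) (b y) = (-1) ^ (k - 1) * bet B N k M x y) ∧ g = h.hh * h.tens b := by
  have hgi := hPI hg
  rw [mem_isom] at hgi
  rcases hN with hN | hN
  · left
    refine ⟨res M g (hM g hg) (hM _ (P.inv_mem hg)), ?_, h.eq_tens _ _ hN⟩
    rw [← h.tens_mem, ← h.eq_tens _ _ hN]
    exact hPI hg
  · right
    refine ⟨res M g (hM g hg) (hM _ (P.inv_mem hg)), ?_, h.eq_hh_tens _ _ hN⟩
    intro x y
    rw [bet_apply, bet_apply, res_apply, res_apply]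
    have h3 : g ((N ^ (k - 1)) (y : V)) = (-1 : F) ^ (k - 1) • (N ^ (k - 1)) (g (y : V)) :=
      g_pow (g := (g : V →ₗ[F] V)) (s := -1) (fun x => by rw [neg_smul, one_smul]; exact hN x) (k - 1) (y : V)
    have h4 := hgi (x : V) ((N ^ (k - 1)) (y : V))
    rw [h3, map_smul, smul_eq_mul] at h4
    rw [← h4, ← mul_assoc, ← mul_pow]
    simp only [_root_.mul_neg, _root_.mul_one, _root_.neg_neg, _root_.one_pow, _root_.one_mul]

/-- the dimension -/
theorem Pre.finrank_eq [FiniteDimensional F V] (h : Pre B N k M) : finrank F V = k * finrank F M := by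
  rw [← h.phi.finrank_eq, Module.finrank_pi_fintype]
  simp only [_root_.Finset.sum_const, _root_.Finset.card_univ, _root_.Fintype.card_fin, _root_.smul_eq_mul]

end

end Cfsg.Agent.H396.Uni
end

private theorem dce_d703a71f877b : _root_.True := by
  try have : _root_.True := by simp only [_root_.Cfsg.Agent.H137.FR.CC.eq_1]
  try have : _root_.True := by simp only [_root_.Cfsg.Agent.H396.Uni.blk.eq_1]
  try have : _root_.True := by simp only [_root_.Cfsg.Agent.H396.Uni.Pre.tens.congr_simp]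
  try have : _root_.True := by simp only [_root_.Cfsg.Agent.H194.FR.tr.eq_1]
  try have : _root_.True := by simp only [_root_.Cfsg.Agent.H396.Uni.Pre.hh.congr_simp]
  try have : _root_.True := by simp only [_root_.Cfsg.Agent.H396.Uni.Pre.phi.congr_simp]
  try have : _root_.True := by simp only [_root_.Cfsg.Agent.H396.Uni.phiL.eq_1]
  try have : _root_.True := by simp only [_root_.Cfsg.Agent.H194.FR.mt.eq_1]
  try have : _root_.True := by simp only [_root_.Cfsg.Agent.H194.FR.mw.eq_1]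
  try have : _root_.True := by simp only [_root_.Cfsg.Agent.H194.FR.op.eq_1]
  exact _root_.True.intro
end

-- part: H76/FR/Red_mg
section
prune_inst 0x50004551400200001c0514a00040811100010000000000082500060108c02a6d02a801080024014802000020050008115c041002000000000000000024070900004000a3080088a60018000000010000000000000000000000000000000000204410000
set_option linter.all false
open scoped Cfsg.Agent.FastGrp

-- part: H76/FR/Glue
section
/-!
# TEAM SR, second part (S4970): orthogonal decompositions (helper76)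

* `isCompl_perp`, `perp_perp`, `nd_perp`, `Fm.res` : a nondegenerate subspace and its orthogonal space;
* `glue hc a b` : the automorphism of `V = U ⊕ U'` with the restrictions `a`, `b`;
* `glueEquiv` : the stabiliser of `U` in `Isom B` is `Isom (res B U) × Isom (res B U')`.
-/

set_option autoImplicit false

universe u

namespace Cfsg.Agent.H76.FR

open Cfsg Cfsg.Agent.H955.FS Cfsg.Agent.H721.SR Cfsg.Agent.H721.FR Module

variable {F V : Type u} [Field F] [AddCommGroup V] [Module F V]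

/-- the restriction of a bilinear form to a subspace -/
noncomputable def res (B : V →ₗ[F] V →ₗ[F] F) (U : Submodule F V) : U →ₗ[F] U →ₗ[F] F := B.domRestrict₁₂ U U

variable {B : V →ₗ[F] V →ₗ[F] F} {ε : F} {U : Submodule F V}

theorem symm_zero (hF : Fm B ε) {x y : V} (h : B x y = 0) : B y x = 0 := by
  rw [hF.symm, h, mul_zero]

theorem refl_of (hF : Fm B ε) : LinearMap.BilinForm.IsRefl B := fun _ _ h => symm_zero hF h

theorem perp_eq (B : V →ₗ[F] V →ₗ[F] F) (U : Submodule F V) : perp B U = LinearMap.BilinForm.orthogonal B U := rfl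

theorem disjoint_perp (hF : Fm B ε) (hU : NdOn B U) : Disjoint U (perp B U) := by
  rw [Submodule.disjoint_def]
  intro x hx hx'
  exact hU x hx fun y hy => symm_zero hF (hx' y hy)

theorem isCompl_perp [FiniteDimensional F V] (hF : Fm B ε) (hU : NdOn B U) : IsCompl U (perp B U) := by
  rw [perp_eq]
  exact LinearMap.BilinForm.isCompl_orthogonal_of_restrict_nondegenerate (refl_of hF)
    (LinearMap.BilinForm.nondegenerate_restrict_of_disjoint_orthogonal B (refl_of hF) (disjoint_perp hF hU))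

theorem exists_add [FiniteDimensional F V] (hF : Fm B ε) (hU : NdOn B U) (x : V) :
    ∃ (a : U) (b : perp B U), (a : V) + (b : V) = x := by
  have h := (isCompl_perp hF hU).sup_eq_top
  have hx : x ∈ U ⊔ perp B U := by rw [h]; trivial
  obtain ⟨a, ha, b, hb, rfl⟩ := Submodule.mem_sup.1 hx
  exact ⟨⟨a, ha⟩, ⟨b, hb⟩, rfl⟩

theorem nd_perp [FiniteDimensional F V] (hF : Fm B ε) (hU : NdOn B U) : NdOn B (perp B U) := by
  intro x hx h
  refine hF.nondeg x fun v => ?_
  obtain ⟨a, b, rfl⟩ := exists_add hF hU v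
  rw [map_add, h b b.2, add_zero]
  exact symm_zero hF (hx a a.2)

theorem perp_perp [FiniteDimensional F V] (hF : Fm B ε) (hU : NdOn B U) : perp B (perp B U) = U := by
  apply le_antisymm
  · intro x hx
    obtain ⟨a, b, rfl⟩ := exists_add hF hU x
    have hb : (b : V) = 0 := by
      refine nd_perp hF hU b b.2 fun y hy => ?_
      have h1 : B y ((a : V) + b) = 0 := hx y hy
      rw [map_add, symm_zero hF (hy a a.2), zero_add] at h1
      exact symm_zero hF h1
    rw [hb, add_zero]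
    exact a.2
  · intro x hx y hy
    exact symm_zero hF (hy x hx)

theorem Fm.res (hF : Fm B ε) (hU : NdOn B U) : Fm (res B U) ε where
  two := hF.two
  eps := hF.eps
  symm _ _ := hF.symm _ _
  nondeg x hx := Subtype.ext (hU x x.2 fun y hy => hx ⟨y, hy⟩)

/-- `g` maps `perp U` onto `perp (g U)` -/
theorem map_perp {g : V ≃ₗ[F] V} (hg : g ∈ Isom B) (U : Submodule F V) :
    (perp B U).map (g : V →ₗ[F] V) = perp B (U.map (g : V →ₗ[F] V)) := by
  ext x
  constructor
  · rintro ⟨y, hy, rfl⟩ z ⟨u, hu, rfl⟩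
    show B (g u) (g y) = 0
    rw [hg]
    exact hy u hu
  · intro hx
    refine ⟨g.symm x, fun u hu => ?_, LinearEquiv.apply_symm_apply g x⟩
    have h1 := hx (g u) ⟨u, hu, rfl⟩
    rw [← LinearEquiv.apply_symm_apply g x, hg] at h1
    exact h1

/-! ### gluing -/

section Glue

variable {U U' : Submodule F V} (hc : IsCompl U U')

/-- the automorphism with the given restrictions -/
noncomputable def glue (a : U ≃ₗ[F] U) (b : U' ≃ₗ[F] U') : V ≃ₗ[F] V :=
  (Submodule.prodEquivOfIsCompl U U' hc).symm ≪≫ₗ (a.prodCongr b) ≪≫ₗ Submodule.prodEquivOfIsCompl U U' hc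

theorem glue_apply (a : U ≃ₗ[F] U) (b : U' ≃ₗ[F] U') (x : U) (y : U') : glue hc a b ((x : V) + y) = a x + b y := by
  have h : (Submodule.prodEquivOfIsCompl U U' hc).symm ((x : V) + y) = (x, y) := by
    rw [LinearEquiv.symm_apply_eq, Submodule.coe_prodEquivOfIsCompl']
  rw [glue, LinearEquiv.trans_apply, LinearEquiv.trans_apply, h, LinearEquiv.prodCongr_apply,
    Submodule.coe_prodEquivOfIsCompl']

theorem glue_left (a : U ≃ₗ[F] U) (b : U' ≃ₗ[F] U') (x : U) : glue hc a b x = a x := by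
  have := glue_apply hc a b x 0
  simpa using this

theorem glue_right (a : U ≃ₗ[F] U) (b : U' ≃ₗ[F] U') (y : U') : glue hc a b y = b y := by
  have := glue_apply hc a b 0 y
  simpa using this

include hc in
theorem ext_of {f g : V ≃ₗ[F] V} (h1 : ∀ x : U, f x = g x) (h2 : ∀ x : U', f x = g x) : f = g := by
  apply LinearEquiv.ext
  intro v
  have hv : v ∈ U ⊔ U' := by rw [hc.sup_eq_top]; trivial
  obtain ⟨a, ha, b, hb, rfl⟩ := Submodule.mem_sup.1 hv
  rw [map_add, map_add, h1 ⟨a, ha⟩, h2 ⟨b, hb⟩]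

theorem glue_mul (a a' : U ≃ₗ[F] U) (b b' : U' ≃ₗ[F] U') :
    glue hc (a * a') (b * b') = glue hc a b * glue hc a' b' := by
  apply ext_of hc
  · intro x
    rw [glue_left]
    show ((a (a' x) : U) : V) = glue hc a b (glue hc a' b' x)
    rw [glue_left, glue_left]
  · intro x
    rw [glue_right]
    show ((b (b' x) : U') : V) = glue hc a b (glue hc a' b' x)
    rw [glue_right, glue_right]

theorem glue_one : glue hc (1 : U ≃ₗ[F] U) (1 : U' ≃ₗ[F] U') = 1 := by
  apply ext_of hc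
  · intro x
    rw [glue_left]; rfl
  · intro x
    rw [glue_right]; rfl

theorem glue_map_left (a : U ≃ₗ[F] U) (b : U' ≃ₗ[F] U') : U.map (glue hc a b : V →ₗ[F] V) = U := by
  ext v
  constructor
  · rintro ⟨x, hx, rfl⟩
    show glue hc a b x ∈ U
    rw [glue_left hc a b ⟨x, hx⟩]
    exact (a _).2
  · intro hv
    refine ⟨a.symm ⟨v, hv⟩, (a.symm _).2, ?_⟩
    show glue hc a b (a.symm ⟨v, hv⟩ : U) = v
    rw [glue_left, LinearEquiv.apply_symm_apply]

theorem glue_inj {a a' : U ≃ₗ[F] U} {b b' : U' ≃ₗ[F] U'} (h : glue hc a b = glue hc a' b') : a = a' ∧ b = b' := by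
  constructor
  · apply LinearEquiv.ext
    intro x
    apply Subtype.ext
    rw [← glue_left hc a b, ← glue_left hc a' b', h]
  · apply LinearEquiv.ext
    intro x
    apply Subtype.ext
    rw [← glue_right hc a b, ← glue_right hc a' b', h]

theorem exists_glue {g : V ≃ₗ[F] V} (h1 : U.map (g : V →ₗ[F] V) = U) (h2 : U'.map (g : V →ₗ[F] V) = U') :
    ∃ (a : U ≃ₗ[F] U) (b : U' ≃ₗ[F] U'), glue hc a b = g ∧ (∀ x : U, (a x : V) = g x) ∧ ∀ x : U', (b x : V) = g x := by
  refine ⟨g.ofSubmodules U U h1, g.ofSubmodules U' U' h2, ?_, fun x => rfl, fun x => rfl⟩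
  apply ext_of hc
  · intro x
    rw [glue_left]; rfl
  · intro x
    rw [glue_right]; rfl

theorem glue_zel (ε : F) : glue hc (zel U ε) (zel U' ε) = zel V ε := by
  apply ext_of hc
  · intro x
    rw [glue_left]
    unfold zel
    split_ifs <;> rfl
  · intro x
    rw [glue_right]
    unfold zel
    split_ifs <;> rfl

end Glue

/-! ### the stabiliser of a nondegenerate subspace -/

/-- the stabiliser of `U` in `Isom B` -/
def stab (B : V →ₗ[F] V →ₗ[F] F) (U : Submodule F V) : Subgroup (V ≃ₗ[F] V) where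
  carrier := {g | g ∈ Isom B ∧ U.map (g : V →ₗ[F] V) = U}
  mul_mem' := fun {a b} ha hb => ⟨mul_mem ha.1 hb.1, by
    have e : ((a * b : V ≃ₗ[F] V) : V →ₗ[F] V) = (a : V →ₗ[F] V) ∘ₗ (b : V →ₗ[F] V) := rfl
    rw [e, Submodule.map_comp, hb.2, ha.2]⟩
  one_mem' := ⟨one_mem _, by
    have e : ((1 : V ≃ₗ[F] V) : V →ₗ[F] V) = LinearMap.id := rfl
    rw [e, Submodule.map_id]⟩
  inv_mem' := fun {a} ha => ⟨inv_mem ha.1, by
    have e : ((a⁻¹ : V ≃ₗ[F] V) : V →ₗ[F] V) ∘ₗ (a : V →ₗ[F] V) = LinearMap.id := by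
      ext x
      exact LinearEquiv.symm_apply_apply a x
    conv_lhs => rw [← ha.2]
    rw [← Submodule.map_comp, e, Submodule.map_id]⟩

theorem mem_stab {g : V ≃ₗ[F] V} : g ∈ stab B U ↔ g ∈ Isom B ∧ U.map (g : V →ₗ[F] V) = U := Iff.rfl

variable [FiniteDimensional F V]

theorem glue_mem (hF : Fm B ε) (hU : NdOn B U) {a : U ≃ₗ[F] U} {b : perp B U ≃ₗ[F] perp B U} (ha : a ∈ Isom (res B U))
    (hb : b ∈ Isom (res B (perp B U))) : glue (isCompl_perp hF hU) a b ∈ Isom B := by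
  intro x y
  obtain ⟨x1, x2, rfl⟩ := exists_add hF hU x
  obtain ⟨y1, y2, rfl⟩ := exists_add hF hU y
  rw [glue_apply, glue_apply]
  simp only [map_add, LinearMap.add_apply]
  have e1 : B (a x1) (a y1) = B x1 y1 := ha x1 y1
  have e2 : B (b x2) (b y2) = B x2 y2 := hb x2 y2
  have e3 : B (a x1) (b y2) = 0 := (b y2).2 _ (a x1).2
  have e4 : B (b x2) (a y1) = 0 := symm_zero hF ((b x2).2 _ (a y1).2)
  have e5 : B x1 y2 = 0 := y2.2 _ x1.2
  have e6 : B x2 y1 = 0 := symm_zero hF (x2.2 _ y1.2)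
  rw [e1, e2, e3, e4, e5, e6]

/-- the homomorphism to the stabiliser of `U` -/
noncomputable def glueHom (hF : Fm B ε) (hU : NdOn B U) :
    ↥(Isom (res B U)) × ↥(Isom (res B (perp B U))) →* ↥(stab B U) where
  toFun := fun x => ⟨glue (isCompl_perp hF hU) x.1.1 x.2.1, glue_mem hF hU x.1.2 x.2.2, glue_map_left _ _ _⟩
  map_one' := Subtype.ext (glue_one _)
  map_mul' := fun _ _ => Subtype.ext (glue_mul _ _ _ _ _)

theorem glueHom_bijective (hF : Fm B ε) (hU : NdOn B U) : Function.Bijective (glueHom hF hU) := by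
  constructor
  · intro x y h
    have h1 := glue_inj (isCompl_perp hF hU) (congrArg Subtype.val h)
    exact Prod.ext (Subtype.ext h1.1) (Subtype.ext h1.2)
  · rintro ⟨g, hg, hgU⟩
    have h2 : (perp B U).map (g : V →ₗ[F] V) = perp B U := by rw [map_perp hg, hgU]
    obtain ⟨a, b, hab, ha, hb⟩ := exists_glue (isCompl_perp hF hU) hgU h2
    refine ⟨⟨⟨a, fun x y => ?_⟩, ⟨b, fun x y => ?_⟩⟩, Subtype.ext hab⟩
    · show B (a x) (a y) = B x y
      rw [ha, ha, hg]
    · show B (b x) (b y) = B x y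
      rw [hb, hb, hg]

/-- the stabiliser of `U` is the product of the isometry groups -/
noncomputable def glueEquiv (hF : Fm B ε) (hU : NdOn B U) :
    ↥(Isom (res B U)) × ↥(Isom (res B (perp B U))) ≃* ↥(stab B U) :=
  MulEquiv.ofBijective (glueHom hF hU) (glueHom_bijective hF hU)

theorem glueEquiv_coe (hF : Fm B ε) (hU : NdOn B U) (a : ↥(Isom (res B U))) (b : ↥(Isom (res B (perp B U)))) :
    ((glueEquiv hF hU (a, b) : ↥(stab B U)) : V ≃ₗ[F] V) = glue (isCompl_perp hF hU) a.1 b.1 := rfl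

end Cfsg.Agent.H76.FR
end

-- part: H76/FR/Red
section
/-!
# TEAM SR, second part (S4970), task FR-RED (helper76)

`cov_of_red` : if `closure {c} ⊔ P` preserves a proper nondegenerate subspace `U` or `{U, U^⊥}`, then the conclusion
`Cov B ε c P` follows from `Hyp m`, `m < dim V`.
-/

set_option autoImplicit false

universe u

namespace Cfsg.Agent.H76.FR

open Cfsg Cfsg.Agent.H955.FS Cfsg.Agent.H721.SR Cfsg.Agent.H721.FR Cfsg.Agent.H855.FR Module

variable {F V : Type u} [Field F] [AddCommGroup V] [Module F V]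

theorem zel_central (ε : F) (g : V ≃ₗ[F] V) : g * zel V ε = zel V ε * g := by
  unfold zel
  split_ifs
  · rw [mul_one, one_mul]
  · apply LinearEquiv.ext
    intro v
    show g (-v) = -(g v)
    rw [map_neg]

theorem zel_sq (ε : F) : zel V ε * zel V ε = 1 := by
  unfold zel
  split_ifs
  · rw [mul_one]
  · apply LinearEquiv.ext
    intro v
    show -(-v) = v
    rw [neg_neg]

/-- conjugation preserves `zel` -/
theorem zel_conj {W : Type u} [AddCommGroup W] [Module F W] (ε : F) (σ : V ≃ₗ[F] W) :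
    σ.symm ≪≫ₗ zel V ε ≪≫ₗ σ = zel W ε := by
  apply LinearEquiv.ext
  intro w
  rw [LinearEquiv.trans_apply, LinearEquiv.trans_apply]
  unfold zel
  split_ifs
  · show σ (σ.symm w) = w
    rw [LinearEquiv.apply_symm_apply]
  · show σ (-(σ.symm w)) = -w
    rw [map_neg, LinearEquiv.apply_symm_apply]

theorem finite_equiv [Finite F] [FiniteDimensional F V] : Finite (V ≃ₗ[F] V) := by
  have : Finite V := Module.finite_of_finite F
  exact Finite.of_injective (fun g : V ≃ₗ[F] V => (g : V → V)) DFunLike.coe_injective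

variable {B : V →ₗ[F] V →ₗ[F] F} {ε : F} {U : Submodule F V}

theorem ne_perp (hF : Fm B ε) (hU : NdOn B U) (h0 : U ≠ ⊥) : perp B U ≠ U := by
  intro h
  have h1 := disjoint_perp hF hU
  rw [h, disjoint_self] at h1
  exact h0 h1

theorem perp_ne_top (hF : Fm B ε) (hU : NdOn B U) (h0 : U ≠ ⊥) : perp B U ≠ ⊤ := by
  intro h
  have h1 := disjoint_perp hF hU
  rw [h, disjoint_top] at h1
  exact h0 h1

section

variable [Finite F] [FiniteDimensional F V]

/-- **the stabiliser of a nondegenerate subspace** -/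
theorem fszs_stab (hF : Fm B ε) (hU : NdOn B U) (h1 : FSZs (Isom (res B U)) (zel U ε))
    (h2 : FSZs (Isom (res B (perp B U))) (zel (perp B U) ε)) : FSZs (stab B U) (zel V ε) := by
  obtain ⟨m1, h1⟩ := h1
  obtain ⟨m2, h2⟩ := h2
  have f1 : Finite (U ≃ₗ[F] U) := finite_equiv
  have f2 : Finite (perp B U ≃ₗ[F] perp B U) := finite_equiv
  have h := FSZ.prod (fun g => (by exact Subtype.ext (zel_central ε g.1))) ((by exact Subtype.ext (zel_sq ε)))
    (fun g => (by exact Subtype.ext (zel_central ε g.1))) ((by exact Subtype.ext (zel_sq ε))) h1 h2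
  have h3 := FSZ.of_mulEquiv ((glueEquiv hF hU :)) h
  have e : ((glueEquiv hF hU (⟨zel U ε, m1⟩, ⟨zel (perp B U) ε, m2⟩) : ↥(stab B U)) : V ≃ₗ[F] V) = zel V ε := by
    rw [glueEquiv_coe, glue_zel]
  refine ⟨by rw [← e]; exact Subtype.coe_prop _, ?_⟩
  have e' : glueEquiv hF hU (⟨zel U ε, m1⟩, ⟨zel (perp B U) ε, m2⟩) =
      ⟨zel V ε, by rw [← e]; exact Subtype.coe_prop _⟩ := Subtype.ext e
  rwa [e'] at h3

end

/-! ### exchanging `U` and `U^⊥` -/

section Swap

variable {U U' : Submodule F V} (hc : IsCompl U U') (σ : U ≃ₗ[F] U')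

/-- the involution exchanging `U` and `U'` -/
noncomputable def swap : V ≃ₗ[F] V :=
  (Submodule.prodEquivOfIsCompl U U' hc).symm ≪≫ₗ (σ.prodCongr σ.symm) ≪≫ₗ
    Submodule.prodEquivOfIsCompl U' U hc.symm

theorem swap_apply (x : U) (y : U') : swap hc σ ((x : V) + y) = σ x + σ.symm y := by
  have h : (Submodule.prodEquivOfIsCompl U U' hc).symm ((x : V) + y) = (x, y) := by
    rw [LinearEquiv.symm_apply_eq, Submodule.coe_prodEquivOfIsCompl']
  rw [swap, LinearEquiv.trans_apply, LinearEquiv.trans_apply, h, LinearEquiv.prodCongr_apply,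
    Submodule.coe_prodEquivOfIsCompl']

theorem swap_left (x : U) : swap hc σ x = σ x := by
  have := swap_apply hc σ x 0
  simpa using this

theorem swap_right (y : U') : swap hc σ y = σ.symm y := by
  have := swap_apply hc σ 0 y
  simpa using this

theorem swap_sq : swap hc σ * swap hc σ = 1 := by
  apply ext_of hc
  · intro x
    show swap hc σ (swap hc σ x) = x
    rw [swap_left, swap_right, LinearEquiv.symm_apply_apply]
  · intro x
    show swap hc σ (swap hc σ x) = x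
    rw [swap_right, swap_left, LinearEquiv.apply_symm_apply]

theorem swap_map : U.map (swap hc σ : V →ₗ[F] V) = U' := by
  ext v
  constructor
  · rintro ⟨x, hx, rfl⟩
    show swap hc σ x ∈ U'
    rw [swap_left hc σ ⟨x, hx⟩]
    exact (σ _).2
  · intro hv
    refine ⟨σ.symm ⟨v, hv⟩, (σ.symm _).2, ?_⟩
    show swap hc σ (σ.symm ⟨v, hv⟩ : U) = v
    rw [swap_left, LinearEquiv.apply_symm_apply]

/-- conjugation by the exchange -/
theorem swap_glue (a b : U ≃ₗ[F] U) :
    swap hc σ * glue hc a (σ.symm ≪≫ₗ b ≪≫ₗ σ) = glue hc b (σ.symm ≪≫ₗ a ≪≫ₗ σ) * swap hc σ := by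
  apply ext_of hc
  · intro x
    show swap hc σ (glue hc a (σ.symm ≪≫ₗ b ≪≫ₗ σ) x) = glue hc b (σ.symm ≪≫ₗ a ≪≫ₗ σ) (swap hc σ x)
    rw [glue_left, swap_left, swap_left, glue_right, LinearEquiv.trans_apply, LinearEquiv.trans_apply,
      LinearEquiv.symm_apply_apply]
  · intro x
    show swap hc σ (glue hc a (σ.symm ≪≫ₗ b ≪≫ₗ σ) x) = glue hc b (σ.symm ≪≫ₗ a ≪≫ₗ σ) (swap hc σ x)
    rw [glue_right, swap_right, swap_right, glue_left, LinearEquiv.trans_apply, LinearEquiv.trans_apply,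
      LinearEquiv.symm_apply_apply]

end Swap

section

variable [FiniteDimensional F V]

theorem swap_mem (hF : Fm B ε) (hU : NdOn B U) {σ : U ≃ₗ[F] perp B U} (hσ : ∀ x y : U, B (σ x) (σ y) = B x y) :
    swap (isCompl_perp hF hU) σ ∈ Isom B := by
  intro x y
  obtain ⟨x1, x2, rfl⟩ := exists_add hF hU x
  obtain ⟨y1, y2, rfl⟩ := exists_add hF hU y
  rw [swap_apply, swap_apply]
  simp only [map_add, LinearMap.add_apply]
  have e1 := hσ x1 y1
  have e2 : B (σ.symm x2) (σ.symm y2) = B x2 y2 := by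
    rw [← hσ, LinearEquiv.apply_symm_apply, LinearEquiv.apply_symm_apply]
  have e3 : B (σ.symm x2) (σ y1) = 0 := (σ y1).2 _ (σ.symm x2).2
  have e4 : B (σ x1) (σ.symm y2) = 0 := symm_zero hF ((σ x1).2 _ (σ.symm y2).2)
  have e5 : B x1 y2 = 0 := y2.2 _ x1.2
  have e6 : B x2 y1 = 0 := symm_zero hF (x2.2 _ y1.2)
  rw [e1, e2, e3, e4, e5, e6]

/-- the stabiliser of `{U, U^⊥}` -/
def stab2 (hF : Fm B ε) (hU : NdOn B U) : Subgroup (V ≃ₗ[F] V) where
  carrier := {g | g ∈ Isom B ∧ (U.map (g : V →ₗ[F] V) = U ∨ U.map (g : V →ₗ[F] V) = perp B U)}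
  mul_mem' := fun {a b} ha hb => ⟨mul_mem ha.1 hb.1, by
    have e : ((a * b : V ≃ₗ[F] V) : V →ₗ[F] V) = (a : V →ₗ[F] V) ∘ₗ (b : V →ₗ[F] V) := rfl
    rw [e, Submodule.map_comp]
    rcases hb.2 with h | h <;> rw [h]
    · exact ha.2
    · rw [map_perp ha.1]
      rcases ha.2 with h' | h' <;> rw [h']
      · exact Or.inr rfl
      · exact Or.inl (perp_perp hF hU)⟩
  one_mem' := ⟨one_mem _, by
    have e : ((1 : V ≃ₗ[F] V) : V →ₗ[F] V) = LinearMap.id := rfl
    rw [e, Submodule.map_id]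
    exact Or.inl rfl⟩
  inv_mem' := fun {a} ha => ⟨inv_mem ha.1, by
    have e : ((a⁻¹ : V ≃ₗ[F] V) : V →ₗ[F] V) ∘ₗ (a : V →ₗ[F] V) = LinearMap.id := by
      ext x
      exact LinearEquiv.symm_apply_apply a x
    rcases ha.2 with h | h
    · left
      conv_lhs => rw [← h]
      rw [← Submodule.map_comp, e, Submodule.map_id]
    · right
      have h1 : (perp B U).map (a : V →ₗ[F] V) = U := by rw [map_perp ha.1, h, perp_perp hF hU]
      conv_lhs => rw [← h1]
      rw [← Submodule.map_comp, e, Submodule.map_id]⟩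

theorem stab_le (hF : Fm B ε) (hU : NdOn B U) : stab B U ≤ stab2 hF hU := fun _ hg => ⟨hg.1, Or.inl hg.2⟩

/-- the isometry groups of isometric spaces -/
noncomputable def conjIsom {W W' : Type u} [AddCommGroup W] [Module F W] [AddCommGroup W'] [Module F W']
    {C : W →ₗ[F] W →ₗ[F] F} {C' : W' →ₗ[F] W' →ₗ[F] F} (σ : W ≃ₗ[F] W') (hσ : ∀ x y, C' (σ x) (σ y) = C x y) :
    ↥(Isom C) ≃* ↥(Isom C') where
  toFun := fun g => ⟨σ.symm ≪≫ₗ g.1 ≪≫ₗ σ, fun x y => by
    rw [LinearEquiv.trans_apply, LinearEquiv.trans_apply, LinearEquiv.trans_apply, LinearEquiv.trans_apply, hσ, g.2,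
      ← hσ, LinearEquiv.apply_symm_apply, LinearEquiv.apply_symm_apply]⟩
  invFun := fun g => ⟨σ ≪≫ₗ g.1 ≪≫ₗ σ.symm, fun x y => by
    rw [LinearEquiv.trans_apply, LinearEquiv.trans_apply, LinearEquiv.trans_apply, LinearEquiv.trans_apply, ← hσ,
      LinearEquiv.apply_symm_apply, LinearEquiv.apply_symm_apply, g.2, hσ]⟩
  left_inv := fun g => Subtype.ext (by
    apply LinearEquiv.ext
    intro x
    simp only [LinearEquiv.trans_apply, LinearEquiv.symm_apply_apply])
  right_inv := fun g => Subtype.ext (by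
    apply LinearEquiv.ext
    intro x
    simp only [LinearEquiv.trans_apply, LinearEquiv.apply_symm_apply])
  map_mul' := fun g h => Subtype.ext (by
    apply LinearEquiv.ext
    intro x
    show σ (g.1 (h.1 (σ.symm x))) = σ (g.1 (σ.symm (σ (h.1 (σ.symm x)))))
    rw [LinearEquiv.symm_apply_apply])

variable [Finite F]

/-- **the stabiliser of `{U, U^⊥}`** -/
theorem fszs_stab2 (hF : Fm B ε) (hU : NdOn B U) (h0 : U ≠ ⊥) {t : V ≃ₗ[F] V} (ht : t ∈ Isom B)
    (htU : U.map (t : V →ₗ[F] V) = perp B U) (h1 : FSZs (Isom (res B U)) (zel U ε)) :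
    FSZs (stab2 hF hU) (zel V ε) := by
  obtain ⟨m1, h1⟩ := h1
  have f0 : Finite (V ≃ₗ[F] V) := finite_equiv
  have hc := isCompl_perp hF hU
  let σ : U ≃ₗ[F] perp B U := t.ofSubmodules U (perp B U) htU
  have hσ : ∀ x y : U, B (σ x) (σ y) = B x y := fun x y => ht x y
  have hτ := swap_mem hF hU hσ
  have hτU := swap_map hc σ
  let N : Subgroup ↥(stab2 hF hU) := (stab B U).subgroupOf (stab2 hF hU)
  let τ : ↥(stab2 hF hU) := ⟨swap hc σ, hτ, Or.inr hτU⟩
  have hmem : ∀ g : ↥(stab2 hF hU), g ∈ N ↔ U.map (g.1 : V →ₗ[F] V) = U := fun g => by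
    rw [Subgroup.mem_subgroupOf, mem_stab]
    exact ⟨fun h => h.2, fun h => ⟨g.2.1, h⟩⟩
  have hτN : τ ∉ N := by
    rw [hmem]
    show ¬ U.map (swap hc σ : V →ₗ[F] V) = U
    rw [hτU]
    exact ne_perp hF hU h0
  have hN : N.index = 2 := by
    rw [Subgroup.index_eq_two_iff]
    refine ⟨τ, fun b => ?_⟩
    rw [hmem, hmem]
    have e : (((b * τ : ↥(stab2 hF hU)) : V ≃ₗ[F] V) : V →ₗ[F] V) =
      ((b : V ≃ₗ[F] V) : V →ₗ[F] V) ∘ₗ (swap hc σ : V →ₗ[F] V) := rfl
    rw [e, Submodule.map_comp, hτU, map_perp b.2.1]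
    rcases b.2.2 with h | h
    · right
      rw [h]
      exact ⟨rfl, ne_perp hF hU h0⟩
    · left
      rw [h]
      exact ⟨perp_perp hF hU, ne_perp hF hU h0⟩
  let e : ↥(Isom (res B U)) × ↥(Isom (res B U)) ≃* ↥N :=
    ((MulEquiv.prodCongr (MulEquiv.refl _) (conjIsom (C := res B U) (C' := res B (perp B U)) σ hσ)).trans
      (glueEquiv hF hU)).trans (Subgroup.subgroupOfEquivOfLe (stab_le hF hU)).symm
  have he : ∀ a b : ↥(Isom (res B U)), (((e (a, b) : ↥N) : ↥(stab2 hF hU)) : V ≃ₗ[F] V) =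
      glue hc a.1 (σ.symm ≪≫ₗ b.1 ≪≫ₗ σ) := fun a b => rfl
  have h2 := FSZ.wreath (Γ := ↥(stab2 hF hU)) (z := (⟨zel U ε, m1⟩ : ↥(Isom (res B U))))
    (fun g => Subtype.ext (zel_central ε g.1)) (Subtype.ext (zel_sq ε)) hN e (τ := τ) hτN
    (Subtype.ext (swap_sq hc σ)) (fun a b => by
      rw [mul_inv_eq_iff_eq_mul]
      exact Subtype.ext (swap_glue hc σ a.1 b.1)) h1
  have e1 : (((e (⟨zel U ε, m1⟩, ⟨zel U ε, m1⟩) : ↥N) : ↥(stab2 hF hU)) : V ≃ₗ[F] V) = zel V ε := by
    rw [he]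
    show glue hc (zel U ε) (σ.symm ≪≫ₗ zel U ε ≪≫ₗ σ) = _
    rw [zel_conj, glue_zel]
  have e2 : zel V ε ∈ stab2 hF hU := by
    rw [← e1]
    exact Subtype.coe_prop _
  refine ⟨e2, ?_⟩
  have e3 : ((e (⟨zel U ε, m1⟩, ⟨zel U ε, m1⟩) : ↥N) : ↥(stab2 hF hU)) = ⟨zel V ε, e2⟩ := Subtype.ext e1
  rwa [e3] at h2

/-- **FR-RED** -/
theorem cov_of_red (hF : Fm B ε) (hI : ∀ m < finrank F V, Hyp.{u} m) {c : V ≃ₗ[F] V} {P : Subgroup (V ≃ₗ[F] V)}
    (hc : c ∈ Isom B) (hP : P ≤ Isom B) (hK : Red B (Subgroup.closure {c} ⊔ P)) : Cov B ε c P := by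
  obtain ⟨U, h0, h1, hU, hK⟩ := hK
  have hcK : c ∈ Subgroup.closure {c} ⊔ P := Subgroup.mem_sup_left (Subgroup.subset_closure rfl)
  have hPK : P ≤ Subgroup.closure {c} ⊔ P := le_sup_right
  have i1 : FSZs (Isom (res B U)) (zel U ε) :=
    hI _ (Submodule.finrank_lt h1) F U (res B U) ε (Fm.res hF hU) rfl
  have i2 : FSZs (Isom (res B (perp B U))) (zel (perp B U) ε) :=
    hI _ (Submodule.finrank_lt (perp_ne_top hF hU h0)) F (perp B U) (res B (perp B U)) ε
      (Fm.res hF (nd_perp hF hU)) rfl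
  by_cases hA : ∀ g ∈ Subgroup.closure {c} ⊔ P, U.map (g : V →ₗ[F] V) = U
  · exact ⟨stab B U, fun g hg => hg.1, ⟨hc, hA c hcK⟩, fun g hg => ⟨hP hg, hA g (hPK hg)⟩, fszs_stab hF hU i1 i2⟩
  · push Not at hA
    obtain ⟨t, ht, htU⟩ := hA
    have hle : Subgroup.closure {c} ⊔ P ≤ Isom B := sup_le ((Subgroup.closure_le _).2 (by simpa using hc)) hP
    exact ⟨stab2 hF hU, fun g hg => hg.1, ⟨hc, hK c hcK⟩, fun g hg => ⟨hP hg, hK g (hPK hg)⟩,
      fszs_stab2 hF hU h0 (hle ht) ((hK t ht).resolve_left htU) i1⟩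

end

end Cfsg.Agent.H76.FR
end

-- part: H138/FR/MixB
section
/-!
# S4970, FR-MIX: the case `k` even, `q = 3 mod 4`, main theorem
-/

set_option autoImplicit false

universe u

namespace Cfsg.Agent.H138.FR

open Cfsg Cfsg.Agent.H721.FR Cfsg.Agent.H47.Uni Module
open Cfsg.Agent.H955.FS (FSGood)

theorem ne_inv_of_odd {Γ : Type u} [Group Γ] {u : Γ} (hu1 : u ≠ 1) (huo : Odd (orderOf u)) : u ≠ u⁻¹ := by
  intro h2
  have h3 : u ^ 2 = 1 := by
    rw [pow_two]
    nth_rewrite 1 [h2]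
    exact inv_mul_cancel u
  have h4 : orderOf u ∣ 2 := orderOf_dvd_of_pow_eq_one h3
  rcases (Nat.dvd_prime Nat.prime_two).1 h4 with h5 | h5
  · exact hu1 (orderOf_eq_one_iff.1 h5)
  · rw [h5] at huo
    exact absurd huo (by decide)

section Form

variable {F W : Type u} [Field F] [AddCommGroup W] [Module F W] {β : W →ₗ[F] W →ₗ[F] F} {s : W ≃ₗ[F] W} {τ : F}

/-- `s - s⁻¹` -/
def dl (s : W ≃ₗ[F] W) : W →ₗ[F] W := (s : W →ₗ[F] W) - ((s⁻¹ : W ≃ₗ[F] W) : W →ₗ[F] W)

theorem dl_apply (s : W ≃ₗ[F] W) (x : W) : dl s x = s x - s⁻¹ x := rfl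

/-- the form `β(x, (s - s⁻¹) y)` -/
def bt (β : W →ₗ[F] W →ₗ[F] F) (s : W ≃ₗ[F] W) : W →ₗ[F] W →ₗ[F] F := β.compl₁₂ LinearMap.id (dl s)

theorem bt_apply (x y : W) : bt β s x y = β x (dl s y) := rfl

theorem s_inv (s : W ≃ₗ[F] W) (x : W) : s (s⁻¹ x) = x := s.apply_symm_apply x

theorem inv_s (s : W ≃ₗ[F] W) (x : W) : s⁻¹ (s x) = x := s.symm_apply_apply x

theorem dl_dl (hτ : ∀ x, s x + s⁻¹ x = τ • x) (x : W) : dl s (dl s x) = (τ ^ 2 - 4) • x := by
  have e1 : τ • (τ • x) = s (s x) + s⁻¹ (s⁻¹ x) + (2 : F) • x := by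
    rw [← hτ x, smul_add, ← hτ (s x), ← hτ (s⁻¹ x), s_inv, inv_s, two_smul]
    abel
  have e2 : (τ ^ 2 - 4) • x = τ • (τ • x) - (4 : F) • x := by module
  rw [e2, e1, dl_apply, dl_apply, map_sub, map_sub, s_inv, inv_s]
  module

theorem sq_ne (h1 : τ ≠ 2) (h2 : τ ≠ -2) : τ ^ 2 - 4 ≠ 0 := by
  intro h0
  have : (τ - 2) * (τ + 2) = 0 := by linear_combination h0
  rcases mul_eq_zero.1 this with h3 | h3
  · exact h1 (sub_eq_zero.1 h3)
  · exact h2 (eq_neg_of_add_eq_zero_left h3)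

theorem dl_skew (hs : s ∈ Isom β) (x y : W) : β (dl s x) y = - β x (dl s y) := by
  have e1 : β (s x) y = β x (s⁻¹ y) := by
    have := hs x (s⁻¹ y)
    rwa [s_inv] at this
  have e2 : β (s⁻¹ x) y = β x (s y) := by
    have := hs (s⁻¹ x) y
    rw [s_inv] at this
    exact this.symm
  rw [dl_apply, dl_apply, map_sub, map_sub, LinearMap.sub_apply, e1, e2, neg_sub]

theorem fm_bt (h2 : (2 : F) ≠ 0) (hβ : ∀ x y, β x y = - β y x) (hnd : ∀ x, (∀ y, β x y = 0) → x = 0)
    (hs : s ∈ Isom β) (hτ : ∀ x, s x + s⁻¹ x = τ • x) (h1 : τ ≠ 2) (h1' : τ ≠ -2) : Fm (bt β s) 1 where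
  two := h2
  eps := Or.inl rfl
  symm := fun x y => by rw [bt_apply, bt_apply, one_mul, hβ y, dl_skew hs, neg_neg]
  nondeg := fun x hx => by
    have h3 : dl s x = 0 := hnd _ fun y => by rw [dl_skew hs, ← bt_apply, hx, neg_zero]
    have h4 := dl_dl hτ x
    rw [h3, map_zero] at h4
    exact (smul_eq_zero.1 h4.symm).resolve_left (sq_ne h1 h1')

theorem dl_comm {a : W ≃ₗ[F] W} (ha : a * s * a⁻¹ = s) (x : W) : a (dl s x) = dl s (a x) := by
  have h1 : a * s = s * a := mul_inv_eq_iff_eq_mul.1 ha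
  have h3 : ∀ x, a (s x) = s (a x) := fun x => congrArg (fun f : W ≃ₗ[F] W => f x) h1
  have h4 : a (s⁻¹ x) = s⁻¹ (a x) := by
    apply s.injective
    rw [← h3, s_inv, s_inv]
  rw [dl_apply, dl_apply, map_sub, h3, h4]

theorem dl_anti {a : W ≃ₗ[F] W} (ha : a * s * a⁻¹ = s⁻¹) (x : W) : a (dl s x) = - dl s (a x) := by
  have h1 : a * s = s⁻¹ * a := mul_inv_eq_iff_eq_mul.1 ha
  have h3 : ∀ x, a (s x) = s⁻¹ (a x) := fun x => congrArg (fun f : W ≃ₗ[F] W => f x) h1
  have h4 : a (s⁻¹ x) = s (a x) := by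
    apply s⁻¹.injective
    rw [← h3, s_inv, inv_s]
  rw [dl_apply, dl_apply, map_sub, h3, h4, neg_sub]

theorem bt_isom {a : W ≃ₗ[F] W} (ha : a ∈ Isom β) (has : a * s * a⁻¹ = s) : a ∈ Isom (bt β s) := by
  intro x y
  rw [bt_apply, bt_apply, ← dl_comm has, ha]

theorem bt_anti {a : W ≃ₗ[F] W} (ha : ∀ x y, β (a x) (a y) = - β x y) (has : a * s * a⁻¹ = s⁻¹) :
    a ∈ Isom (bt β s) := by
  intro x y
  have h1 : dl s (a y) = - a (dl s y) := by rw [dl_anti has, neg_neg]
  rw [bt_apply, bt_apply, h1, map_neg, ha, neg_neg]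

/-- conversely -/
theorem of_bt_isom (hτ : ∀ x, s x + s⁻¹ x = τ • x) (h1 : τ ≠ 2) (h1' : τ ≠ -2) {a : W ≃ₗ[F] W}
    (ha : a ∈ Isom (bt β s)) (has : a * s * a⁻¹ = s) : a ∈ Isom β := by
  intro x y
  have h3 := ha x (dl s y)
  rw [bt_apply, bt_apply, dl_dl hτ, ← dl_comm has, dl_dl hτ, map_smul, map_smul, map_smul, smul_eq_mul,
    smul_eq_mul] at h3
  exact mul_left_cancel₀ (sq_ne h1 h1') h3

theorem of_bt_anti (hτ : ∀ x, s x + s⁻¹ x = τ • x) (h1 : τ ≠ 2) (h1' : τ ≠ -2) {a : W ≃ₗ[F] W}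
    (ha : a ∈ Isom (bt β s)) (has : a * s * a⁻¹ = s⁻¹) (x y : W) : β (a x) (a y) = - β x y := by
  have h3 := ha x (dl s y)
  have h4 : dl s (a (dl s y)) = - a (dl s (dl s y)) := by rw [dl_anti has (dl s y), neg_neg]
  rw [bt_apply, bt_apply, h4, dl_dl hτ, map_neg, map_smul, map_smul, map_smul, smul_eq_mul,
    smul_eq_mul] at h3
  apply mul_left_cancel₀ (sq_ne h1 h1')
  linear_combination -h3

/-- an alternating nondegenerate form on a nonzero space: the dimension is at least two -/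
theorem two_le [FiniteDimensional F W] (h2 : (2 : F) ≠ 0) (hβ : ∀ x y, β x y = - β y x)
    (hnd : ∀ x, (∀ y, β x y = 0) → x = 0) (hne : ∃ x : W, x ≠ 0) : 2 ≤ finrank F W := by
  by_contra hcon
  obtain ⟨x, hx⟩ := hne
  have h3 : finrank F W ≤ 1 := by omega
  have halt : ∀ x, β x x = 0 := fun x => by
    have h4 := hβ x x
    exact (mul_eq_zero.1 (show (2 : F) * β x x = 0 by linear_combination h4)).resolve_left h2
  apply hx
  refine hnd x fun y => ?_
  obtain ⟨v, hv⟩ := finrank_le_one_iff.1 h3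
  obtain ⟨a, rfl⟩ := hv x
  obtain ⟨b, rfl⟩ := hv y
  rw [map_smul, map_smul, LinearMap.smul_apply, halt, smul_zero, smul_zero]

end Form

variable {F V : Type u} [Field F] [AddCommGroup V] [Module F V]
  {u : V ≃ₗ[F] V} {k : ℕ} {M : Submodule F V} {B : V →ₗ[F] V →ₗ[F] F} {β : M →ₗ[F] M →ₗ[F] F}
  {tens : (M ≃ₗ[F] M) →* (V ≃ₗ[F] V)} {hh : V ≃ₗ[F] V}

/-- an involution commuting up to sign with an element of odd order commutes with it -/
theorem comm_of_odd (h2 : (2 : F) ≠ 0) {t s : V ≃ₗ[F] V} (hso : Odd (orderOf s)) (hV : ∃ x : V, x ≠ 0)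
    (h : s * t * s⁻¹ = t ∨ s * t * s⁻¹ = t * LinearEquiv.neg F) : s * t * s⁻¹ = t := by
  rcases h with h | h
  · exact h
  exfalso
  have hn : ∀ g : V ≃ₗ[F] V, g * (LinearEquiv.neg F : V ≃ₗ[F] V) = (LinearEquiv.neg F : V ≃ₗ[F] V) * g :=
    Cfsg.Agent.H957.FR.neg_comm
  have key : ∀ n : ℕ, s ^ n * t * (s ^ n)⁻¹ = t * (LinearEquiv.neg F : V ≃ₗ[F] V) ^ n := by
    intro n
    induction n with
    | zero => simp
    | succ n ih =>
      have h3 : s ^ (n + 1) * t * (s ^ (n + 1))⁻¹ = s * (s ^ n * t * (s ^ n)⁻¹) * s⁻¹ := by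
        rw [pow_succ']; group
      have h4 : s * (t * (LinearEquiv.neg F : V ≃ₗ[F] V) ^ n) * s⁻¹ =
          (s * t * s⁻¹) * (s * (LinearEquiv.neg F : V ≃ₗ[F] V) ^ n * s⁻¹) := by group
      have h5 : s * (LinearEquiv.neg F : V ≃ₗ[F] V) ^ n * s⁻¹ = (LinearEquiv.neg F : V ≃ₗ[F] V) ^ n := by
        rw [mul_inv_eq_iff_eq_mul]
        exact ((show Commute s (LinearEquiv.neg F : V ≃ₗ[F] V) from hn s).pow_right n).eq
      rw [h3, ih, h4, h, h5, mul_assoc, ← pow_succ']
  have h3 := key (orderOf s)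
  rw [pow_orderOf_eq_one, one_mul, inv_one, mul_one] at h3
  obtain ⟨j, hj⟩ := hso
  have h4 : (LinearEquiv.neg F : V ≃ₗ[F] V) ^ orderOf s = LinearEquiv.neg F := by
    rw [hj, pow_succ, pow_mul, pow_two, Cfsg.Agent.H957.FR.neg_neg', one_pow, one_mul]
  rw [h4] at h3
  obtain ⟨x, hx⟩ := hV
  have h5 := congrArg (fun f : V ≃ₗ[F] V => f x) h3
  have h6 : t x = t (-x) := h5
  have h7 : x = -x := t.injective h6
  apply hx
  have h8 : (2 : F) • x = 0 := by
    rw [two_smul]
    nth_rewrite 1 [h7]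
    exact neg_add_cancel x
  exact (smul_eq_zero.1 h8).resolve_left h2

/-- **the mixed case, `k` even, `q = 3 mod 4`** -/
theorem mix4 [Finite F] [FiniteDimensional F V] (hN : NFour F M) (hS : Sem2 F M) (hF : Fm B 1) (hk : Even k)
    (hk0 : k ≠ 0) (h : Dt B 1 u k M β tens hh)
    (htm : ∀ (a : M ≃ₗ[F] M) (x : M), tens a (x : V) = (a x : M)) (huB : u ∈ Isom B) (hu1 : u ≠ 1)
    (huo : Odd (orderOf u)) {s : M ≃ₗ[F] M} (hs : s ∈ Isom β) (hso : Odd (orderOf s)) {τ : F}
    (hτ : ∀ x, s x + s⁻¹ x = τ • x) (h1 : τ ≠ 2) (h1' : τ ≠ -2) {P : Subgroup (V ≃ₗ[F] V)} (hPB : P ≤ Isom B)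
    (hP2 : IsPGroup 2 P) (hIn : ∀ g ∈ P, InP k M β tens hh g)
    (hact : ∀ g ∈ P, (g * u * g⁻¹ = u ∧ g * tens s * g⁻¹ = tens s) ∨
      (g * u * g⁻¹ = u⁻¹ ∧ g * tens s * g⁻¹ = (tens s)⁻¹)) (hex : ∃ g ∈ P, g * u * g⁻¹ = u⁻¹) :
    Red B (Subgroup.closure {tens s * u} ⊔ P) ∨ Cov B 1 (tens s * u) P := by
  have hk1 : ((-1 : F)) ^ (k - 1) = -1 := by
    obtain ⟨j, rfl⟩ := hk
    refine Odd.neg_one_pow ⟨j - 1, ?_⟩
    omega
  have hinj := tens_inj htm
  have hhne := hh_ne h hu1 huo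
  have huu := ne_inv_of_odd hu1 huo
  have hβ : ∀ x y, β x y = - β y x := fun x y => by rw [h.sym, hk1]; ring
  -- the elements of `P`
  have hdich : ∀ g ∈ P, (∃ a ∈ Isom β, g = tens a ∧ a * s * a⁻¹ = s) ∨
      (∃ b : M ≃ₗ[F] M, (∀ x y, β (b x) (b y) = - β x y) ∧ g = hh * tens b ∧ b * s * b⁻¹ = s⁻¹) := by
    intro g hg
    rcases hIn g hg with ⟨a, ha, rfl⟩ | ⟨b, hb, rfl⟩
    · left
      refine ⟨a, ha, rfl, ?_⟩
      have h3 : tens a * u * (tens a)⁻¹ = u := by rw [h.ct, mul_inv_cancel_right]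
      rcases hact _ hg with ⟨-, h4⟩ | ⟨h4, -⟩
      · apply hinj
        rw [map_mul, map_mul, map_inv, h4]
      · rw [h3] at h4
        exact absurd h4 huu
    · right
      refine ⟨b, fun x y => by rw [hb, hk1]; ring, rfl, ?_⟩
      have h3 : hh * tens b * u * (hh * tens b)⁻¹ = u⁻¹ := by
        have h4 : hh * tens b * u * (hh * tens b)⁻¹ = hh * (tens b * u * (tens b)⁻¹) * hh⁻¹ := by group
        rw [h4, h.ct, mul_inv_cancel_right, h.hhc]
      rcases hact _ hg with ⟨h4, -⟩ | ⟨-, h4⟩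
      · rw [h3] at h4
        exact absurd h4.symm huu
      · apply hinj
        have h5 : hh * tens b * tens s * (hh * tens b)⁻¹ = hh * tens (b * s * b⁻¹) * hh⁻¹ := by
          rw [map_mul, map_mul, map_inv]; group
        rw [h5, ← h.hht, mul_inv_cancel_right] at h4
        rw [h4, map_inv]
  have hPm : ∀ a ∈ Pm h P, (a ∈ Isom β ∧ a * s * a⁻¹ = s) ∨
      ((∀ x y, β (a x) (a y) = - β x y) ∧ a * s * a⁻¹ = s⁻¹) := by
    rintro a (ha | ha)
    · rcases hdich _ ha with ⟨a', h3, h4, h5⟩ | ⟨b, -, h4, -⟩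
      · rw [hinj h4]
        exact Or.inl ⟨h3, h5⟩
      · exfalso
        apply hhne (a * b⁻¹)
        rw [map_mul, h4, map_inv, mul_inv_cancel_right]
    · rcases hdich _ ha with ⟨a', -, h4, -⟩ | ⟨b, h3, h4, h5⟩
      · exfalso
        apply hhne (a' * a⁻¹)
        rw [map_mul, ← h4, map_inv, mul_inv_cancel_right]
      · have h6 : a = b := hinj (mul_left_cancel h4)
        rw [h6]
        exact Or.inr ⟨h3, h5⟩
  obtain ⟨b0, hb0, hb0P, hb0s⟩ : ∃ b0 : M ≃ₗ[F] M, (∀ x y, β (b0 x) (b0 y) = - β x y) ∧ hh * tens b0 ∈ P ∧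
      b0 * s * b0⁻¹ = s⁻¹ := by
    obtain ⟨g, hg, hgu⟩ := hex
    rcases hdich g hg with ⟨a, -, rfl, -⟩ | ⟨b, h3, rfl, h5⟩
    · rw [h.ct, mul_inv_cancel_right] at hgu
      exact absurd hgu huu
    · exact ⟨b, h3, hg, h5⟩
  have hPP : ∀ g ∈ P, (∃ a ∈ Pm h P, g = tens a) ∨ ∃ a ∈ Pm h P, g = hh * tens a := by
    intro g hg
    rcases hdich g hg with ⟨a, -, rfl, -⟩ | ⟨b, -, rfl, -⟩
    · exact Or.inl ⟨a, Or.inl hg, rfl⟩
    · exact Or.inr ⟨b, Or.inr hg, rfl⟩
  have hFm := fm_bt hF.two hβ h.nd hs hτ h1 h1'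
  have hss : s * s * s⁻¹ = s := mul_inv_cancel_right s s
  have hsB := bt_isom hs hss
  have hPmB : Pm h P ≤ Isom (bt β s) := by
    intro a ha
    rcases hPm a ha with ⟨h3, h4⟩ | ⟨h3, h4⟩
    · exact bt_isom h3 h4
    · exact bt_anti h3 h4
  have hPmc : ∀ a ∈ Pm h P, CI s a := fun a ha => by
    rcases hPm a ha with ⟨-, h4⟩ | ⟨-, h4⟩
    · exact Or.inl h4
    · exact Or.inr h4
  have hPm2 := Pm_two h htm hP2
  have hb0m : b0 ∈ Pm h P := Or.inr hb0P
  -- `M ≠ 0`
  have hM0 : ∃ x : M, x ≠ 0 := by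
    by_contra hcon
    push Not at hcon
    apply hhne 1
    have h3 : ∀ a : M ≃ₗ[F] M, a = 1 := fun a => LinearEquiv.ext fun x => by rw [hcon x, map_zero, map_zero]
    have h4 : ∀ x : V, (-1 : F) • x = x := by
      intro x
      have h5 := h.sm (-1) x
      rw [h3 (LinearEquiv.smulOfUnit (-1)), map_one] at h5
      simpa only [_root_.neg_smul, _root_.one_smul, _root_.Units.val_neg, _root_.Units.val_one, _root_.LinearEquiv.coe_one, _root_.id_eq] using h5.symm
    have h5 : ∀ x : V, x = 0 := by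
      intro x
      have h6 := h4 x
      rw [neg_smul, one_smul] at h6
      have h8 : (2 : F) • x = 0 := by
        rw [two_smul]
        nth_rewrite 1 [← h6]
        exact neg_add_cancel x
      exact (smul_eq_zero.1 h8).resolve_left hF.two
    apply LinearEquiv.ext
    intro x
    rw [h5 x, map_zero, map_zero]
  have hM2 := two_le hF.two hβ h.nd hM0
  -- the final step
  have hfinal : (∃ Y : Subgroup (M ≃ₗ[F] M), Y ≤ Isom (bt β s) ∧ s ∈ Y ∧ Pm h P ≤ Y ∧ (∀ y ∈ Y, CI s y) ∧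
      FSGood False Y) → Cov B 1 (tens s * u) P := by
    rintro ⟨Y, hY1, hY2, hY3, hY4, hY5⟩
    refine cov_of_good hk hk0 h huB hY5 hY2 hs ?_ hb0 (hPB hb0P) hPB ?_
    · intro y hy
      rcases hY4 y hy with h3 | h3
      · exact Or.inl (of_bt_isom hτ h1 h1' (hY1 hy) h3)
      · exact Or.inr (of_bt_anti hτ h1 h1' (hY1 hy) h3)
    · intro g hg
      rcases hPP g hg with ⟨a, ha, h3⟩ | ⟨a, ha, h3⟩
      · exact Or.inl ⟨a, hY3 ha, h3⟩
      · exact Or.inr ⟨a, hY3 ha, h3⟩
  by_cases h3 : 3 ≤ finrank F M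
  · rcases hS (bt β s) s (Pm h P) τ hFm h3 hsB hτ h1 h1' hPmB hPm2 hPmc with hR | ⟨h4, h5⟩
    · left
      obtain ⟨t, ht, htt, ht1, htn, htK⟩ := exists_invol_of_red hF.two one_ne_zero hFm.symm (K := Subgroup.closure {s} ⊔ Pm h P) (by
        have hle : Subgroup.closure {s} ⊔ Pm h P ≤ Isom (bt β s) :=
          sup_le ((Subgroup.closure_le _).2 (Set.singleton_subset_iff.2 hsB)) hPmB
        intro g hg
        exact ⟨1, fun x y => by rw [one_mul]; exact hle hg x y⟩) hR
      have hts : s * t * s⁻¹ = t := comm_of_odd hF.two hso hM0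
        (htK s (Subgroup.mem_sup_left (Subgroup.subset_closure rfl)))
      have hts' : t * s * t⁻¹ = s := by
        rw [mul_inv_eq_iff_eq_mul] at hts ⊢
        exact hts.symm
      have htβ := of_bt_isom hτ h1 h1' ht hts'
      have hneg : tens (LinearEquiv.neg F) = LinearEquiv.neg F := by
        rw [neg_eq_smul, h.tens_smul, neg_eq_smul]
      have hpm : ∀ a ∈ Pm h P, tens a * tens t * (tens a)⁻¹ = tens t ∨
          tens a * tens t * (tens a)⁻¹ = tens t * LinearEquiv.neg F := by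
        intro a ha
        rcases htK a (Subgroup.mem_sup_right ha) with h4 | h4
        · left
          rw [← map_mul, ← map_inv, ← map_mul, h4]
        · right
          rw [← map_mul, ← map_inv, ← map_mul, h4, map_mul, hneg]
      refine Cfsg.Agent.H957.FR.red_of_invol hF.two hF.symm hF.nondeg (t := tens t) (h.isom t htβ)
        (by rw [← map_mul, htt, map_one]) (fun h4 => ht1 (hinj (by rw [h4, map_one])))
        (fun h4 => htn (hinj (by rw [h4, hneg]))) ?_
      -- the set of all `g` with the property is a subgroup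
      let Z : Subgroup (V ≃ₗ[F] V) :=
        { carrier := {g | g * tens t * g⁻¹ = tens t ∨ g * tens t * g⁻¹ = tens t * LinearEquiv.neg F}
          one_mem' := Or.inl (by rw [one_mul, inv_one, mul_one])
          mul_mem' := by
            have hn : ∀ g : V ≃ₗ[F] V, g * (LinearEquiv.neg F : V ≃ₗ[F] V) = (LinearEquiv.neg F : V ≃ₗ[F] V) * g :=
              Cfsg.Agent.H957.FR.neg_comm
            have hnn : (LinearEquiv.neg F : V ≃ₗ[F] V) * (LinearEquiv.neg F : V ≃ₗ[F] V) = 1 :=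
              Cfsg.Agent.H957.FR.neg_neg'
            intro a b ha hb
            have e : a * b * tens t * (a * b)⁻¹ = a * (b * tens t * b⁻¹) * a⁻¹ := by group
            have e2 : a * (tens t * LinearEquiv.neg F) * a⁻¹ = (a * tens t * a⁻¹) * LinearEquiv.neg F := by
              have e3 : a * (tens t * LinearEquiv.neg F) * a⁻¹ = a * tens t * (LinearEquiv.neg F * a⁻¹) := by group
              rw [e3, ← hn a⁻¹]
              group
            rcases hb with hb | hb
            · change a * b * tens t * (a * b)⁻¹ = _ ∨ a * b * tens t * (a * b)⁻¹ = _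
              rw [e, hb]
              exact ha
            · change a * b * tens t * (a * b)⁻¹ = _ ∨ a * b * tens t * (a * b)⁻¹ = _
              rw [e, hb, e2]
              rcases ha with ha | ha
              · right
                rw [ha]
              · left
                rw [ha, mul_assoc, hnn, mul_one]
          inv_mem' := by
            have hn : ∀ g : V ≃ₗ[F] V, g * (LinearEquiv.neg F : V ≃ₗ[F] V) = (LinearEquiv.neg F : V ≃ₗ[F] V) * g :=
              Cfsg.Agent.H957.FR.neg_comm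
            have hnn : (LinearEquiv.neg F : V ≃ₗ[F] V) * (LinearEquiv.neg F : V ≃ₗ[F] V) = 1 :=
              Cfsg.Agent.H957.FR.neg_neg'
            rintro a (ha | ha)
            · left
              rw [mul_inv_eq_iff_eq_mul] at ha ⊢
              rw [inv_mul_eq_iff_eq_mul, ← mul_assoc, ha, mul_inv_cancel_right]
            · right
              rw [mul_inv_eq_iff_eq_mul] at ha
              rw [mul_inv_eq_iff_eq_mul, inv_mul_eq_iff_eq_mul]
              -- t = a t n a⁻¹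
              have e3 : a * (tens t * LinearEquiv.neg F * a⁻¹) = (a * tens t) * (LinearEquiv.neg F * a⁻¹) := by group
              rw [e3, ha, ← hn a⁻¹]
              have e4 : tens t * LinearEquiv.neg F * a * (a⁻¹ * LinearEquiv.neg F) =
                  tens t * (LinearEquiv.neg F * LinearEquiv.neg F) := by group
              rw [e4, hnn, mul_one] }
      have hZ : Subgroup.closure {tens s * u} ⊔ P ≤ Z := by
        refine sup_le ((Subgroup.closure_le _).2 (Set.singleton_subset_iff.2 ?_)) ?_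
        · refine Z.mul_mem (Or.inl ?_) (Or.inl ?_)
          · rw [← map_mul, ← map_inv, ← map_mul, hts]
          · rw [← h.ct, mul_inv_cancel_right]
        · intro g hg
          rcases hPP g hg with ⟨a, ha, rfl⟩ | ⟨a, ha, rfl⟩
          · exact hpm a ha
          · refine Z.mul_mem (Or.inl ?_) (hpm a ha)
            rw [← h.hht, mul_inv_cancel_right]
      exact fun g hg => hZ hg
    · right
      exact hfinal (hN (bt β s) s (Pm h P) τ hFm h4 hsB hτ h5 hPmB hPm2 hPmc)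
  · right
    have h4 : finrank F M = 2 := by omega
    obtain ⟨Y, hY1, hY2, hY3, hY4, hY5⟩ := good_two hFm h4 hsB hτ h1 h1' (hPmB hb0m) hb0s
    exact hfinal ⟨Y, hY1, hY2, fun g hg => hY3 g (hPmB hg) (hPmc g hg), hY4, hY5⟩

end Cfsg.Agent.H138.FR
end

-- part: H194/FR/Good
section
/-!
# S4970, FR-N4 for `ε = 1`: all indicators of the group `YY` are one (helper194)
-/

set_option autoImplicit false

universe u

namespace Cfsg.Agent.H194.FR

open Module Cfsg.Agent.H721.FR Cfsg.Agent.H955.FS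

variable {F V : Type u} [Field F] [AddCommGroup V] [Module F V]

/-- the four-group of two commuting involutions -/
def four {Γ : Type*} [Group Γ] (t w : Γ) (htt : t * t = 1) (hww : w * w = 1) (htw : t * w = w * t) : Subgroup Γ where
  carrier := {x | x = 1 ∨ x = t ∨ x = w ∨ x = t * w}
  one_mem' := Or.inl rfl
  mul_mem' := by
    have e1 : w * t = t * w := htw.symm
    have e2 : t * (t * w) = w := by rw [← mul_assoc, htt, one_mul]
    have e3 : t * w * t = w := by rw [mul_assoc, e1, e2]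
    have e4 : w * (t * w) = t := by rw [← mul_assoc, e1, mul_assoc, hww, mul_one]
    have e5 : t * w * w = t := by rw [mul_assoc, hww, mul_one]
    have e6 : t * w * (t * w) = 1 := by rw [← mul_assoc, e3, hww]
    rintro x y (rfl | rfl | rfl | rfl) (rfl | rfl | rfl | rfl) <;>
      simp only [one_mul, mul_one, htt, hww, e1, e2, e3, e4, e5, e6, Set.mem_ofPred_eq, true_or, or_true]
  inv_mem' := by
    have i1 : t⁻¹ = t := inv_eq_of_mul_eq_one_left htt
    have i2 : w⁻¹ = w := inv_eq_of_mul_eq_one_left hww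
    rintro x (rfl | rfl | rfl | rfl) <;> simp only [inv_one, mul_inv_rev, i1, i2, ← htw, Set.mem_ofPred_eq, true_or, or_true]

theorem Kd.decomp {B : V →ₗ[F] V →ₗ[F] F} {ε : F} {δ s : Module.End F V} {d ν f0 f1 : F}
    {Φ : (F × F × F × F) ≃ₗ[F] V} (h : Kd B ε δ s d ν f0 f1 Φ) {g : V ≃ₗ[F] V} (hg : g ∈ YY B δ s) :
    g ∈ AA B δ s ∨ tr Φ (mt ε h.ee) * g ∈ AA B δ s ∨ tr Φ mw * g ∈ AA B δ s ∨
      tr Φ (mt ε h.ee) * (tr Φ mw * g) ∈ AA B δ s := by
  have hwY : tr Φ mw ∈ YY B δ s := ⟨h.w_isom, Or.inr h.w_s, h.w_δ⟩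
  have step1 : ∀ g ∈ YY B δ s, (∀ x, g (s x) = s (g x)) → g ∈ AA B δ s ∨ tr Φ (mt ε h.ee) * g ∈ AA B δ s := by
    rintro g ⟨g1, -, g3⟩ gs
    rcases g3 with g3 | g3
    · exact Or.inl ⟨g1, gs, g3⟩
    · right
      refine ⟨mul_mem h.t_isom g1, fun x => ?_, fun x => ?_⟩
      · show tr Φ (mt ε h.ee) (g (s x)) = s (tr Φ (mt ε h.ee) (g x))
        rw [gs, h.t_s]
      · show tr Φ (mt ε h.ee) (g (δ x)) = δ (tr Φ (mt ε h.ee) (g x))
        rw [g3, map_neg, h.t_δ, neg_neg]
  rcases hg.2.1 with gs | gs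
  · rcases step1 g hg gs with h1 | h1
    · exact Or.inl h1
    · exact Or.inr (Or.inl h1)
  · rcases step1 (tr Φ mw * g) (mul_mem hwY hg) (fun x => by
        show tr Φ mw (g (s x)) = s (tr Φ mw (g x))
        rw [gs, map_neg, h.w_s, neg_neg]) with h1 | h1
    · exact Or.inr (Or.inr (Or.inl h1))
    · exact Or.inr (Or.inr (Or.inr h1))

theorem AA_normal {B : V →ₗ[F] V →ₗ[F] F} {δ s : Module.End F V} :
    ∀ y ∈ YY B δ s, ∀ a ∈ AA B δ s, y * a * y⁻¹ ∈ AA B δ s := by
  rintro y ⟨y1, y2, y3⟩ a ⟨a1, a2, a3⟩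
  have e : ∀ x, (y * a * y⁻¹) x = y (a (y⁻¹ x)) := fun x => rfl
  have e'' : ∀ x, y (y⁻¹ x) = x := fun x => y.apply_symm_apply x
  have gen : ∀ r : Module.End F V, ((∀ x, y (r x) = r (y x)) ∨ ∀ x, y (r x) = - r (y x)) →
      (∀ x, a (r x) = r (a x)) → ∀ x, (y * a * y⁻¹) (r x) = r ((y * a * y⁻¹) x) := by
    intro r hr ha x
    rw [e, e]
    rcases hr with hr | hr
    · have : y⁻¹ (r x) = r (y⁻¹ x) := by
        apply y.injective
        rw [e'', hr, e'']
      rw [this, ha, hr]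
    · have : y⁻¹ (r x) = - r (y⁻¹ x) := by
        apply y.injective
        rw [e'', map_neg, hr, e'', neg_neg]
      rw [this, map_neg, map_neg, ha, hr, neg_neg]
  exact ⟨mul_mem (mul_mem y1 a1) (inv_mem y1), gen s y2 a2, gen δ y3 a3⟩

theorem Kd.good {B : V →ₗ[F] V →ₗ[F] F} {δ s : Module.End F V} {d ν f0 f1 : F}
    {Φ : (F × F × F × F) ≃ₗ[F] V} [Finite V] (h : Kd B 1 δ s d ν f0 f1 Φ) : FSGood False (YY B δ s) := by
  have hfin : Finite (V ≃ₗ[F] V) := Finite.of_injective (fun f : V ≃ₗ[F] V => (f : V → V)) DFunLike.coe_injective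
  have hww : tr Φ mw * tr Φ mw = 1 := h.w_w
  have htw : tr Φ (mt 1 h.ee) * tr Φ mw = tr Φ mw * tr Φ (mt 1 h.ee) := h.t_w
  have htt : tr Φ (mt 1 h.ee) * tr Φ (mt 1 h.ee) = 1 := by
    ext x
    show tr Φ (mt 1 h.ee) (tr Φ (mt 1 h.ee) x) = x
    rw [h.t_t, one_smul]
  have htY : tr Φ (mt 1 h.ee) ∈ YY B δ s := ⟨h.t_isom, Or.inl h.t_s, Or.inr h.t_δ⟩
  have hwY : tr Φ mw ∈ YY B δ s := ⟨h.w_isom, Or.inr h.w_s, h.w_δ⟩
  have hinv : ∀ a ∈ AA B δ s, tr Φ (mt 1 h.ee) * a * (tr Φ (mt 1 h.ee))⁻¹ = a⁻¹ := fun a ha => h.t_inv ha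
  have it : (tr Φ (mt 1 h.ee))⁻¹ = tr Φ (mt 1 h.ee) := inv_eq_of_mul_eq_one_left htt
  have iw : (tr Φ (mw : (F × F × F × F) ≃ₗ[F] (F × F × F × F)))⁻¹ = tr Φ mw := inv_eq_of_mul_eq_one_left hww
  set t := tr Φ (mt 1 h.ee)
  set w := tr Φ (mw : (F × F × F × F) ≃ₗ[F] (F × F × F × F))
  have hee : t * w * (t * w) = 1 := by
    calc t * w * (t * w) = t * w * (w * t) := by rw [htw]
      _ = t * (w * w) * t := by group
      _ = 1 := by rw [hww, mul_one, htt]
  refine Cfsg.Agent.H619.FR.fsGood_cls_amb (A := AA B δ s) (E := four t w htt hww htw) (t := t) (AA_le B δ s) ?_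
    AA_normal ?_ ?_ ?_ (Or.inr (Or.inl rfl)) hinv
  · rintro x (rfl | rfl | rfl | rfl)
    · exact one_mem _
    · exact htY
    · exact hwY
    · exact mul_mem htY hwY
  · intro a ha b hb
    have h1 := hinv (a * b) (mul_mem ha hb)
    have h2 : t * (a * b) * t⁻¹ = (t * a * t⁻¹) * (t * b * t⁻¹) := by group
    rw [h2, hinv a ha, hinv b hb, mul_inv_rev] at h1
    have h3 := congrArg (fun g => g⁻¹) h1
    simp only [mul_inv_rev, inv_inv] at h3
    exact h3.symm
  · rintro x (rfl | rfl | rfl | rfl)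
    · exact one_mul 1
    · exact htt
    · exact hww
    · exact hee
  · intro y hy
    have key : ∀ e ∈ four t w htt hww htw, e ∈ YY B δ s → e * y ∈ AA B δ s → e * e = 1 →
        ∃ a ∈ AA B δ s, ∃ e ∈ four t w htt hww htw, y = a * e := by
      intro e he heY hey hee
      have ie : e⁻¹ = e := inv_eq_of_mul_eq_one_left hee
      refine ⟨e * (e * y) * e⁻¹, AA_normal e heY _ hey, e, he, ?_⟩
      rw [inv_mul_cancel_right, ← mul_assoc, hee, one_mul]
    rcases h.decomp hy with h1 | h1 | h1 | h1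
    · exact ⟨y, h1, 1, one_mem _, (mul_one _).symm⟩
    · exact key t (Or.inr (Or.inl rfl)) htY h1 htt
    · exact key w (Or.inr (Or.inr (Or.inl rfl))) hwY h1 hww
    · refine key (t * w) (Or.inr (Or.inr (Or.inr rfl))) (mul_mem htY hwY) (by rwa [mul_assoc]) ?_
      exact hee

/-- **FR-N4**, `ε = 1`, with all indicators one and `Y` normalising `⟨c⟩` -/
theorem n4_good [Finite F] [FiniteDimensional F V] {B : V →ₗ[F] V →ₗ[F] F} (hF : Fm B (1 : F))
    (hn : finrank F V = 4) {c : V ≃ₗ[F] V} (hc : c ∈ Isom B) {τ : F} (hτ : ∀ x, c x + c.symm x = τ • x)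
    (hns : ¬ IsSquare (4 - τ * τ)) {P : Subgroup (V ≃ₗ[F] V)} (hPI : P ≤ Isom B) (hP2 : IsPGroup 2 P)
    (act : ∀ g ∈ P, g * c * g⁻¹ = c ∨ g * c * g⁻¹ = c⁻¹) :
    ∃ Y : Subgroup (V ≃ₗ[F] V), Y ≤ Isom B ∧ c ∈ Y ∧ P ≤ Y ∧
      (∀ y ∈ Y, y * c * y⁻¹ = c ∨ y * c * y⁻¹ = c⁻¹) ∧ FSGood False Y := by
  have : Finite V := Module.finite_of_finite F
  let δ : Module.End F V := (c : V →ₗ[F] V) - (c.symm : V →ₗ[F] V)
  have hδ : ∀ x, δ x = c x - c.symm x := fun x => rfl
  have hcs : ∀ x, c (c.symm x) = x := fun x => c.apply_symm_apply x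
  have hsc : ∀ x, c.symm (c x) = x := fun x => c.symm_apply_apply x
  have dd : ∀ x, δ (δ x) = (τ * τ - 4) • x := by
    intro x
    have e1 : τ • (τ • x) = c (c x) + c.symm (c.symm x) + (2 : F) • x := by
      rw [← hτ x, smul_add, ← hτ (c x), ← hτ (c.symm x), hcs, hsc, two_smul]
      abel
    have e2 : (τ * τ - 4) • x = τ • (τ • x) - (4 : F) • x := by module
    rw [e2, e1, hδ, hδ, map_sub, map_sub, hcs, hsc]
    module
  have skew : ∀ x y, B (δ x) y = - B x (δ y) := by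
    intro x y
    have e1 : B (c x) y = B x (c.symm y) := by
      have := hc x (c.symm y)
      rwa [hcs] at this
    have e2 : B (c.symm x) y = B x (c y) := by
      have := hc (c.symm x) y
      rw [hcs] at this
      exact this.symm
    rw [hδ, hδ, map_sub, map_sub, LinearMap.sub_apply, e1, e2, neg_sub]
  have hdd : -(τ * τ - 4) = 4 - τ * τ := by ring
  have hact : ∀ g ∈ P, (∀ x, g (δ x) = δ (g x)) ∨ ∀ x, g (δ x) = - δ (g x) := by
    intro g hg
    rcases act g hg with h1 | h1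
    · left
      have h2 : g * c = c * g := mul_inv_eq_iff_eq_mul.1 h1
      have h3 : ∀ x, g (c x) = c (g x) := fun x => congrArg (fun f : V ≃ₗ[F] V => f x) h2
      intro x
      have h4 : g (c.symm x) = c.symm (g x) := by
        apply c.injective
        rw [← h3, hcs, hcs]
      rw [hδ, hδ, map_sub, h3, h4]
    · right
      have h2 : g * c = c⁻¹ * g := mul_inv_eq_iff_eq_mul.1 h1
      have h3 : ∀ x, g (c x) = c.symm (g x) := fun x => congrArg (fun f : V ≃ₗ[F] V => f x) h2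
      intro x
      have h4 : g (c.symm x) = c (g x) := by
        apply c.symm.injective
        rw [← h3, hcs, hsc]
      rw [hδ, hδ, map_sub, h3, h4, neg_sub]
  have hd : ¬ IsSquare (-(τ * τ - 4)) := by rwa [hdd]
  have hd0 : τ * τ - 4 ≠ 0 := by
    intro h0
    apply hd
    rw [h0, neg_zero]
    exact IsSquare.zero
  have hq : Qd B δ (τ * τ - 4) :=
    ⟨hF.two, hF.nondeg, fun x y => by rw [hF.symm, one_mul], dd, skew, hd0⟩
  obtain ⟨s, hs, hsP⟩ := hq.exists_fix hn hd hd P hP2 fun g hg =>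
    ⟨⟨1, one_ne_zero, fun x y => by rw [hPI hg x y, one_mul]⟩, hact g hg⟩
  have hD : Dt B 1 δ s (τ * τ - 4) (-(τ * τ - 4)) :=
    ⟨hF.two, hF.nondeg, one_mul 1, hF.symm, dd, skew, hd0, hs, hd⟩
  obtain ⟨f0, f1, Φ, hK⟩ := hD.exists_kd hn
  -- `2 c = τ + δ`
  have h5 : ∀ x, c x = (2 : F)⁻¹ • (τ • x + δ x) := by
    intro x
    rw [hδ, ← hτ, eq_inv_smul_iff₀ hF.two]
    module
  have h6 : ∀ x, c.symm x = (2 : F)⁻¹ • (τ • x - δ x) := by
    intro x
    rw [hδ, ← hτ, eq_inv_smul_iff₀ hF.two]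
    module
  refine ⟨YY B δ s, fun g hg => hg.1, ⟨hc, Or.inl ?_, Or.inl ?_⟩, fun g hg => ⟨hPI hg, hsP g hg, hact g hg⟩, ?_,
    hK.good⟩
  · intro x
    rw [h5, h5, map_smul, map_add, map_smul, hs.1]
  · intro x
    rw [hδ, hδ, map_sub, hcs, hsc]
  · rintro y ⟨-, -, h3⟩
    rcases h3 with h3 | h3
    · left
      rw [mul_inv_eq_iff_eq_mul]
      ext x
      show y (c x) = c (y x)
      rw [h5, h5, map_smul, map_add, map_smul, h3]
    · right
      rw [mul_inv_eq_iff_eq_mul]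
      ext x
      show y (c x) = c.symm (y x)
      rw [h5, h6, map_smul, map_add, map_smul, h3, sub_eq_add_neg]

end Cfsg.Agent.H194.FR
end

-- part: H138/FR/Mix
section
/-!
# S4970, FR-MIX: elements which are neither semisimple nor unipotent
-/

set_option autoImplicit false

universe u

namespace Cfsg.Agent.H138.FR

open Cfsg Cfsg.Agent.H721.FR Cfsg.Agent.H47.Uni Cfsg.Agent.H396.Uni Module
open Cfsg.Agent.H955.FS (FSGood)

variable {F V : Type u} [Field F] [AddCommGroup V] [Module F V] {B : V →ₗ[F] V →ₗ[F] F} {ε : F}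

theorem nFour [Finite F] (W : Type u) [AddCommGroup W] [Module F W] [FiniteDimensional F W] : NFour F W := by
  intro B c P τ hF hn hc hτ hns hPI hP2 act
  exact Cfsg.Agent.H194.FR.n4_good hF hn hc hτ (by rwa [← pow_two]) hPI hP2 act

theorem sem2 [Finite F] (W : Type u) [AddCommGroup W] [Module F W] [FiniteDimensional F W] : Sem2 F W := by
  intro B c P τ hF hn hc hτ h1 h2 hPI hP2 act
  have : Finite W := Module.finite_of_finite F
  exact Cfsg.Agent.H137.FR.red_of_scalar hF hc hτ h1 h2 hPI hP2 act hn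

/-- the data of helper47 from the structure of helper396 -/
theorem dt_of {N : V →ₗ[F] V} {k : ℕ} {M : Submodule F V} {u : V ≃ₗ[F] V} (h : Str B N k M) (hN : Cay B u N)
    (hs : ∀ x y, B x y = ε * B y x) (hnd : ∀ x, (∀ y, B x y = 0) → x = 0) :
    Dt B ε u k M (bet B N k M) h.tens h.hh where
  sym := h.bet_symm hs
  nd := h.bet_nd hnd
  isom := fun a ha => (h.tens_mem a).2 ha
  sm := fun s x => by
    have h1 : h.tens (LinearEquiv.smulOfUnit s) = LinearEquiv.smulOfUnit s := by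
      apply h.ext_equiv
      intro i x
      rw [h.tens_apply]
      change (N ^ i) ((s : F) • (x : V)) = (s : F) • (N ^ i) (x : V)
      rw [map_smul]
    rw [h1]
    rfl
  hh2 := h.hh_hh
  hhB := h.hh_form
  hhc := h.hh_c hN
  hht := fun a => (h.hh_tens a).symm
  ct := fun a => h.tens_c hN a

/-- the order of `⟨s⟩ P` -/
theorem card_sup_ne_zero [Finite F] [FiniteDimensional F V] (h2 : (2 : F) ≠ 0) {s : V ≃ₗ[F] V}
    (hsp : (orderOf s : F) ≠ 0) {P : Subgroup (V ≃ₗ[F] V)} (hP2 : IsPGroup 2 P) (act : ∀ g ∈ P, CI s g) :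
    (Nat.card (Subgroup.closure {s} ⊔ P : Subgroup (V ≃ₗ[F] V)) : F) ≠ 0 := by
  have := finite_gl (F := F) (V := V)
  obtain ⟨p, hp⟩ := CharP.exists F
  have hpp : p.Prime := by
    have := Fintype.ofFinite F
    exact (CharP.char_is_prime_or_zero F p).resolve_right (CharP.char_ne_zero_of_finite F p)
  have hfact : Fact p.Prime := ⟨hpp⟩
  intro h0
  rw [CharP.cast_eq_zero_iff F p] at h0
  obtain ⟨⟨g, hg⟩, hgo⟩ := exists_prime_orderOf_dvd_card' p h0
  -- the elements of `⟨s⟩ P`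
  have hconj : ∀ x ∈ P, ∀ i : ℤ, ∃ j : ℤ, x * s ^ i * x⁻¹ = s ^ j := by
    intro x hx i
    rcases act x hx with h | h
    · exact ⟨i, by rw [← conj_zpow, h]⟩
    · exact ⟨-i, by rw [← conj_zpow, h, inv_zpow, zpow_neg]⟩
  let T : Subgroup (V ≃ₗ[F] V) :=
    { carrier := {g | ∃ (i : ℤ), ∃ x ∈ P, g = s ^ i * x}
      one_mem' := ⟨0, 1, one_mem _, by simp⟩
      mul_mem' := by
        rintro _ _ ⟨i, x, hx, rfl⟩ ⟨j, y, hy, rfl⟩
        obtain ⟨l, hl⟩ := hconj x hx j
        refine ⟨i + l, x * y, mul_mem hx hy, ?_⟩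
        rw [zpow_add, ← hl]
        group
      inv_mem' := by
        rintro _ ⟨i, x, hx, rfl⟩
        obtain ⟨l, hl⟩ := hconj x⁻¹ (inv_mem hx) (-i)
        refine ⟨l, x⁻¹, inv_mem hx, ?_⟩
        rw [← hl]
        group }
  have hT : Subgroup.closure {s} ⊔ P ≤ T := by
    refine sup_le ((Subgroup.closure_le _).2 (Set.singleton_subset_iff.2 ⟨1, 1, one_mem _, by simp⟩)) ?_
    intro x hx
    exact ⟨0, x, hx, by simp⟩
  obtain ⟨i, x, hx, rfl⟩ := hT hg
  -- powers
  have hpow : ∀ n : ℕ, ∃ j : ℤ, (s ^ i * x) ^ n = s ^ j * x ^ n := by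
    intro n
    induction n with
    | zero => exact ⟨0, by simp⟩
    | succ n ih =>
      obtain ⟨j, hj⟩ := ih
      obtain ⟨l, hl⟩ := hconj (x ^ n) (pow_mem hx n) i
      refine ⟨j + l, ?_⟩
      rw [pow_succ, hj, zpow_add, ← hl, pow_succ]
      group
  obtain ⟨n, hn⟩ := hP2 ⟨x, hx⟩
  have hn' : x ^ 2 ^ n = 1 := congrArg Subtype.val hn
  obtain ⟨j, hj⟩ := hpow (2 ^ n)
  rw [hn', mul_one] at hj
  have hg1 : (s ^ i * x) ^ (2 ^ n * orderOf s) = 1 := by
    rw [pow_mul, hj, ← zpow_natCast, ← zpow_mul, mul_comm, zpow_mul, zpow_natCast, pow_orderOf_eq_one, one_zpow]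
  have hord : orderOf (s ^ i * x) = p := by
    rw [← hgo, Subgroup.orderOf_mk]
  have hdvd : p ∣ 2 ^ n * orderOf s := by
    rw [← hord]
    exact orderOf_dvd_of_pow_eq_one hg1
  rcases hpp.dvd_mul.1 hdvd with h3 | h3
  · have h4 := hpp.dvd_of_dvd_pow h3
    apply h2
    have h5 : ((2 : ℕ) : F) = 0 := (CharP.cast_eq_zero_iff F p 2).2 h4
    exact_mod_cast h5
  · exact hsp ((CharP.cast_eq_zero_iff F p _).2 h3)

/-- the mixed case, with the two parts -/
theorem cov_mix [Finite F] [FiniteDimensional F V] (hF : Fm B ε) (hI : ∀ m < finrank F V, Hyp.{u} m)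
    {s u : V ≃ₗ[F] V} (hs : s ∈ Isom B) (hu : u ∈ Isom B) (hsu : s * u = u * s) (hs1 : s ≠ 1)
    (hso : Odd (orderOf s)) (hsp : (orderOf s : F) ≠ 0) (hu1 : u ≠ 1) (huo : Odd (orderOf u))
    (hun : IsNilpotent (((u : V →ₗ[F] V) : End F V) - 1)) {P : Subgroup (V ≃ₗ[F] V)} (hPB : P ≤ Isom B)
    (hP2 : IsPGroup 2 P)
    (act : ∀ g ∈ P, (g * s * g⁻¹ = s ∧ g * u * g⁻¹ = u) ∨ (g * s * g⁻¹ = s⁻¹ ∧ g * u * g⁻¹ = u⁻¹))
    (hex : ∃ g ∈ P, g * u * g⁻¹ = u⁻¹) :
    Red B (Subgroup.closure {s * u} ⊔ P) ∨ Cov B ε (s * u) P := by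
  have hgl := finite_gl (F := F) (V := V)
  have huu := ne_inv_of_odd hu1 huo
  have hs2 : ¬ 2 ∣ orderOf s := fun h => (Nat.not_even_iff_odd.2 hso) (even_iff_two_dvd.2 h)
  rcases Cfsg.Agent.H699.FR.cov_sem_gen hF hI hs hs1 hs2 hsp (c' := s * u) (mul_mem hs hu)
    (by rw [mul_assoc, ← hsu]) hPB (fun g hg => (act g hg).imp And.left And.left) with h | h | ⟨τ, hτ, h1, h1'⟩
  · exact Or.inl h
  · exact Or.inr h
  set! R : Subgroup (V ≃ₗ[F] V) := Subgroup.closure {s} ⊔ P with hR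
  have hsR : s ∈ R := Subgroup.mem_sup_left (Subgroup.subset_closure rfl)
  have hPR : P ≤ R := le_sup_right
  have hRB : R ≤ Isom B := sup_le ((Subgroup.closure_le _).2 (Set.singleton_subset_iff.2 hs)) hPB
  have hsu' : s * u * s⁻¹ = u := by rw [hsu, mul_inv_cancel_right]
  have hRu : ∀ g ∈ R, g * u * g⁻¹ = u ∨ g * u * g⁻¹ = u⁻¹ := by
    have h3 : R ≤ Cfsg.Agent.H467.FRSmall.invC B u :=
      sup_le ((Subgroup.closure_le _).2 (Set.singleton_subset_iff.2 ⟨hs, Or.inl hsu'⟩))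
        fun g hg => ⟨hPB hg, (act g hg).imp And.right And.right⟩
    exact fun g hg => (h3 hg).2
  have hcard : (Nat.card R : F) ≠ 0 :=
    card_sup_ne_zero hF.two hsp hP2 fun g hg => (act g hg).imp And.left And.left
  have hεε : ε * ε = 1 := by
    rcases hF.eps with h | ⟨h, -⟩ <;> rw [h] <;> ring
  have hle : Subgroup.closure {s * u} ⊔ P ≤ Subgroup.closure {u} ⊔ R :=
    sup_le ((Subgroup.closure_le _).2 (Set.singleton_subset_iff.2
      (mul_mem (Subgroup.mem_sup_right hsR) (Subgroup.mem_sup_left (Subgroup.subset_closure rfl)))))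
      (hPR.trans le_sup_right)
  rcases uni1 hF.two hεε hF.symm hF.nondeg hu hu1 hun hcard hRB hRu with h | ⟨N, k, M, hN, hM, hMR, hact⟩
  · exact Or.inl (Cfsg.Agent.H957.FR.Red.mono hle h)
  have hDt := dt_of (ε := ε) hM hN hF.symm hF.nondeg
  have hIn : ∀ g ∈ R, InP k M (bet B N k M) hM.tens hM.hh g := fun g hg =>
    hM.mem_cases hMR hRB hg ((hact g hg).imp And.right And.right)
  have hV0 : 0 < finrank F V := by
    rw [Nat.pos_iff_ne_zero]
    intro h
    have := Module.finrank_zero_iff.1 h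
    exact hu1 (LinearEquiv.ext fun v => Subsingleton.elim _ _)
  have hlt : finrank F M < finrank F V := by
    have h3 := hM.finrank_eq
    have h4 := hM.hk
    have h5 : 0 < finrank F M := by
      rw [Nat.pos_iff_ne_zero]
      intro h6
      rw [h6, mul_zero] at h3
      omega
    nlinarith only [h3, h4, h5]
  have hcov : Cov B ε u R → Cov B ε (s * u) P := by
    rintro ⟨Y, hY1, hY2, hY3, hY4⟩
    exact ⟨Y, hY1, mul_mem (hY3 hsR) hY2, hPR.trans hY3, hY4⟩
  have hk0 : k ≠ 0 := by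
    have := hM.hk
    omega
  rcases Nat.even_or_odd k with hk | hk
  · have hodd : Nat.card F % 4 = 1 ∨ Nat.card F % 4 = 3 := by
      have := Fintype.ofFinite F
      have h3 : Nat.card F % 2 = 1 := by
        rw [Nat.card_eq_fintype_card]
        refine FiniteField.odd_card_of_char_ne_two fun h => hF.two ?_
        have := ringChar.Nat.cast_ringChar (R := F)
        rw [h] at this
        exact_mod_cast this
      omega
    rcases hodd with hq | hq
    · exact Or.inr (hcov (cov_even hF hk hk0 hq hDt hu hu1 huo (hI _ hlt) hIn))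
    · have hε1 : ε = 1 := by
        rcases hF.eps with h | ⟨-, h⟩
        · exact h
        · omega
      subst hε1
      -- `s = tens s'`
      obtain ⟨s', hs', hss'⟩ : ∃ a ∈ Isom (bet B N k M), s = hM.tens a := by
        rcases hIn s hsR with h | ⟨b, -, h⟩
        · exact h
        · exfalso
          apply huu
          have h3 : s * u * s⁻¹ = u⁻¹ := by
            have h4 : hM.hh * hM.tens b * u * (hM.hh * hM.tens b)⁻¹ =
                hM.hh * (hM.tens b * u * (hM.tens b)⁻¹) * hM.hh⁻¹ := by group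
            rw [h, h4, hDt.ct, mul_inv_cancel_right, hDt.hhc]
          rw [← h3, hsu']
      have htm : ∀ (a : M ≃ₗ[F] M) (x : M), hM.tens a (x : V) = (a x : M) := hM.tens_coe
      have hinj := tens_inj htm
      have hso' : Odd (orderOf s') := by
        rw [← orderOf_injective hM.tens hinj s', ← hss']
        exact hso
      have hτ' : ∀ x, s' x + s'⁻¹ x = τ • x := by
        intro x
        apply Subtype.ext
        have h3 := hτ (x : V)
        rw [hss', ← map_inv, htm, htm] at h3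
        exact h3
      have h3 := mix4 (nFour M) (sem2 M) hF hk hk0 hDt htm hu hu1 huo hs' hso' hτ' h1 h1' hPB hP2
        (fun g hg => hIn g (hPR hg)) (fun g hg => by
          rw [← hss']
          exact (act g hg).imp And.symm And.symm) hex
      rw [← hss'] at h3
      exact h3
  · exact Or.inr (hcov (cov_odd hF hk hDt hu hu1 huo (hI _ hlt) hIn))

end Cfsg.Agent.H138.FR
end

private theorem dce_ef092d9be738 : _root_.True := by
  try have : _root_.True := by simp only [_root_.Cfsg.Agent.H76.FR.swap.congr_simp]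
  try have : _root_.True := by simp only [_root_.Cfsg.Agent.H76.FR.glue.congr_simp]
  try have : _root_.True := by simp only [_root_.Cfsg.Agent.H76.FR.swap.eq_1]
  try have : _root_.True := by simp only [_root_.Cfsg.Agent.H76.FR.glue.eq_1]
  exact _root_.True.intro
end

-- part: H138/FR/Uni
section
prune_inst 0x4410000
set_option linter.all false
open scoped Cfsg.Agent.FastGrp

-- part: H138/FR/Parts
section
/-!
# S4970, FR-MIX: the decomposition into the semisimple and the unipotent part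

* `cov_mix_top` : for `c` of odd order and a 2-group `P` of isometries which centralise or invert `c`, some of them
  inverting `c`: `c = 1`, or `c` is unipotent, or `c` is semisimple, or `Red`, or `Cov`.
-/

set_option autoImplicit false

universe u

namespace Cfsg.Agent.H138.FR

open Cfsg Cfsg.Agent.H721.FR Module

variable {F V : Type u} [Field F] [AddCommGroup V] [Module F V] {B : V →ₗ[F] V →ₗ[F] F} {ε : F}

theorem nilpotent_of_pow [Finite F] {u : V ≃ₗ[F] V} {n : ℕ} (h : u ^ ringChar F ^ n = 1) :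
    IsNilpotent (((u : V →ₗ[F] V) : End F V) - 1) := by
  rcases subsingleton_or_nontrivial V with hV | hV
  · refine ⟨1, ?_⟩
    ext x
    exact Subsingleton.elim _ _
  have hpr : (ringChar F).Prime := by
    have := Fintype.ofFinite F
    exact (CharP.char_is_prime_or_zero F (ringChar F)).resolve_right (CharP.char_ne_zero_of_finite F (ringChar F))
  have : Fact (ringChar F).Prime := ⟨hpr⟩
  have : CharP (End F V) (ringChar F) := charP_of_injective_algebraMap (algebraMap F (End F V)).injective _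
  refine ⟨ringChar F ^ n, ?_⟩
  rw [sub_pow_char_pow_of_commute (ringChar F) n (Commute.one_right _), one_pow]
  have h1 : ∀ (m : ℕ) (x : V), (((u : V →ₗ[F] V) : End F V) ^ m) x = (u ^ m) x := by
    intro m
    induction m with
    | zero => intro x; rfl
    | succ m ih => intro x; rw [pow_succ, pow_succ, Module.End.mul_apply, ih]; rfl
  ext x
  rw [LinearMap.sub_apply, h1, h]
  exact sub_self x

theorem exists_parts [Finite F] [FiniteDimensional F V] (c : V ≃ₗ[F] V) (ho : Odd (orderOf c)) :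
    ∃ (i j : ℤ) (n : ℕ), c = c ^ i * c ^ j ∧ (orderOf (c ^ i) : F) ≠ 0 ∧ Odd (orderOf (c ^ i)) ∧
      Odd (orderOf (c ^ j)) ∧ (c ^ j) ^ ringChar F ^ n = 1 := by
  have := finite_gl (F := F) (V := V)
  have hpr : (ringChar F).Prime := by
    have := Fintype.ofFinite F
    exact (CharP.char_is_prime_or_zero F (ringChar F)).resolve_right (CharP.char_ne_zero_of_finite F (ringChar F))
  obtain ⟨e, k, m, hn, hmp, he1, he0⟩ := Cfsg.Agent.Characters.Brauer.exists_exponent (orderOf c) (ringChar F)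
    (orderOf_pos c).ne' hpr
  have hodd : ∀ i : ℤ, Odd (orderOf (c ^ i)) := by
    intro i
    have h1 : orderOf (c ^ i) ∣ orderOf c := orderOf_dvd_of_pow_eq_one (by
      rw [← zpow_natCast, ← zpow_mul, mul_comm, zpow_mul, zpow_natCast, pow_orderOf_eq_one, one_zpow])
    exact ho.of_dvd_nat h1
  refine ⟨e, 1 - e, k, ?_, ?_, hodd _, hodd _, ?_⟩
  · rw [← zpow_add]
    simp
  · obtain ⟨d, hd⟩ := Nat.modEq_zero_iff_dvd.1 he0
    have h1 : orderOf (c ^ (e : ℤ)) ∣ m := orderOf_dvd_of_pow_eq_one (by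
      rw [zpow_natCast, ← pow_mul, hd, show ringChar F ^ k * d * m = (ringChar F ^ k * m) * d by ring, ← hn, pow_mul,
        pow_orderOf_eq_one, one_pow])
    intro h2
    have h3 : ringChar F ∣ orderOf (c ^ (e : ℤ)) := (CharP.cast_eq_zero_iff F (ringChar F) _).1 h2
    have h4 : ringChar F ∣ m := h3.trans h1
    have h5 := Nat.Coprime.eq_one_of_dvd hmp.symm h4
    exact hpr.one_lt.ne' h5
  · obtain ⟨d, hd⟩ := Nat.modEq_iff_dvd.1 he1
    have hd' : (1 : ℤ) - e = m * d := by exact_mod_cast hd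
    rw [hd', ← zpow_natCast, ← zpow_mul]
    have h3 : (m : ℤ) * d * ((ringChar F ^ k : ℕ) : ℤ) = ((ringChar F ^ k * m : ℕ) : ℤ) * d := by push_cast; ring
    rw [h3, zpow_mul, zpow_natCast, ← hn, pow_orderOf_eq_one, one_zpow]

/-- **the trichotomy** -/
theorem cov_mix_top [Finite F] [FiniteDimensional F V] (hF : Fm B ε) (hI : ∀ m < finrank F V, Hyp.{u} m)
    {c : V ≃ₗ[F] V} (hc : c ∈ Isom B) (ho : Odd (orderOf c)) {P : Subgroup (V ≃ₗ[F] V)} (hPB : P ≤ Isom B)
    (hP2 : IsPGroup 2 P) (act : ∀ g ∈ P, g * c * g⁻¹ = c ∨ g * c * g⁻¹ = c⁻¹) (hex : ∃ g ∈ P, g * c * g⁻¹ = c⁻¹) :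
    c = 1 ∨ (c ≠ 1 ∧ (∃ n : ℕ, c ^ ringChar F ^ n = 1) ∧ IsNilpotent (((c : V →ₗ[F] V) : End F V) - 1)) ∨
      (c ≠ 1 ∧ (orderOf c : F) ≠ 0) ∨ Red B (Subgroup.closure {c} ⊔ P) ∨ Cov B ε c P := by
  by_cases hc1 : c = 1
  · exact Or.inl hc1
  right
  obtain ⟨i, j, n, h1, h2, h3, h4, h5⟩ := exists_parts c ho
  by_cases hs : c ^ i = 1
  · left
    have h6 : c ^ j = c := by
      rw [hs, one_mul] at h1
      exact h1.symm
    rw [h6] at h5
    exact ⟨hc1, ⟨n, h5⟩, nilpotent_of_pow h5⟩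
  right
  by_cases hu : c ^ j = 1
  · left
    have h6 : c ^ i = c := by
      rw [hu, mul_one] at h1
      exact h1.symm
    rw [h6] at h2
    exact ⟨hc1, h2⟩
  right
  have hpw : ∀ g : V ≃ₗ[F] V, g * c * g⁻¹ = c → ∀ l : ℤ, g * c ^ l * g⁻¹ = c ^ l := fun g hg l => by
    rw [← conj_zpow, hg]
  have hpw' : ∀ g : V ≃ₗ[F] V, g * c * g⁻¹ = c⁻¹ → ∀ l : ℤ, g * c ^ l * g⁻¹ = (c ^ l)⁻¹ := fun g hg l => by
    rw [← conj_zpow, hg, inv_zpow]
  have h6 := cov_mix hF hI (s := c ^ i) (u := c ^ j) (zpow_mem hc i) (zpow_mem hc j)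
    (by rw [← zpow_add, ← zpow_add, add_comm]) hs h3 h2 hu h4 (nilpotent_of_pow h5) hPB hP2
    (fun g hg => (act g hg).imp (fun h => ⟨hpw g h i, hpw g h j⟩) fun h => ⟨hpw' g h i, hpw' g h j⟩)
    (by
      obtain ⟨g, hg, h⟩ := hex
      exact ⟨g, hg, hpw' g h j⟩)
  rw [← h1] at h6
  exact h6

end Cfsg.Agent.H138.FR
end

-- part: H138/FR/Final
section
/-!
# S4970, FR-MIX: final form (field `mix` of `Cfsg.Agent.H659.FRAsm.Inputs2`)
-/

set_option autoImplicit false

universe u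

namespace Cfsg.Agent.H138.FR

open Cfsg Cfsg.Agent.H721.FR Module

/-- **FR-MIX** -/
theorem cov_mix_final {F V : Type u} [Field F] [Finite F] [AddCommGroup V] [Module F V] [FiniteDimensional F V]
    {B : V →ₗ[F] V →ₗ[F] F} {ε : F} (hF : Fm B ε) (hI : ∀ m < finrank F V, Hyp.{u} m)
    {c : V ≃ₗ[F] V} {P : Subgroup (V ≃ₗ[F] V)} (hc : c ∈ Isom B) (ho : Odd (orderOf c))
    (hs : (orderOf c : F) = 0) (hu : ¬ ∃ a : ℕ, c ^ (ringChar F) ^ a = 1) (hex : ∃ g ∈ P, g * c * g⁻¹ = c⁻¹)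
    (hP : Mx B c P) : Cov B ε c P := by
  rcases cov_mix_top hF hI hc ho hP.le hP.two hP.act hex with h | ⟨-, h, -⟩ | ⟨-, h⟩ | h | h
  · exact absurd ⟨0, by rw [h, one_pow]⟩ hu
  · exact absurd h hu
  · exact absurd hs h
  · exact Cfsg.Agent.H76.FR.cov_of_red hF hI hc hP.le h
  · exact h

end Cfsg.Agent.H138.FR
end

-- part: H138/FR/Uni
section
/-!
# S4970, FR-UNI: unipotent elements (assembly of the results of helper396, helper47, helper957)
-/

set_option autoImplicit false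

universe u

namespace Cfsg.Agent.H138.FR

open Cfsg Cfsg.Agent.H721.FR Cfsg.Agent.H47.Uni Cfsg.Agent.H396.Uni Module

variable {F V : Type u} [Field F] [AddCommGroup V] [Module F V] {B : V →ₗ[F] V →ₗ[F] F} {ε : F}

/-- the stabiliser of `{t, -t}` -/
def nrm (t : V ≃ₗ[F] V) : Subgroup (V ≃ₗ[F] V) where
  carrier := {g | g * t * g⁻¹ = t ∨ g * t * g⁻¹ = t * LinearEquiv.neg F}
  one_mem' := Or.inl (by rw [one_mul, inv_one, mul_one])
  mul_mem' := by
    have hn : ∀ g : V ≃ₗ[F] V, g * (LinearEquiv.neg F : V ≃ₗ[F] V) = (LinearEquiv.neg F : V ≃ₗ[F] V) * g :=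
      Cfsg.Agent.H957.FR.neg_comm
    have hnn : (LinearEquiv.neg F : V ≃ₗ[F] V) * (LinearEquiv.neg F : V ≃ₗ[F] V) = 1 :=
      Cfsg.Agent.H957.FR.neg_neg'
    intro a b ha hb
    have e : a * b * t * (a * b)⁻¹ = a * (b * t * b⁻¹) * a⁻¹ := by group
    have e2 : a * (t * LinearEquiv.neg F) * a⁻¹ = (a * t * a⁻¹) * LinearEquiv.neg F := by
      have e3 : a * (t * LinearEquiv.neg F) * a⁻¹ = a * t * (LinearEquiv.neg F * a⁻¹) := by group
      rw [e3, ← hn a⁻¹]
      group
    rcases hb with hb | hb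
    · change a * b * t * (a * b)⁻¹ = _ ∨ a * b * t * (a * b)⁻¹ = _
      rw [e, hb]
      exact ha
    · change a * b * t * (a * b)⁻¹ = _ ∨ a * b * t * (a * b)⁻¹ = _
      rw [e, hb, e2]
      rcases ha with ha | ha
      · right
        rw [ha]
      · left
        rw [ha, mul_assoc, hnn, mul_one]
  inv_mem' := by
    have hn : ∀ g : V ≃ₗ[F] V, g * (LinearEquiv.neg F : V ≃ₗ[F] V) = (LinearEquiv.neg F : V ≃ₗ[F] V) * g :=
      Cfsg.Agent.H957.FR.neg_comm
    have hnn : (LinearEquiv.neg F : V ≃ₗ[F] V) * (LinearEquiv.neg F : V ≃ₗ[F] V) = 1 :=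
      Cfsg.Agent.H957.FR.neg_neg'
    rintro a (ha | ha)
    · left
      rw [mul_inv_eq_iff_eq_mul] at ha ⊢
      rw [inv_mul_eq_iff_eq_mul, ← mul_assoc, ha, mul_inv_cancel_right]
    · right
      rw [mul_inv_eq_iff_eq_mul] at ha
      rw [mul_inv_eq_iff_eq_mul, inv_mul_eq_iff_eq_mul]
      have e3 : a * (t * LinearEquiv.neg F * a⁻¹) = (a * t) * (LinearEquiv.neg F * a⁻¹) := by group
      rw [e3, ha, ← hn a⁻¹]
      have e4 : t * LinearEquiv.neg F * a * (a⁻¹ * LinearEquiv.neg F) =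
          t * (LinearEquiv.neg F * LinearEquiv.neg F) := by group
      rw [e4, hnn, mul_one]

/-- lifting a reduction of `M` -/
theorem red_lift [FiniteDimensional F V] (hF : Fm B ε) {u : V ≃ₗ[F] V} {k : ℕ} {M : Submodule F V}
    {β : M →ₗ[F] M →ₗ[F] F} {tens : (M ≃ₗ[F] M) →* (V ≃ₗ[F] V)} {hh : V ≃ₗ[F] V}
    (h : Dt B ε u k M β tens hh) (hinj : Function.Injective tens) {δ : F} (hδ : δ ≠ 0)
    (hβ : ∀ x y, β x y = δ * β y x) {P' : Subgroup (M ≃ₗ[F] M)}
    (hP' : ∀ g ∈ P', ∃ s : F, ∀ x y, β (g x) (g y) = s * β x y) (hR : Red β P') {K : Subgroup (V ≃ₗ[F] V)}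
    (hK : ∀ g ∈ K, g * u * g⁻¹ = u ∧ (∀ a, g * tens a = tens a * g) ∨ (∃ a ∈ P', g = tens a) ∨
      ∃ a ∈ P', g = hh * tens a) {K' : Subgroup (V ≃ₗ[F] V)} (hK' : K' ≤ Subgroup.closure {u} ⊔ K) : Red B K' := by
  obtain ⟨t, ht, htt, ht1, htn, htK⟩ := exists_invol_of_red hF.two hδ hβ hP' hR
  have hneg : tens (LinearEquiv.neg F) = LinearEquiv.neg F := by
    rw [neg_eq_smul, h.tens_smul, neg_eq_smul]
  have hpm : ∀ a ∈ P', tens a ∈ nrm (tens t) := by
    intro a ha
    rcases htK a ha with h4 | h4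
    · left
      rw [← map_mul, ← map_inv, ← map_mul, h4]
    · right
      rw [← map_mul, ← map_inv, ← map_mul, h4, map_mul, hneg]
  have hZ : Subgroup.closure {u} ⊔ K ≤ nrm (tens t) := by
    refine sup_le ((Subgroup.closure_le _).2 (Set.singleton_subset_iff.2 (Or.inl ?_))) ?_
    · rw [← h.ct, mul_inv_cancel_right]
    · intro g hg
      rcases hK g hg with ⟨-, h5⟩ | ⟨a, ha, rfl⟩ | ⟨a, ha, rfl⟩
      · left
        rw [h5, mul_inv_cancel_right]
      · exact hpm a ha
      · refine (nrm (tens t)).mul_mem (Or.inl ?_) (hpm a ha)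
        rw [← h.hht, mul_inv_cancel_right]
  exact Cfsg.Agent.H957.FR.red_of_invol hF.two hF.symm hF.nondeg (t := tens t) (h.isom t ht)
    (by rw [← map_mul, htt, map_one]) (fun h4 => ht1 (hinj (by rw [h4, map_one])))
    (fun h4 => htn (hinj (by rw [h4, hneg]))) fun g hg => hZ (hK' hg)

/-- **FR-UNI** -/
theorem cov_uni [Finite F] [FiniteDimensional F V] (hF : Fm B ε) (hI : ∀ m < finrank F V, Hyp.{u} m)
    {u : V ≃ₗ[F] V} (hu : u ∈ Isom B) (hu1 : u ≠ 1) (huo : Odd (orderOf u))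
    (hun : ∃ a : ℕ, u ^ (ringChar F) ^ a = 1) {P : Subgroup (V ≃ₗ[F] V)} (hPB : P ≤ Isom B)
    (hP2 : IsPGroup 2 P) (act : ∀ g ∈ P, g * u * g⁻¹ = u ∨ g * u * g⁻¹ = u⁻¹) : Cov B ε u P := by
  have hgl := finite_gl (F := F) (V := V)
  have huu := ne_inv_of_odd hu1 huo
  have hnil : IsNilpotent (((u : V →ₗ[F] V) : End F V) - 1) := by
    obtain ⟨n, hn⟩ := hun
    exact nilpotent_of_pow hn
  have hcard : (Nat.card P : F) ≠ 0 := by
    have : Fact (Nat.Prime 2) := ⟨Nat.prime_two⟩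
    obtain ⟨n, hn⟩ := IsPGroup.iff_card.1 hP2
    rw [hn]
    push_cast
    exact pow_ne_zero _ hF.two
  have hεε : ε * ε = 1 := by
    rcases hF.eps with h | ⟨h, -⟩ <;> rw [h] <;> ring
  rcases uni1 hF.two hεε hF.symm hF.nondeg hu hu1 hnil hcard hPB act with h | ⟨N, k, M, hN, hM, hMR, hact⟩
  · exact Cfsg.Agent.H76.FR.cov_of_red hF hI hu hPB h
  have hDt := dt_of (ε := ε) hM hN hF.symm hF.nondeg
  have hIn : ∀ g ∈ P, InP k M (bet B N k M) hM.tens hM.hh g := fun g hg =>
    hM.mem_cases hMR hPB hg ((hact g hg).imp And.right And.right)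
  have hV0 : 0 < finrank F V := by
    rw [Nat.pos_iff_ne_zero]
    intro h
    have := Module.finrank_zero_iff.1 h
    exact hu1 (LinearEquiv.ext fun v => Subsingleton.elim _ _)
  have hM0 : 0 < finrank F M := by
    rw [Nat.pos_iff_ne_zero]
    intro h6
    have h3 := hM.finrank_eq
    rw [h6, mul_zero] at h3
    omega
  have hlt : finrank F M < finrank F V := by
    have h3 := hM.finrank_eq
    have h4 := hM.hk
    nlinarith
  have hk0 : k ≠ 0 := by
    have := hM.hk
    omega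
  rcases Nat.even_or_odd k with hk | hk
  swap
  · exact cov_odd hF hk hDt hu hu1 huo (hI _ hlt) hIn
  have hodd : Nat.card F % 4 = 1 ∨ Nat.card F % 4 = 3 := by
    have := Fintype.ofFinite F
    have h3 : Nat.card F % 2 = 1 := by
      rw [Nat.card_eq_fintype_card]
      refine FiniteField.odd_card_of_char_ne_two fun h => hF.two ?_
      have := ringChar.Nat.cast_ringChar (R := F)
      rw [h] at this
      exact_mod_cast this
    omega
  rcases hodd with hq | hq
  · exact cov_even hF hk hk0 hq hDt hu hu1 huo (hI _ hlt) hIn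
  have hε1 : ε = 1 := by
    rcases hF.eps with h | ⟨-, h⟩
    · exact h
    · omega
  subst hε1
  have htm : ∀ (a : M ≃ₗ[F] M) (x : M), hM.tens a (x : V) = (a x : M) := hM.tens_coe
  have hinj := tens_inj htm
  have hk1 : ((-1 : F)) ^ (k - 1) = -1 := by
    obtain ⟨j, rfl⟩ := hk
    refine Odd.neg_one_pow ⟨j - 1, ?_⟩
    omega
  have hβ : ∀ x y, bet B N k M x y = - bet B N k M y x := fun x y => by rw [hDt.sym, hk1]; ring
  have hM2 : 2 ≤ finrank F M := two_le hF.two hβ hDt.nd (by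
    have : Nontrivial M := Module.finrank_pos_iff.1 hM0
    exact exists_ne 0)
  by_cases h3 : 3 ≤ finrank F M
  · have hhne := hh_ne hDt hu1 huo
    have hPm : ∀ a ∈ Pm hDt P, ∃ s : F, ∀ x y, bet B N k M (a x) (a y) = s * bet B N k M x y := by
      rintro a (ha | ha)
      · rcases hIn _ ha with ⟨a', h3, h4⟩ | ⟨b, -, h4⟩
        · rw [hinj h4]
          exact ⟨1, fun x y => by rw [one_mul]; exact h3 x y⟩
        · exfalso
          apply hhne (a * b⁻¹)
          rw [map_mul, h4, map_inv, mul_inv_cancel_right]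
      · rcases hIn _ ha with ⟨a', -, h4⟩ | ⟨b, h3, h4⟩
        · exfalso
          apply hhne (a' * a⁻¹)
          rw [map_mul, ← h4, map_inv, mul_inv_cancel_right]
        · have h6 : a = b := hinj (mul_left_cancel h4)
          rw [h6]
          exact ⟨(-1) ^ (k - 1), h3⟩
    have hRed := Cfsg.Agent.H957.FR.symp_pair hF.two hβ hDt.nd h3 (Pm hDt P) (Pm_two hDt htm hP2) hPm
    refine Cfsg.Agent.H76.FR.cov_of_red hF hI hu hPB ?_
    refine red_lift (δ := -1) hF hDt hinj (neg_ne_zero.2 one_ne_zero)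
      (fun x y => by rw [neg_one_mul]; exact hβ x y) hPm hRed (K := P) (fun g hg => Or.inr ?_) le_rfl
    rcases hIn g hg with ⟨a, -, rfl⟩ | ⟨b, -, rfl⟩
    · exact Or.inl ⟨a, Or.inl hg, rfl⟩
    · exact Or.inr ⟨b, Or.inr hg, rfl⟩
  · have h4 : finrank F M = 2 := by omega
    refine cov_plane hF hk hk0 hq h4 hDt hinj ?_ hu hu1 huo hP2 hIn
    intro b hb x y
    have h5 := (hM.tens_form b (-1)).2 (fun x y => by rw [neg_one_mul]; exact hb x y) x y
    rw [h5, neg_one_mul]

end Cfsg.Agent.H138.FR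
end
end

-- part: H168/FRHex/ShortMain_mg
section
prune_inst 0x1400040016200000000059491001c0684000102002800009820014004021b08400281610c003810000a081000000060004c04c00040000004000000002007090008100000400008a00010000084000000000000000000000000000000041004200400000
set_option linter.all false
open scoped Cfsg.Agent.FastGrp

-- part: H168/FRHex/Mono
section
/-!
# Monomial characters with values `±1` (team SR, S4970; helper168)

* `mono` : an irreducible character which contains a sign character of `A` satisfying Mackey's criterion has indicator one.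
* `exists_sign` : sign characters of `A` extending a given one.
-/

set_option autoImplicit false

universe u

namespace Cfsg.Agent.H168.FRHex

open Cfsg Cfsg.Agent.H955.FS
open Cfsg.Agent.Characters.Core
open scoped ComplexConjugate

/-- **Monomial characters.** -/
theorem mono {G : Type u} [Group G] [Finite G] (A : Subgroup G) (lam : A → ℂ)
    (hlam : ∀ a b : A, lam (a * b) = lam a * lam b) (hpm : ∀ a, lam a = 1 ∨ lam a = -1)
    (hM : ∀ g : G, g ∉ A → ∃ (a : A) (h : g * a * g⁻¹ ∈ A), lam ⟨g * a * g⁻¹, h⟩ ≠ lam a)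
    {χ : G → ℂ} (hχ : IsIrrCharacter G χ) (hover : ∑ᶠ a : A, χ a * lam a ≠ 0) : fsi χ = 1 := by
  classical
  have := Fintype.ofFinite G
  have := Fintype.ofFinite A
  have hll : ∀ a, lam a * lam a = 1 := by
    intro a
    rcases hpm a with h | h <;> rw [h] <;> norm_num
  have hconj : ∀ a, conj (lam a) = lam a := by
    intro a
    rcases hpm a with h | h <;> rw [h] <;> simp only [_root_.map_one, _root_.map_neg]
  let f : A →* ℂˣ := MonoidHom.mk' (fun a => ⟨lam a, lam a, hll a, hll a⟩) fun a b =>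
    Units.ext (hlam a b)
  have hf : ∀ a, ((f a : ℂˣ) : ℂ) = lam a := fun a => rfl
  have hirr : IsIrrCharacter G (indFun A lam) := by
    refine Cfsg.Agent.CharactersDeep.MackeyLinear.isIrrCharacter_indFun A f fun x hx => ?_
    obtain ⟨a, ha, hne⟩ := hM x⁻¹ (fun h => hx ((inv_mem_iff).1 h))
    have e : x⁻¹ * (a : G) * x⁻¹⁻¹ = x⁻¹ * a * x := by rw [inv_inv]
    refine ⟨a, by rw [← e]; exact ha, fun h => hne ?_⟩
    have h1 := congrArg (fun z : ℂˣ => (z : ℂ)) h
    simp only [hf] at h1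
    rw [h1]
    congr 1
    exact Subtype.ext e
  have hlamI : IsIrrCharacter A lam := isIrr_sign lam hlam hpm
  have hne : classInner (indFun A lam) χ ≠ 0 := by
    rw [CharactersDeep.NormalInd.classInner_indFun A lam χ (isIrr_isClassFunction hχ), classInner_def]
    refine mul_ne_zero (inv_ne_zero card_ne_zero_complex) fun h0 => hover ?_
    rw [finsum_eq_sum_of_fintype]
    have h1 : ∑ a : A, χ a * lam a = conj (∑ a : A, lam a * conj (χ a)) := by
      rw [map_sum]
      refine Finset.sum_congr rfl fun a _ => ?_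
      rw [map_mul, hconj, Complex.conj_conj, mul_comm]
    rw [h1, h0, map_zero]
  have heq : indFun A lam = χ := by
    by_contra h
    exact hne (classInner_irr_ne hirr hχ h)
  have hreal : ∀ g, (χ g).im = 0 := by
    intro g
    rw [← heq, ← Complex.conj_eq_iff_im]
    have h2 : (fun a => conj (lam a)) = lam := funext hconj
    have h3 := indFun_conj A lam
    rw [h2] at h3
    exact (congrFun h3 g).symm
  have hmult : classInner (fun a : A => χ (A.subtype a)) lam = 1 := by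
    have h1 := CharactersDeep.NormalInd.classInner_indFun A lam χ (isIrr_isClassFunction hχ)
    rw [heq, classInner_irr_self hχ] at h1
    rw [← classInner_conj_symm]
    show conj (classInner lam fun a : A => χ a) = 1
    rw [← h1, map_one]
  rw [fsi_eq_sum_c]
  refine Cfsg.Agent.H705.Indicator.indicator_restrict A.subtype hχ hreal hlamI ?_ hmult
  have h4 : ∀ a : A, lam (a * a) = 1 := fun a => by rw [hlam, hll]
  simp_rw [h4]
  rw [Finset.sum_const, Finset.card_univ, ← Nat.card_eq_fintype_card, nsmul_eq_mul, mul_one,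
    inv_mul_cancel₀ card_ne_zero_complex]

/-- Monomial characters, for subgroups of an ambient group. -/
theorem mono_amb {Γ : Type u} [Group Γ] (X A : Subgroup Γ) [Finite X] (hAX : A ≤ X) (lam : Γ → ℂ)
    (hlam : ∀ a ∈ A, ∀ b ∈ A, lam (a * b) = lam a * lam b) (hpm : ∀ a ∈ A, lam a = 1 ∨ lam a = -1)
    (hM : ∀ g ∈ X, g ∉ A → ∃ a ∈ A, g * a * g⁻¹ ∈ A ∧ lam (g * a * g⁻¹) ≠ lam a)
    {χ : X → ℂ} (hχ : IsIrrCharacter X χ) (hover : ∑ᶠ a : A, χ ⟨a, hAX a.2⟩ * lam a ≠ 0) : fsi χ = 1 := by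
  refine mono (A.subgroupOf X) (fun a => lam (a : X)) ?_ ?_ ?_ hχ ?_
  · intro a b
    exact hlam _ (Subgroup.mem_subgroupOf.1 a.2) _ (Subgroup.mem_subgroupOf.1 b.2)
  · intro a
    exact hpm _ (Subgroup.mem_subgroupOf.1 a.2)
  · intro g hg
    obtain ⟨a, ha, hga, hne⟩ := hM g g.2 (fun h => hg (Subgroup.mem_subgroupOf.2 h))
    exact ⟨⟨⟨a, hAX ha⟩, Subgroup.mem_subgroupOf.2 ha⟩, Subgroup.mem_subgroupOf.2 hga, hne⟩
  · intro h
    apply hover
    rw [← h]
    let e : A ≃ A.subgroupOf X := (Subgroup.subgroupOfEquivOfLe hAX).symm.toEquiv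
    exact finsum_eq_of_bijective e e.bijective (fun a => rfl)

/-- **Existence of sign characters.** `f` a function on `A`, `Z ≤ A`, `lam` a sign character of `Z`, trivial on the
squares of elements of `A`. -/
theorem exists_sign {A : Type u} [Group A] [Finite A] (Z : Subgroup A) (lam : A → ℂ)
    (hlam : ∀ a ∈ Z, ∀ b ∈ Z, lam (a * b) = lam a * lam b) (hpm : ∀ a ∈ Z, lam a = 1 ∨ lam a = -1)
    (hsq : ∀ a : A, a * a ∈ Z ∧ lam (a * a) = 1) (f : A → ℂ) (hf : ∑ᶠ z : Z, f z * lam z ≠ 0) :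
    ∃ mu : A → ℂ, (∀ a b, mu (a * b) = mu a * mu b) ∧ (∀ a, mu a = 1 ∨ mu a = -1) ∧ (∀ z ∈ Z, mu z = lam z) ∧
      ∑ᶠ a : A, f a * mu a ≠ 0 := by
  classical
  have := Fintype.ofFinite A
  have := Fintype.ofFinite Z
  -- the kernel
  have hone : lam 1 = 1 := by
    have h := hlam 1 (one_mem _) 1 (one_mem _)
    rw [mul_one] at h
    rcases hpm 1 (one_mem _) with h1 | h1
    · exact h1
    · rw [h1] at h; norm_num at h
  have hll : ∀ z ∈ Z, lam z * lam z = 1 := by
    intro z hz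
    rcases hpm z hz with h | h <;> rw [h] <;> norm_num
  let D : Subgroup A :=
    { carrier := {z | z ∈ Z ∧ lam z = 1}
      mul_mem' := fun {a b} ha hb => ⟨mul_mem ha.1 hb.1, by rw [hlam a ha.1 b hb.1, ha.2, hb.2, mul_one]⟩
      one_mem' := ⟨one_mem _, hone⟩
      inv_mem' := fun {a} ha => ⟨inv_mem ha.1, by
        have h1 := hlam a ha.1 a⁻¹ (inv_mem ha.1)
        rw [mul_inv_cancel, hone, ha.2, one_mul] at h1
        exact h1.symm⟩ }
  have hD : ∀ z, z ∈ D ↔ z ∈ Z ∧ lam z = 1 := fun z => Iff.rfl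
  have hsq' : ∀ a : A, a * a ∈ D := fun a => hsq a
  have hnorm : D.Normal := by
    refine ⟨fun z hz a => ?_⟩
    have h1 : a * z * a⁻¹ = (a * z) * (a * z) * z⁻¹ * (a⁻¹ * a⁻¹) := by group
    rw [h1]
    exact mul_mem (mul_mem (hsq' _) (inv_mem hz)) (hsq' _)
  have hcomm : ∀ x y : A ⧸ D, x * y = y * x := by
    have h1 : ∀ x : A ⧸ D, x * x = 1 := by
      intro x
      obtain ⟨a, rfl⟩ := QuotientGroup.mk_surjective x
      rw [← QuotientGroup.mk_mul]
      exact (QuotientGroup.eq_one_iff _).2 (hsq' a)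
    intro x y
    have h2 := h1 (x * y)
    calc x * y = x * ((x * y) * (x * y)) * y := by rw [h2, mul_one]
      _ = (x * x) * (y * x) * (y * y) := by group
      _ = y * x := by rw [h1, h1, one_mul, mul_one]
  let inst : CommGroup (A ⧸ D) := { (inferInstance : Group (A ⧸ D)) with mul_comm := hcomm }
  have hfin : Finite (A ⧸ D) := inferInstance
  have := Fintype.ofFinite (A ⧸ D)
  let cf : AddChar (Additive (A ⧸ D)) ℂ → A → ℂ := fun l a => l (Additive.ofMul (a : A ⧸ D))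
  have cm : ∀ l a b, cf l (a * b) = cf l a * cf l b := fun l a b => by
    simp only [cf]
    rw [QuotientGroup.mk_mul, ofMul_mul, AddChar.map_add_eq_mul]
  have cD : ∀ l, ∀ a ∈ D, cf l a = 1 := fun l a ha => by
    simp only [cf]
    rw [(QuotientGroup.eq_one_iff _).2 ha, ofMul_one, AddChar.map_zero_eq_one]
  have cpm : ∀ l a, cf l a = 1 ∨ cf l a = -1 := fun l a => by
    have h3 : cf l a * cf l a = 1 := by rw [← cm, cD l _ (hsq' a)]
    exact mul_self_eq_one_iff.1 h3
  -- the total sum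
  have key : ∑ l : AddChar (Additive (A ⧸ D)) ℂ, (∑ z : Z, lam z * cf l z) * (∑ a : A, f a * cf l a) ≠ 0 := by
    have h3 : ∀ a : A, ∑ l : AddChar (Additive (A ⧸ D)) ℂ, cf l a =
        if a ∈ D then (Fintype.card (Additive (A ⧸ D)) : ℂ) else 0 := by
      intro a
      have := AddChar.sum_apply_eq_ite (Additive.ofMul (a : A ⧸ D)) (α := Additive (A ⧸ D))
      simp only [cf]
      rw [this]
      congr 1
      rw [eq_iff_iff, ← QuotientGroup.eq_one_iff, ofMul_eq_zero]
    have h4 : ∑ l : AddChar (Additive (A ⧸ D)) ℂ, (∑ z : Z, lam z * cf l z) * (∑ a : A, f a * cf l a) =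
        ∑ z : Z, ∑ a : A, lam z * f a * ∑ l : AddChar (Additive (A ⧸ D)) ℂ, cf l ((z : A) * a) := by
      simp_rw [Finset.sum_mul_sum, Finset.mul_sum, cm]
      rw [Finset.sum_comm]
      refine Finset.sum_congr rfl fun z _ => ?_
      rw [Finset.sum_comm]
      refine Finset.sum_congr rfl fun a _ => Finset.sum_congr rfl fun l _ => ?_
      ring
    rw [h4]
    have h5 : ∀ z : Z, ∑ a : A, lam z * f a * (if (z : A) * a ∈ D then (Fintype.card (Additive (A ⧸ D)) : ℂ) else 0) =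
        (Fintype.card (Additive (A ⧸ D)) : ℂ) *
          ∑ a : A, if (z : A) * a ∈ D then lam a * f a else 0 := by
      intro z
      rw [Finset.mul_sum]
      refine Finset.sum_congr rfl fun a _ => ?_
      split_ifs with h
      · have ha : a ∈ Z := by
          have := mul_mem (inv_mem z.2) h.1
          rwa [inv_mul_cancel_left] at this
        have e1 : lam z = lam a := by
          have h6 := h.2
          rw [hlam z z.2 a ha] at h6
          have h7 := hll a ha
          calc lam z = lam z * (lam a * lam a) := by rw [h7, mul_one]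
            _ = (lam z * lam a) * lam a := by ring
            _ = lam a := by rw [h6, one_mul]
        rw [e1]; ring
      · ring
    simp_rw [h3, h5]
    rw [← Finset.mul_sum, Finset.sum_comm]
    have h6 : ∀ a : A, ∑ z : Z, (if (z : A) * a ∈ D then lam a * f a else 0) =
        if a ∈ Z then (Nat.card D : ℂ) * (lam a * f a) else 0 := by
      intro a
      rw [← Finset.sum_filter, Finset.sum_const, nsmul_eq_mul]
      split_ifs with ha
      · congr 2
        rw [Nat.card_eq_fintype_card, Fintype.card_subtype]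
        refine Finset.card_bij (fun z _ => (z : A) * a) ?_ ?_ ?_
        · intro z hz
          rw [Finset.mem_filter] at hz ⊢
          exact ⟨Finset.mem_univ _, hz.2⟩
        · intro z _ z' _ e
          exact Subtype.ext (mul_right_cancel e)
        · intro d hd
          rw [Finset.mem_filter] at hd
          refine ⟨⟨d * a⁻¹, mul_mem hd.2.1 (inv_mem ha)⟩, ?_, by simp⟩
          rw [Finset.mem_filter]
          exact ⟨Finset.mem_univ _, by simpa using hd.2⟩
      · have : (Finset.filter (fun z : Z => (z : A) * a ∈ D) Finset.univ) = ∅ := by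
          refine Finset.filter_eq_empty_iff.2 fun {z} _ h => ha ?_
          have := mul_mem (inv_mem z.2) h.1
          rwa [inv_mul_cancel_left] at this
        rw [this]
        simp
    simp_rw [h6]
    rw [← Finset.sum_filter, ← Finset.mul_sum]
    refine mul_ne_zero ?_ (mul_ne_zero ?_ ?_)
    · exact_mod_cast Fintype.card_ne_zero
    · exact_mod_cast Nat.card_pos.ne'
    · intro h0
      apply hf
      rw [finsum_eq_sum_of_fintype, ← h0,
        Finset.sum_subtype (Finset.univ.filter (fun a : A => a ∈ Z)) (p := fun a : A => a ∈ Z) (fun a => by simp)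
          (fun a : A => lam a * f a)]
      exact Finset.sum_congr rfl fun z _ => mul_comm _ _
  obtain ⟨l, -, hl⟩ := Finset.exists_ne_zero_of_sum_ne_zero key
  refine ⟨cf l, cm l, cpm l, ?_, ?_⟩
  · -- `cf l = lam` on `Z`
    have h1 : ∑ z : Z, lam z * cf l z ≠ 0 := left_ne_zero_of_mul hl
    intro z hz
    have h2 : ∑ y : Z, lam y * cf l y = (lam z * cf l z) * ∑ y : Z, lam y * cf l y := by
      rw [Finset.mul_sum]
      refine (Fintype.sum_equiv (Equiv.mulLeft (⟨z, hz⟩ : Z)) _ _ fun y => ?_).symm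
      show lam z * cf l z * (lam y * cf l y) = lam (z * y) * cf l (z * y)
      rw [hlam z hz y y.2, cm]
      ring
    have h3 : lam z * cf l z = 1 := by
      have h4 : (lam z * cf l z - 1) * ∑ y : Z, lam y * cf l y = 0 := by
        rw [sub_mul, one_mul, ← h2, sub_self]
      rcases mul_eq_zero.1 h4 with h5 | h5
      · exact sub_eq_zero.1 h5
      · exact absurd h5 h1
    calc cf l z = (lam z * lam z) * cf l z := by rw [hll z hz, one_mul]
      _ = lam z * (lam z * cf l z) := by ring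
      _ = lam z := by rw [h3, mul_one]
  · rw [finsum_eq_sum_of_fintype]
    exact right_ne_zero_of_mul hl

end Cfsg.Agent.H168.FRHex
end

-- part: H168/FRHex/Sign
section
/-!
# Sign characters (team SR, S4970; helper168)

* `exists_sign_amb` : ambient form of `exists_sign`;
* `dich` : an irreducible character is constant on a subgroup of exponent two or contains a non-trivial sign character;
* `conj_over` : conjugate sign characters;
* `dual` : additive sign characters of a finite field.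
-/

set_option autoImplicit false

universe u

namespace Cfsg.Agent.H168.FRHex

open Cfsg Cfsg.Agent.H955.FS
open Cfsg.Agent.Characters.Core
open scoped ComplexConjugate

theorem exists_sign_amb {Γ : Type u} [Group Γ] (X A Z : Subgroup Γ) [Finite X] (hAX : A ≤ X) (hZA : Z ≤ A)
    (lam : Γ → ℂ) (hlam : ∀ a ∈ Z, ∀ b ∈ Z, lam (a * b) = lam a * lam b) (hpm : ∀ a ∈ Z, lam a = 1 ∨ lam a = -1)
    (hsq : ∀ a ∈ A, a * a ∈ Z ∧ lam (a * a) = 1) (f : X → ℂ)
    (hf : ∑ᶠ z : Z, f ⟨z, hAX (hZA z.2)⟩ * lam z ≠ 0) :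
    ∃ mu : Γ → ℂ, (∀ a ∈ A, ∀ b ∈ A, mu (a * b) = mu a * mu b) ∧ (∀ a ∈ A, mu a = 1 ∨ mu a = -1) ∧
      (∀ z ∈ Z, mu z = lam z) ∧ ∑ᶠ a : A, f ⟨a, hAX a.2⟩ * mu a ≠ 0 := by
  classical
  have : Finite A := Finite.of_injective (Subgroup.inclusion hAX) (Subgroup.inclusion_injective hAX)
  obtain ⟨mu, h1, h2, h3, h4⟩ := exists_sign (Z.subgroupOf A) (fun a => lam (a : A))
    (fun a ha b hb => hlam _ (Subgroup.mem_subgroupOf.1 ha) _ (Subgroup.mem_subgroupOf.1 hb))
    (fun a ha => hpm _ (Subgroup.mem_subgroupOf.1 ha))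
    (fun a => ⟨Subgroup.mem_subgroupOf.2 (hsq a a.2).1, (hsq a a.2).2⟩) (fun a => f ⟨a, hAX a.2⟩) (by
      intro h0
      apply hf
      rw [← h0]
      let e : Z ≃ Z.subgroupOf A := (Subgroup.subgroupOfEquivOfLe hZA).symm.toEquiv
      exact finsum_eq_of_bijective e e.bijective (fun a => rfl))
  let mu' : Γ → ℂ := fun g => if hg : g ∈ A then mu ⟨g, hg⟩ else 0
  have hmu : ∀ (g : Γ) (hg : g ∈ A), mu' g = mu ⟨g, hg⟩ := fun g hg => dif_pos hg
  refine ⟨mu', ?_, ?_, ?_, ?_⟩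
  · intro a ha b hb
    rw [hmu a ha, hmu b hb, hmu _ (mul_mem ha hb), ← h1]
    rfl
  · intro a ha
    rw [hmu a ha]
    exact h2 _
  · intro z hz
    rw [hmu z (hZA hz), h3 _ (Subgroup.mem_subgroupOf.2 hz)]
  · intro h0
    apply h4
    rw [← h0]
    refine finsum_congr fun a => ?_
    rw [hmu a a.2]

/-- **Dichotomy.** -/
theorem dich {Γ : Type u} [Group Γ] (X Z : Subgroup Γ) [Finite X] (hZX : Z ≤ X) (hZ2 : ∀ z ∈ Z, z * z = 1)
    (f : X → ℂ) :
    (∃ lam : Γ → ℂ, (∀ a ∈ Z, ∀ b ∈ Z, lam (a * b) = lam a * lam b) ∧ (∀ a ∈ Z, lam a = 1 ∨ lam a = -1) ∧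
      (∃ z ∈ Z, lam z ≠ 1) ∧ ∑ᶠ z : Z, f ⟨z, hZX z.2⟩ * lam z ≠ 0) ∨
    ∀ (z : Γ) (hz : z ∈ Z), f ⟨z, hZX hz⟩ = f 1 := by
  classical
  by_contra hcon
  push Not at hcon
  obtain ⟨h1, z0, hz0, h2⟩ := hcon
  have hfZ : Finite Z := Finite.of_injective (Subgroup.inclusion hZX) (Subgroup.inclusion_injective hZX)
  have := Fintype.ofFinite Z
  let g0 : Z := ⟨z0, hz0⟩
  let F : X → ℂ := fun y => if hy : (y : Γ) ∈ Z then f y - f (y * ⟨z0, hZX hz0⟩) else 0
  have hF : ∀ z : Z, F ⟨z, hZX z.2⟩ = f ⟨z, hZX z.2⟩ - f ⟨(z : Γ) * z0, hZX (mul_mem z.2 hz0)⟩ := fun z =>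
    dif_pos z.2
  obtain ⟨mu, m1, m2, -, m4⟩ := exists_sign_amb X Z ⊥ hZX bot_le (fun _ => 1) (fun _ _ _ _ => by norm_num)
    (fun _ _ => Or.inl rfl) (fun a ha => ⟨by rw [hZ2 a ha]; exact one_mem _, rfl⟩) F (by
      rw [finsum_eq_single _ (1 : (⊥ : Subgroup Γ)) (fun z hz => absurd (Subsingleton.elim z 1) hz)]
      rw [mul_one]
      have := hF 1
      intro h0
      apply h2
      have e1 : F ⟨((1 : (⊥ : Subgroup Γ)) : Γ), hZX (bot_le (a := Z) (1 : (⊥ : Subgroup Γ)).2)⟩ = F ⟨((1 : Z) : Γ), hZX (1 : Z).2⟩ := rfl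
      rw [e1, this] at h0
      have e2 : (⟨((1 : Z) : Γ), hZX (1 : Z).2⟩ : X) = 1 := rfl
      have e3 : (⟨((1 : Z) : Γ) * z0, hZX (mul_mem (1 : Z).2 hz0)⟩ : X) = ⟨z0, hZX hz0⟩ := Subtype.ext (one_mul z0)
      rw [e2, e3] at h0
      exact (sub_eq_zero.1 h0).symm)
  rw [finsum_eq_sum_of_fintype] at m4
  have hz1 : mu z0 * mu z0 = 1 := by
    rcases m2 z0 hz0 with h | h <;> rw [h] <;> norm_num
  have e4 : ∑ z : Z, F ⟨z, hZX z.2⟩ * mu z = (1 - mu z0) * ∑ z : Z, f ⟨z, hZX z.2⟩ * mu z := by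
    have e5 : ∑ z : Z, f ⟨(z : Γ) * z0, hZX (mul_mem z.2 hz0)⟩ * mu z = mu z0 * ∑ z : Z, f ⟨z, hZX z.2⟩ * mu z := by
      rw [Finset.mul_sum]
      refine Fintype.sum_equiv (Equiv.mulRight g0) _ _ fun z => ?_
      have e6 : mu ((z : Γ) * z0) = mu z * mu z0 := m1 z z.2 z0 hz0
      show f ⟨(z : Γ) * z0, _⟩ * mu z = mu z0 * (f ⟨(z : Γ) * z0, _⟩ * mu ((z : Γ) * z0))
      rw [e6]
      calc f ⟨(z : Γ) * z0, _⟩ * mu z = f ⟨(z : Γ) * z0, _⟩ * mu z * (mu z0 * mu z0) := by rw [hz1, mul_one]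
        _ = _ := by ring
    simp_rw [hF, sub_mul, Finset.sum_sub_distrib, e5, one_mul]
  rw [e4] at m4
  have h5 := h1 mu m1 m2 ⟨z0, hz0, fun h0 => m4 (by rw [h0, sub_self, zero_mul])⟩
  rw [finsum_eq_sum_of_fintype] at h5
  exact m4 (by rw [h5, mul_zero])

/-- conjugate sign characters -/
theorem conj_over {Γ : Type u} [Group Γ] (X Z : Subgroup Γ) [Finite X] (hZX : Z ≤ X) {p : Γ} (hp : p ∈ X)
    (hpZ : ∀ z, z ∈ Z ↔ p * z * p⁻¹ ∈ Z) (lam : Γ → ℂ) {χ : X → ℂ} (hχ : IsIrrCharacter X χ)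
    (hf : ∑ᶠ z : Z, χ ⟨z, hZX z.2⟩ * lam z ≠ 0) :
    ∑ᶠ z : Z, χ ⟨z, hZX z.2⟩ * lam (p * z * p⁻¹) ≠ 0 := by
  intro h0
  apply hf
  rw [← h0]
  let e : Z ≃ Z :=
    { toFun := fun z => ⟨p⁻¹ * z * p, by
        rw [hpZ]
        have : p * (p⁻¹ * (z : Γ) * p) * p⁻¹ = z := by group
        rw [this]; exact z.2⟩
      invFun := fun z => ⟨p * z * p⁻¹, (hpZ z).1 z.2⟩
      left_inv := fun z => Subtype.ext (by show p * (p⁻¹ * (z : Γ) * p) * p⁻¹ = z; group)
      right_inv := fun z => Subtype.ext (by show p⁻¹ * (p * (z : Γ) * p⁻¹) * p = z; group) }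
  refine finsum_eq_of_bijective e e.bijective fun z => ?_
  have e1 : p * ((e z : Z) : Γ) * p⁻¹ = z := by
    show p * (p⁻¹ * (z : Γ) * p) * p⁻¹ = z
    group
  rw [e1]
  congr 1
  have h2 := isIrr_isClassFunction hχ ⟨z, hZX z.2⟩ ⟨p⁻¹, inv_mem hp⟩
  rw [← h2]
  congr 1
  apply Subtype.ext
  show (p⁻¹ * (z : Γ) * p⁻¹⁻¹) = p⁻¹ * (z : Γ) * p
  rw [inv_inv]

/-- **Duality** for additive sign characters of a finite field. -/
theorem dual {F : Type*} [Field F] [Finite F] (α β : F → ℂ) (hα : ∀ s t, α (s + t) = α s * α t)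
    (hβ : ∀ s t, β (s + t) = β s * β t) (hα1 : α 0 = 1) (hβ1 : β 0 = 1) (hβn : ∃ s, β s ≠ 1) :
    ∃ u, ∀ s, α s = β (u * s) := by
  classical
  have := Fintype.ofFinite F
  let a : AddChar F ℂ := { toFun := α, map_zero_eq_one' := hα1, map_add_eq_mul' := hα }
  let b : AddChar F ℂ := { toFun := β, map_zero_eq_one' := hβ1, map_add_eq_mul' := hβ }
  have hb : b ≠ 1 := by
    obtain ⟨s, hs⟩ := hβn
    intro e
    have h1 : b s = (1 : AddChar F ℂ) s := by rw [e]
    exact hs h1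
  have hp : b.IsPrimitive := AddChar.IsPrimitive.of_ne_one hb
  have hinj := AddChar.to_mulShift_inj_of_isPrimitive hp
  have hbij : Function.Bijective (fun u : F => b.mulShift u) := by
    have hf : Finite (AddChar F ℂ) := inferInstance
    have hc : Nat.card F = Nat.card (AddChar F ℂ) := by
      rw [Nat.card_eq_fintype_card (α := F), ← AddChar.card_eq (α := F)]
      exact (Nat.card_eq_fintype_card).symm
    exact (Nat.bijective_iff_injective_and_card _).2 ⟨hinj, hc⟩
  obtain ⟨u, hu⟩ := hbij.2 a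
  refine ⟨u, fun s => ?_⟩
  have h1 : b.mulShift u s = a s := by rw [← hu]
  rw [AddChar.mulShift_apply] at h1
  exact h1.symm

end Cfsg.Agent.H168.FRHex
end

-- part: H168/FRHex/Cover
section
/-!
# Applications of the covering principle (team SR, S4970; helper168)

* `ci_good` : groups in which the centralisers of the involutions have exponent two have no indicator `-1`;
* `inv_cover` : reduction to the centralisers of the involutions;
* `good_of_levi` : groups `X = N L`, `N` a normal 2-group, in which elements of odd order of `L` centralise only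
  a subgroup `C` of `N` which is centralised by `L`.
-/

set_option autoImplicit false

universe u

namespace Cfsg.Agent.H168.FRHex

open Cfsg Cfsg.Agent.H955.FS

/-- The centralisers of the involutions have exponent two. -/
def CI (L : Type u) [Group L] : Prop := ∀ t y : L, t * t = 1 → t ≠ 1 → t * y = y * t → y * y = 1

theorem CI.of_injective {L M : Type u} [Group L] [Group M] (f : L →* M) (hf : Function.Injective f) (h : CI M) :
    CI L := fun t y ht ht1 e => hf (by
  rw [map_mul, map_one]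
  exact h (f t) (f y) (by rw [← map_mul, ht, map_one]) (fun e1 => ht1 (hf (by rw [e1, map_one])))
    (by rw [← map_mul, e, map_mul]))

/-- groups of exponent two -/
theorem good_of_exp_two {P : Type u} [Group P] [Finite P] (h : ∀ y : P, y * y = 1) : FSGood True P := by
  refine (fsGood_of_compl (⊥ : Subgroup P) ?_ fun y _ => h y).mono fun _ => trivial
  rw [Subgroup.card_bot]
  exact odd_one

/-- a power of a non-trivial 2-element -/
theorem exists_sq_one {P : Type*} [Group P] {g : P} (hg : g ≠ 1) {n : ℕ} (hn : g ^ 2 ^ n = 1) :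
    ∃ k : ℕ, g ^ k ≠ 1 ∧ g ^ k * g ^ k = 1 := by
  induction n with
  | zero => exact absurd (by simpa using hn) hg
  | succ n ih =>
    by_cases h : g ^ 2 ^ n = 1
    · exact ih h
    · refine ⟨2 ^ n, h, ?_⟩
      rw [← pow_add, ← two_mul, ← pow_succ', hn]

/-- a normal subgroup of a finite 2-group contains a central involution -/
theorem exists_inv_center {P : Type*} [Group P] [Finite P] (hP : IsPGroup 2 P) (N : Subgroup P) [N.Normal]
    (hN : N ≠ ⊥) : ∃ z ∈ N, z ≠ 1 ∧ z * z = 1 ∧ ∀ g, g * z = z * g := by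
  have hf : Fact (Nat.Prime 2) := ⟨Nat.prime_two⟩
  have hc : IsPGroup 2 (ConjAct P) := hP.of_equiv ConjAct.toConjAct
  have hd : 2 ∣ Nat.card N := by
    obtain ⟨n, hn⟩ := IsPGroup.iff_card.1 (hP.to_subgroup N)
    rw [hn]
    refine dvd_pow_self 2 fun h0 => hN ?_
    rw [h0, pow_zero] at hn
    exact Subgroup.card_eq_one.1 hn
  obtain ⟨b, hb, hb1⟩ := hc.exists_fixed_point_of_prime_dvd_card_of_fixed_point N hd
    (a := (1 : N)) (fun g => smul_one g)
  have hbc : ∀ g : P, g * b = b * g := by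
    intro g
    have h1 := congrArg Subtype.val (hb (ConjAct.toConjAct g))
    have h2 : g * b * g⁻¹ = b := h1
    rw [mul_inv_eq_iff_eq_mul] at h2
    exact h2
  obtain ⟨n, hn⟩ := hP (b : P)
  obtain ⟨k, h1, h2⟩ := exists_sq_one (g := (b : P)) (fun e => hb1 (Subtype.ext e.symm)) hn
  refine ⟨(b : P) ^ k, pow_mem b.2 k, h1, h2, fun g => ?_⟩
  exact (Commute.pow_right (hbc g : Commute g b) k).eq

/-- the group `⟨c⟩ P` if no element of `P` except `1` commutes with `c` -/
theorem good_dih {G : Type u} [Group G] [Finite G] (c : G) (hc : Odd (orderOf c)) (P : Subgroup G)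
    (hcP : ∀ g ∈ P, g * c * g⁻¹ = c ∨ g * c * g⁻¹ = c⁻¹) (h0 : ∀ g ∈ P, g * c * g⁻¹ = c → g = 1) :
    ∃ Y : Subgroup G, c ∈ Y ∧ P ≤ Y ∧ FSGood True Y := by
  -- the group of all elements `c ^ i g`
  let Y : Subgroup G :=
    { carrier := {y | ∃ i : ℤ, ∃ g ∈ P, y = c ^ i * g}
      mul_mem' := by
        rintro _ _ ⟨i, g, hg, rfl⟩ ⟨j, g', hg', rfl⟩
        rcases hcP g hg with h1 | h1
        · refine ⟨i + j, g * g', mul_mem hg hg', ?_⟩
          have h2 : g * c ^ j * g⁻¹ = c ^ j := by rw [← conj_zpow, h1]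
          calc c ^ i * g * (c ^ j * g') = c ^ i * (g * c ^ j * g⁻¹) * (g * g') := by group
            _ = _ := by rw [h2, zpow_add]
        · refine ⟨i - j, g * g', mul_mem hg hg', ?_⟩
          have h2 : g * c ^ j * g⁻¹ = c ^ (-j) := by rw [← conj_zpow, h1, inv_zpow, zpow_neg]
          calc c ^ i * g * (c ^ j * g') = c ^ i * (g * c ^ j * g⁻¹) * (g * g') := by group
            _ = _ := by rw [h2, sub_eq_add_neg, zpow_add]
      one_mem' := ⟨0, 1, one_mem _, by simp⟩
      inv_mem' := by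
        rintro _ ⟨i, g, hg, rfl⟩
        rcases hcP g⁻¹ (inv_mem hg) with h1 | h1
        · refine ⟨-i, g⁻¹, inv_mem hg, ?_⟩
          have h2 : g⁻¹ * c ^ (-i) * g⁻¹⁻¹ = c ^ (-i) := by rw [← conj_zpow, h1]
          calc (c ^ i * g)⁻¹ = (g⁻¹ * c ^ (-i) * g⁻¹⁻¹) * g⁻¹ := by group
            _ = _ := by rw [h2]
        · refine ⟨i, g⁻¹, inv_mem hg, ?_⟩
          have h2 : g⁻¹ * c ^ (-i) * g⁻¹⁻¹ = c ^ i := by rw [← conj_zpow, h1, inv_zpow, zpow_neg, inv_inv]
          calc (c ^ i * g)⁻¹ = (g⁻¹ * c ^ (-i) * g⁻¹⁻¹) * g⁻¹ := by group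
            _ = _ := by rw [h2] }
  have hY : ∀ y, y ∈ Y ↔ ∃ i : ℤ, ∃ g ∈ P, y = c ^ i * g := fun y => Iff.rfl
  refine ⟨Y, ⟨1, 1, one_mem _, by simp⟩, fun g hg => ⟨0, g, hg, by simp⟩, ?_⟩
  let C : Subgroup Y := (Subgroup.zpowers c).subgroupOf Y
  have hCY : Subgroup.zpowers c ≤ Y := by
    rw [Subgroup.zpowers_le]
    exact ⟨1, 1, one_mem _, by simp⟩
  have hC : Odd (Nat.card C) := by
    rw [Nat.card_congr (Subgroup.subgroupOfEquivOfLe hCY).toEquiv, Nat.card_zpowers]
    exact hc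
  refine (fsGood_of_compl C hC ?_).mono fun _ => trivial
  rintro ⟨y, hy⟩ hyC
  obtain ⟨i, g, hg, rfl⟩ := (hY y).1 hy
  have hg1 : g ≠ 1 := by
    rintro rfl
    exact hyC (Subgroup.mem_subgroupOf.2 (by
      show c ^ i * 1 ∈ Subgroup.zpowers c
      rw [mul_one]
      exact Subgroup.zpow_mem_zpowers c i))
  have h1 : g * c * g⁻¹ = c⁻¹ := (hcP g hg).resolve_left fun e => hg1 (h0 g hg e)
  have h2 : g * g = 1 := h0 (g * g) (mul_mem hg hg) (by
    calc g * g * c * (g * g)⁻¹ = g * (g * c * g⁻¹) * g⁻¹ := by group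
      _ = g * c⁻¹ * g⁻¹ := by rw [h1]
      _ = (g * c * g⁻¹)⁻¹ := by group
      _ = c := by rw [h1, inv_inv])
  apply Subtype.ext
  show c ^ i * g * (c ^ i * g) = 1
  have h3 : g * c ^ i * g⁻¹ = c ^ (-i) := by rw [← conj_zpow, h1, inv_zpow, zpow_neg]
  calc c ^ i * g * (c ^ i * g) = c ^ i * (g * c ^ i * g⁻¹) * (g * g) := by group
    _ = 1 := by rw [h3, h2, mul_one, ← zpow_add, add_neg_cancel, zpow_zero]

/-- **Groups in which the centralisers of the involutions have exponent two.** -/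
theorem ci_good {L : Type u} [Group L] [Finite L] (h : CI L) : FSGood True L := by
  refine fsGood_of_cover fun c hc P hP hcP => ?_
  by_cases hc1 : c = 1
  · subst hc1
    refine ⟨P, one_mem _, le_rfl, good_of_exp_two fun y => ?_⟩
    by_cases hb : (⊤ : Subgroup P) = ⊥
    · have : y ∈ (⊤ : Subgroup P) := Subgroup.mem_top y
      rw [hb, Subgroup.mem_bot] at this
      rw [this, one_mul]
    · obtain ⟨z, -, hz1, hz2, hz3⟩ := exists_inv_center hP ⊤ hb
      have := h (z : L) (y : L) (congrArg Subtype.val hz2) (fun e => hz1 (Subtype.ext e))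
        (congrArg Subtype.val (hz3 y).symm)
      exact Subtype.ext this
  · refine good_dih c hc P hcP fun g hg hgc => ?_
    by_contra hg1
    obtain ⟨n, hn⟩ := hP ⟨g, hg⟩
    obtain ⟨k, h1, h2⟩ := exists_sq_one (g := g) hg1 (congrArg Subtype.val hn)
    have h3 : g * c = c * g := by rwa [mul_inv_eq_iff_eq_mul] at hgc
    have h4 := h (g ^ k) c h2 h1 (Commute.pow_left (h3 : Commute g c) k).eq
    apply hc1
    rw [← pow_two] at h4
    have h5 := orderOf_dvd_of_pow_eq_one h4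
    have h6 : orderOf c = 1 := by
      rcases (Nat.dvd_prime Nat.prime_two).1 h5 with h7 | h7
      · exact h7
      · rw [h7] at hc
        exact absurd hc (by decide)
    exact orderOf_eq_one_iff.1 h6

/-- **Reduction to the centralisers of the involutions.** -/
theorem inv_cover {G : Type u} [Group G] [Finite G]
    (h : ∀ z : G, z * z = 1 → z ≠ 1 → FSGood True (Subgroup.centralizer ({z} : Set G))) : FSGood True G := by
  refine fsGood_of_cover fun c hc P hP hcP => ?_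
  let P0 : Subgroup P := (Subgroup.centralizer ({c} : Set G)).subgroupOf P
  have hP0 : ∀ g : P, g ∈ P0 ↔ (g : G) * c * (g : G)⁻¹ = c := by
    intro g
    rw [Subgroup.mem_subgroupOf, Subgroup.mem_centralizer_singleton_iff, mul_inv_eq_iff_eq_mul]
  by_cases hb : P0 = ⊥
  · refine good_dih c hc P hcP fun g hg hgc => ?_
    have h1 : (⟨g, hg⟩ : P) ∈ P0 := (hP0 _).2 hgc
    rw [hb, Subgroup.mem_bot] at h1
    exact congrArg Subtype.val h1
  · have hn : P0.Normal := by
      refine ⟨fun n hn g => ?_⟩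
      rw [hP0] at hn ⊢
      have e1 : ((g * n * g⁻¹ : P) : G) * c * ((g * n * g⁻¹ : P) : G)⁻¹ =
          (g : G) * ((n : G) * ((g⁻¹ : P) * c * ((g⁻¹ : P) : G)⁻¹) * (n : G)⁻¹) * (g : G)⁻¹ := by
        simp only [Subgroup.coe_mul, Subgroup.coe_inv]; group
      rw [e1]
      have e3 : (g : G) * (((g⁻¹ : P) : G) * c * ((g⁻¹ : P) : G)⁻¹) * (g : G)⁻¹ = c := by
        simp only [Subgroup.coe_inv]; group
      rcases hcP ((g⁻¹ : P) : G) (g⁻¹).2 with h1 | h1
      · rw [h1, hn]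
        rwa [h1] at e3
      · have e2 : (n : G) * c⁻¹ * (n : G)⁻¹ = c⁻¹ := by
          calc (n : G) * c⁻¹ * (n : G)⁻¹ = ((n : G) * c * (n : G)⁻¹)⁻¹ := by group
            _ = c⁻¹ := by rw [hn]
        rw [h1, e2]
        rwa [h1] at e3
    obtain ⟨z, hz0, hz1, hz2, hz3⟩ := exists_inv_center hP P0 hb
    refine ⟨Subgroup.centralizer ({(z : G)} : Set G), ?_, ?_, h z (congrArg Subtype.val hz2)
      fun e => hz1 (Subtype.ext e)⟩
    · rw [Subgroup.mem_centralizer_singleton_iff]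
      have := (hP0 z).1 hz0
      rw [mul_inv_eq_iff_eq_mul] at this
      exact this.symm
    · intro g hg
      rw [Subgroup.mem_centralizer_singleton_iff]
      exact congrArg Subtype.val (hz3 ⟨g, hg⟩)

end Cfsg.Agent.H168.FRHex
end

-- part: H168/FRHex/LeviCover
section
/-!
# Groups `X = N L` (team SR, S4970; helper168)

* `good_of_levi` : `N` a normal 2-group, centralisers of involutions of `L` of exponent two; elements of odd order
  of `L` centralise only a subgroup `C` of `N` which is of exponent two and centralised by `L`.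
-/

set_option autoImplicit false

universe u

namespace Cfsg.Agent.H168.FRHex

open Cfsg Cfsg.Agent.H955.FS

variable {Γ : Type u} [Group Γ]

/-- conjugate of a good subgroup -/
theorem exists_conj_good (X Y0 : Subgroup Γ) [Finite X] (hY0 : Y0 ≤ X) (hg : FSGood True Y0) {p : Γ} (hp : p ∈ X) :
    ∃ Y : Subgroup Γ, Y ≤ X ∧ (∀ g, p * g * p⁻¹ ∈ Y0 → g ∈ Y) ∧ FSGood True Y := by
  let f : Γ →* Γ := (MulAut.conj p⁻¹).toMonoidHom
  have hf : ∀ g, f g = p⁻¹ * g * p := fun g => by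
    show p⁻¹ * g * p⁻¹⁻¹ = _
    rw [inv_inv]
  have hi : Function.Injective f := (MulAut.conj p⁻¹).injective
  have : Finite Y0 := Finite.of_injective (Subgroup.inclusion hY0) (Subgroup.inclusion_injective hY0)
  refine ⟨Y0.map f, ?_, ?_, hg.of_equiv (Y0.equivMapOfInjective f hi)⟩
  · rintro _ ⟨y, hy, rfl⟩
    rw [hf]
    exact mul_mem (mul_mem (inv_mem hp) (hY0 hy)) hp
  · intro g hgY
    refine ⟨p * g * p⁻¹, hgY, ?_⟩
    rw [hf]; group

/-- the product of two commuting good subgroups -/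
theorem good_mul (C L : Subgroup Γ) [Finite C] [Finite L] (hC : FSGood True C) (hL : FSGood True L)
    (hCL : ∀ c ∈ C, ∀ l ∈ L, l * c = c * l) :
    ∃ Y : Subgroup Γ, (∀ g, g ∈ Y ↔ ∃ c ∈ C, ∃ l ∈ L, g = c * l) ∧ FSGood True Y := by
  let f : C × L →* Γ :=
    { toFun := fun y => y.1 * y.2
      map_one' := by simp only [_root_.Prod.fst_one, _root_.OneMemClass.coe_one, _root_.Prod.snd_one, _root_.mul_one]
      map_mul' := by
        rintro ⟨c, l⟩ ⟨c', l'⟩
        show (c : Γ) * c' * ((l : Γ) * l') = c * l * (c' * l')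
        have := hCL c' c'.2 l l.2
        calc (c : Γ) * c' * ((l : Γ) * l') = c * (c' * l) * l' := by group
          _ = c * (l * c') * l' := by rw [this]
          _ = _ := by group }
  refine ⟨f.range, fun g => ?_, ?_⟩
  · constructor
    · rintro ⟨⟨c, l⟩, rfl⟩
      exact ⟨c, c.2, l, l.2, rfl⟩
    · rintro ⟨c, hc, l, hl, rfl⟩
      exact ⟨(⟨c, hc⟩, ⟨l, hl⟩), rfl⟩
  · exact (hC.prod hL).of_surjective f.rangeRestrict f.rangeRestrict_surjective

/-- elements of odd order of `N L` are conjugate to elements of `L` -/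
theorem exists_conj_compl (X N L : Subgroup Γ) [Finite X] (hNX : N ≤ X) (hLX : L ≤ X)
    (hdec : ∀ x ∈ X, ∃ n ∈ N, ∃ l ∈ L, x = n * l) (hNn : ∀ x ∈ X, ∀ n ∈ N, x * n * x⁻¹ ∈ N)
    (hNL : ∀ g ∈ N, g ∈ L → g = 1) (hN2 : IsPGroup 2 N) {s : Γ} (hs : s ∈ X) {m : ℕ} (hm : Odd m) (hsm : s ^ m = 1) :
    ∃ p ∈ X, p * s * p⁻¹ ∈ L := by
  obtain ⟨n, hn, l, hl, rfl⟩ := hdec s hs
  have hpow : ∀ k : ℕ, ∃ n' ∈ N, (n * l) ^ k = n' * l ^ k := by
    intro k
    induction k with
    | zero => exact ⟨1, one_mem _, by simp⟩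
    | succ k ih =>
      obtain ⟨n', hn', e⟩ := ih
      refine ⟨n' * (l ^ k * n * (l ^ k)⁻¹), mul_mem hn' (hNn _ (hLX (pow_mem hl k)) n hn), ?_⟩
      rw [pow_succ, e, pow_succ]; group
  have hlm : l ^ m = 1 := by
    obtain ⟨n', hn', e⟩ := hpow m
    rw [hsm] at e
    have h1 : l ^ m ∈ N := by
      have : l ^ m = n'⁻¹ := (inv_eq_of_mul_eq_one_right e.symm).symm
      rw [this]
      exact inv_mem hn'
    exact hNL _ h1 (pow_mem hl m)
  have hnorm : (N.subgroupOf X).Normal := by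
    refine ⟨fun y hy g => ?_⟩
    rw [Subgroup.mem_subgroupOf] at hy ⊢
    exact hNn g g.2 y hy
  have h2 : IsPGroup 2 (N.subgroupOf X) :=
    hN2.of_equiv (Subgroup.subgroupOfEquivOfLe hNX).symm
  obtain ⟨r, hr⟩ := IsPGroup.iff_card.1 h2
  have hcop : ∀ y : X, y ^ m = 1 → (Nat.card (Subgroup.zpowers y)).Coprime (Nat.card (N.subgroupOf X)) := by
    intro y hy
    rw [Nat.card_zpowers, hr]
    exact Nat.Coprime.pow_right r ((hm.coprime_two_right).coprime_dvd_left (orderOf_dvd_of_pow_eq_one hy))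
  obtain ⟨p, hp⟩ := Cfsg.Agent.H967.CopConj.conj_le (N.subgroupOf X)
    (Subgroup.zpowers (⟨l, hLX hl⟩ : X)) inferInstance
    (hcop _ (Subtype.ext (by simpa only [_root_.SubmonoidClass.mk_pow, _root_.OneMemClass.coe_one] using hlm))) (Subgroup.zpowers (⟨n * l, hs⟩ : X))
    (hcop _ (Subtype.ext (by simpa only [_root_.SubmonoidClass.mk_pow, _root_.OneMemClass.coe_one] using hsm))) (by
      rw [Subgroup.zpowers_le]
      have e : (⟨n * l, hs⟩ : X) = ⟨n, hNX hn⟩ * ⟨l, hLX hl⟩ := rfl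
      rw [e, sup_comm]
      exact Subgroup.mul_mem_sup (Subgroup.mem_subgroupOf.2 hn) (Subgroup.mem_zpowers _))
  refine ⟨p, p.2, ?_⟩
  have h3 : p * (⟨n * l, hs⟩ : X) * p⁻¹ ∈ Subgroup.zpowers (⟨l, hLX hl⟩ : X) :=
    hp (Subgroup.smul_mem_pointwise_smul _ (MulAut.conj p) _ (Subgroup.mem_zpowers _))
  obtain ⟨k, hk⟩ := Subgroup.mem_zpowers_iff.1 h3
  have h4 := congrArg (fun y : X => (y : Γ)) hk
  simp only [Subgroup.coe_mul, Subgroup.coe_inv, Subgroup.coe_zpow] at h4
  rw [← h4]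
  exact zpow_mem hl k

/-- **Indicators of `X = N L`.** -/
theorem good_of_levi (X N L C T : Subgroup Γ) [Finite X] (hNX : N ≤ X) (hLX : L ≤ X)
    (hdec : ∀ x ∈ X, ∃ n ∈ N, ∃ l ∈ L, x = n * l) (hNn : ∀ x ∈ X, ∀ n ∈ N, x * n * x⁻¹ ∈ N)
    (hNL : ∀ g ∈ N, g ∈ L → g = 1) (hN2 : IsPGroup 2 N) (hL : CI L) (hCN : C ≤ N) (hC2 : ∀ c ∈ C, c * c = 1)
    (hCL : ∀ c ∈ C, ∀ l ∈ L, l * c = c * l) (hfix : ∀ s ∈ L, s * s ≠ 1 → ∀ n ∈ N, s * n = n * s → n ∈ C)
    (hTX : T ≤ X) (hT : FSGood True T) (hTS : ∀ P ≤ X, IsPGroup 2 P → ∃ p ∈ X, ∀ g ∈ P, p * g * p⁻¹ ∈ T) :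
    FSGood True X := by
  have hfL : Finite L := Finite.of_injective (Subgroup.inclusion hLX) (Subgroup.inclusion_injective hLX)
  have hfC : Finite C := Finite.of_injective (Subgroup.inclusion (hCN.trans hNX)) (Subgroup.inclusion_injective _)
  refine fsGood_of_cover_amb X fun c hc hodd P hPX hP hcP => ?_
  by_cases hc1 : c = 1
  · obtain ⟨p, hp, hpT⟩ := hTS P hPX hP
    obtain ⟨Y, h1, h2, h3⟩ := exists_conj_good X T hTX hT hp
    exact ⟨Y, h1, by rw [hc1]; exact one_mem _, fun g hg => h2 g (hpT g hg), h3⟩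
  · obtain ⟨Y0, hY0, hY0g⟩ := good_mul C L
      (good_of_exp_two fun y => Subtype.ext (hC2 y y.2)) (ci_good hL) hCL
    have hY0X : Y0 ≤ X := by
      intro g hg
      obtain ⟨c, hc, l, hl, rfl⟩ := (hY0 g).1 hg
      exact mul_mem (hNX (hCN hc)) (hLX hl)
    obtain ⟨p, hp, hpc⟩ := exists_conj_compl X N L hNX hLX hdec hNn hNL hN2 hc hodd (pow_orderOf_eq_one c)
    obtain ⟨Y, h1, h2, h3⟩ := exists_conj_good X Y0 hY0X hY0g hp
    refine ⟨Y, h1, h2 c ((hY0 _).2 ⟨1, one_mem _, _, hpc, by rw [one_mul]⟩), fun g hg => h2 g ?_, h3⟩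
    -- `s = p c p⁻¹`
    set s := p * c * p⁻¹ with hsdef
    have hs1 : s * s ≠ 1 := by
      intro e
      apply hc1
      have e1 : c * c = 1 := by
        calc c * c = p⁻¹ * (s * s) * p := by rw [hsdef]; group
          _ = 1 := by rw [e]; group
      rw [← pow_two] at e1
      rcases (Nat.dvd_prime Nat.prime_two).1 (orderOf_dvd_of_pow_eq_one e1) with h7 | h7
      · exact orderOf_eq_one_iff.1 h7
      · rw [h7] at hodd
        exact absurd hodd (by decide)
    obtain ⟨n, hn, l, hl, e1⟩ := hdec (p * g * p⁻¹) (mul_mem (mul_mem hp (hPX hg)) (inv_mem hp))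
    -- `(n l) s (n l)⁻¹ = s'`
    have key : ∃ s' ∈ L, (n * l) * s * (n * l)⁻¹ = s' ∧ (s' = s ∨ s' = s⁻¹) := by
      rw [← e1]
      rcases hcP g hg with h5 | h5
      · refine ⟨s, hpc, ?_, Or.inl rfl⟩
        calc p * g * p⁻¹ * s * (p * g * p⁻¹)⁻¹ = p * (g * c * g⁻¹) * p⁻¹ := by rw [hsdef]; group
          _ = s := by rw [h5]
      · refine ⟨s⁻¹, inv_mem hpc, ?_, Or.inr rfl⟩
        calc p * g * p⁻¹ * s * (p * g * p⁻¹)⁻¹ = p * (g * c * g⁻¹) * p⁻¹ := by rw [hsdef]; group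
          _ = s⁻¹ := by rw [h5, hsdef]; group
    obtain ⟨s', hs'L, e2, hs'⟩ := key
    have hL1 : l * s * l⁻¹ ∈ L := mul_mem (mul_mem hl hpc) (inv_mem hl)
    have e3 : n * ((l * s * l⁻¹) * n⁻¹ * (l * s * l⁻¹)⁻¹) = s' * (l * s * l⁻¹)⁻¹ := by
      rw [← e2]; group
    have h6 : s' * (l * s * l⁻¹)⁻¹ = 1 := by
      refine hNL _ ?_ (mul_mem hs'L (inv_mem hL1))
      rw [← e3]
      exact mul_mem hn (hNn _ (hLX hL1) _ (inv_mem hn))
    have h7 : l * s * l⁻¹ = s' := (mul_inv_eq_one.1 h6).symm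
    have h8 : n * s' * n⁻¹ = s' := by
      calc n * s' * n⁻¹ = n * (l * s * l⁻¹) * n⁻¹ := by rw [h7]
        _ = n * l * s * (n * l)⁻¹ := by group
        _ = s' := e2
    have h9 : s * n = n * s := by
      rw [mul_inv_eq_iff_eq_mul] at h8
      rcases hs' with rfl | rfl
      · exact h8.symm
      · calc s * n = s * (n * s⁻¹) * s := by group
          _ = n * s := by rw [h8]; group
    rw [hY0, e1]
    exact ⟨n, hfix s hpc hs1 n hn h9, l, hl, rfl⟩

/-- Sylow 2-subgroups of `X = N L` -/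
theorem sylow_of_levi (X N L S T : Subgroup Γ) (hNX : N ≤ X) (hLX : L ≤ X)
    (hdec : ∀ x ∈ X, ∃ n ∈ N, ∃ l ∈ L, x = n * l) (hNn : ∀ x ∈ X, ∀ n ∈ N, x * n * x⁻¹ ∈ N)
    (hNL : ∀ g ∈ N, g ∈ L → g = 1) (hT : ∀ n ∈ N, ∀ s ∈ S, n * s ∈ T)
    (hS : ∀ P ≤ L, IsPGroup 2 P → ∃ l ∈ L, ∀ g ∈ P, l * g * l⁻¹ ∈ S) (P : Subgroup Γ) (hPX : P ≤ X)
    (hP : IsPGroup 2 P) : ∃ p ∈ X, ∀ g ∈ P, p * g * p⁻¹ ∈ T := by
  -- uniqueness of the decomposition
  have uniq : ∀ n ∈ N, ∀ n' ∈ N, ∀ l ∈ L, ∀ l' ∈ L, n * l = n' * l' → n = n' ∧ l = l' := by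
    intro n hn n' hn' l hl l' hl' e
    have e1 : n'⁻¹ * n = l' * l⁻¹ := by
      rw [eq_mul_inv_iff_mul_eq, mul_assoc, e, inv_mul_cancel_left]
    have h1 := hNL _ (mul_mem (inv_mem hn') hn) (by rw [e1]; exact mul_mem hl' (inv_mem hl))
    have e2 : n' = n := inv_mul_eq_one.1 h1
    subst e2
    exact ⟨rfl, mul_left_cancel e⟩
  -- the projection
  let Q : Subgroup Γ :=
    { carrier := {l | l ∈ L ∧ ∃ n ∈ N, n * l ∈ P}
      mul_mem' := by
        rintro a b ⟨ha, n, hn, h1⟩ ⟨hb, n', hn', h2⟩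
        refine ⟨mul_mem ha hb, n * (a * n' * a⁻¹), mul_mem hn (hNn _ (hLX ha) _ hn'), ?_⟩
        have e : n * (a * n' * a⁻¹) * (a * b) = n * a * (n' * b) := by group
        rw [e]
        exact mul_mem h1 h2
      one_mem' := ⟨one_mem _, 1, one_mem _, by rw [one_mul]; exact one_mem _⟩
      inv_mem' := by
        rintro a ⟨ha, n, hn, h1⟩
        refine ⟨inv_mem ha, a⁻¹ * n⁻¹ * a⁻¹⁻¹, hNn _ (hLX (inv_mem ha)) _ (inv_mem hn), ?_⟩
        have e : a⁻¹ * n⁻¹ * a⁻¹⁻¹ * a⁻¹ = (n * a)⁻¹ := by group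
        rw [e]
        exact inv_mem h1 }
  have hQL : Q ≤ L := fun l hl => hl.1
  have hQ2 : IsPGroup 2 Q := by
    rintro ⟨l, hl, n, hn, hnl⟩
    obtain ⟨k, hk⟩ := hP ⟨n * l, hnl⟩
    refine ⟨k, Subtype.ext ?_⟩
    show l ^ 2 ^ k = 1
    have hk' : (n * l) ^ 2 ^ k = 1 := congrArg Subtype.val hk
    have hpow : ∀ k : ℕ, ∃ n' ∈ N, (n * l) ^ k = n' * l ^ k := by
      intro k
      induction k with
      | zero => exact ⟨1, one_mem _, by simp⟩
      | succ k ih =>
        obtain ⟨n', hn', e⟩ := ih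
        refine ⟨n' * (l ^ k * n * (l ^ k)⁻¹), mul_mem hn' (hNn _ (hLX (pow_mem hl k)) n hn), ?_⟩
        rw [pow_succ, e, pow_succ]; group
    obtain ⟨n', hn', e⟩ := hpow (2 ^ k)
    rw [hk'] at e
    exact (uniq 1 (one_mem _) n' hn' 1 (one_mem _) _ (pow_mem hl _) (by rw [one_mul, e])).2.symm
  obtain ⟨l, hl, hlS⟩ := hS Q hQL hQ2
  refine ⟨l, hLX hl, fun g hg => ?_⟩
  obtain ⟨n, hn, y, hy, rfl⟩ := hdec g (hPX hg)
  have h1 := hlS y ⟨hy, n, hn, hg⟩
  have e : l * (n * y) * l⁻¹ = (l * n * l⁻¹) * (l * y * l⁻¹) := by group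
  rw [e]
  exact hT _ (hNn _ (hLX hl) _ hn) _ h1

end Cfsg.Agent.H168.FRHex
end

-- part: H168/FRHex/Short
section
/-!
# The Sylow 2-subgroup of the centraliser of a short root involution (team SR, S4970; helper168)

`T_good` : no irreducible character of `T = C_U(x 3 1)` has indicator `-1`.
-/

set_option autoImplicit false
set_option linter.unusedVariables false

namespace Cfsg.Agent.H168.FRHex.Short

open Cfsg Cfsg.Agent.H955.FS Cfsg.Agent.StdRank2.Hex Cfsg.Agent.StdRank2.Hex.HexTwo Cfsg.Agent.SplitTwo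

universe u v

variable {E : Type u} [Field E] {σ : E ≃+* E} {G : Type v} [Group G] {x : ZMod 12 → E → G}

/-- the centraliser of `x 3 1` -/
def X3 (x : ZMod 12 → E → G) : Subgroup G := Subgroup.centralizer {x 3 1}

theorem mem_X3 {g : G} : g ∈ X3 x ↔ g * x 3 1 = x 3 1 * g := Subgroup.mem_centralizer_singleton_iff

variable (h : HexTwo σ x)
include h

theorem uu_mem_X3 {a b c d e f : E} (hb : σ b = b) (hd : σ d = d) (hf : σ f = f) :
    uu x a b c d e f ∈ X3 x ↔ trc σ a 1 = 0 ∧ trc σ 1 e = 0 := by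
  have z : σ (0 : E) = 0 := map_zero σ
  rw [mem_X3, h.uu_x3 hb hd hf 1, mul_left_inj, ← h.q3]
  constructor
  · intro e1
    have := h.q_inj (h.fix_trc a 1) (h.fix_trc 1 e) z z z z e1
    exact ⟨this.1, this.2.2.1⟩
  · rintro ⟨h1, h2⟩
    rw [h1, h2]

theorem q_mem_X3 {b c d e f : E} (hb : σ b = b) (hd : σ d = d) (hf : σ f = f) :
    q x b c d e f ∈ X3 x ↔ trc σ 1 e = 0 := by
  rw [← h.uq, uu_mem_X3 h hb hd hf, trc_zero_left]
  exact ⟨fun h1 => h1.2, fun h1 => ⟨rfl, h1⟩⟩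

theorem mem_1234 {g : G} : g ∈ gen σ x (arc 1 4) ↔ ∃ a b c d, σ b = b ∧ σ d = d ∧ g = uu x a b c d 0 0 := by
  constructor
  · intro hg
    obtain ⟨a, ha, g1, hg1, rfl⟩ := (h.mem_gen_first (k := 1) (n := 3) (by norm_num)).1 hg
    obtain ⟨b, c, d, hb, hd, rfl⟩ := h.mem_234.1 hg1
    exact ⟨a, b, c, d, hb, hd, rfl⟩
  · rintro ⟨a, b, c, d, hb, hd, rfl⟩
    exact (h.mem_gen_first (k := 1) (n := 3) (by norm_num)).2 ⟨a, ok1 a, _, h.mem_234.2 ⟨b, c, d, hb, hd, rfl⟩, rfl⟩

/-- `X₂X₃(F)X₄` -/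
def Z3 : Subgroup G where
  carrier := {g | ∃ b c d, σ b = b ∧ σ c = c ∧ σ d = d ∧ g = q x b c d 0 0}
  mul_mem' := by
    rintro _ _ ⟨b, c, d, hb, hc, hd, rfl⟩ ⟨b', c', d', hb', hc', hd', rfl⟩
    have z : σ (0 : E) = 0 := map_zero σ
    refine ⟨b + b', c + c', d + d', by rw [map_add, hb, hb'], by rw [map_add, hc, hc'], by rw [map_add, hd, hd'], ?_⟩
    rw [h.q_mul hb hd z hb' hd' z, trc_zero_right, mul_zero, add_zero, add_zero, add_zero]
  one_mem' := ⟨0, 0, 0, map_zero σ, map_zero σ, map_zero σ, h.q_zero.symm⟩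
  inv_mem' := by
    rintro _ ⟨b, c, d, hb, hc, hd, rfl⟩
    have z : σ (0 : E) = 0 := map_zero σ
    refine ⟨b, c, d, hb, hc, hd, inv_eq_of_mul_eq_one_left ?_⟩
    rw [h.q_mul hb hd z hb hd z, trc_zero_right, mul_zero, add_zero, add_zero, h.add_self, h.add_self, h.add_self,
      h.add_self, h.q_zero]

theorem Z3_sq {g : G} (hg : g ∈ Z3 h) : g * g = 1 := by
  obtain ⟨b, c, d, hb, hc, hd, rfl⟩ := hg
  have z : σ (0 : E) = 0 := map_zero σ
  rw [h.q_mul hb hd z hb hd z, trc_zero_right, mul_zero, add_zero, add_zero, h.add_self, h.add_self, h.add_self,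
      h.add_self, h.q_zero]

/-- `T = C_U(x 3 1)` -/
def T (σ : E ≃+* E) (x : ZMod 12 → E → G) : Subgroup G := UU σ x ⊓ X3 x
/-- `C_{X₁X₂X₃X₄}(x 3 1)` -/
def A1 (σ : E ≃+* E) (x : ZMod 12 → E → G) : Subgroup G := gen σ x (arc 1 4) ⊓ X3 x
/-- `C_{X₂X₃X₄X₅X₆}(x 3 1)` -/
def A2 (σ : E ≃+* E) (x : ZMod 12 → E → G) : Subgroup G := gen σ x (arc 2 5) ⊓ X3 x
/-- `C_{X₁X₂X₃X₄X₅}(x 3 1)` -/
def N (σ : E ≃+* E) (x : ZMod 12 → E → G) : Subgroup G := gen σ x (arc 1 5) ⊓ X3 x

theorem mem_T {g : G} : g ∈ T σ x ↔ ∃ a b c d e f, σ b = b ∧ σ d = d ∧ σ f = f ∧ trc σ a 1 = 0 ∧ trc σ 1 e = 0 ∧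
    g = uu x a b c d e f := by
  constructor
  · rintro ⟨h1, h2⟩
    obtain ⟨a, b, c, d, e, f, hb, hd, hf, rfl⟩ := h.mem_UU.1 h1
    obtain ⟨h3, h4⟩ := (uu_mem_X3 h hb hd hf).1 h2
    exact ⟨a, b, c, d, e, f, hb, hd, hf, h3, h4, rfl⟩
  · rintro ⟨a, b, c, d, e, f, hb, hd, hf, h3, h4, rfl⟩
    exact ⟨h.mem_UU.2 ⟨a, b, c, d, e, f, hb, hd, hf, rfl⟩, (uu_mem_X3 h hb hd hf).2 ⟨h3, h4⟩⟩

theorem mem_A1 {g : G} : g ∈ A1 σ x ↔ ∃ a b c d, σ b = b ∧ σ d = d ∧ trc σ a 1 = 0 ∧ g = uu x a b c d 0 0 := by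
  have z : σ (0 : E) = 0 := map_zero σ
  constructor
  · rintro ⟨h1, h2⟩
    obtain ⟨a, b, c, d, hb, hd, rfl⟩ := (mem_1234 h).1 h1
    exact ⟨a, b, c, d, hb, hd, ((uu_mem_X3 h hb hd z).1 h2).1, rfl⟩
  · rintro ⟨a, b, c, d, hb, hd, h3, rfl⟩
    exact ⟨(mem_1234 h).2 ⟨a, b, c, d, hb, hd, rfl⟩, (uu_mem_X3 h hb hd z).2 ⟨h3, trc_zero_right 1⟩⟩

theorem mem_A2 {g : G} : g ∈ A2 σ x ↔ ∃ b c d e f, σ b = b ∧ σ d = d ∧ σ f = f ∧ trc σ 1 e = 0 ∧
    g = q x b c d e f := by
  constructor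
  · rintro ⟨h1, h2⟩
    obtain ⟨b, c, d, e, f, hb, hd, hf, rfl⟩ := h.mem_Q1.1 h1
    exact ⟨b, c, d, e, f, hb, hd, hf, (q_mem_X3 h hb hd hf).1 h2, rfl⟩
  · rintro ⟨b, c, d, e, f, hb, hd, hf, h3, rfl⟩
    exact ⟨h.mem_Q1.2 ⟨b, c, d, e, f, hb, hd, hf, rfl⟩, (q_mem_X3 h hb hd hf).2 h3⟩

theorem mem_N {g : G} : g ∈ N σ x ↔ ∃ a b c d e, σ b = b ∧ σ d = d ∧ trc σ a 1 = 0 ∧ trc σ 1 e = 0 ∧
    g = uu x a b c d e 0 := by
  have z : σ (0 : E) = 0 := map_zero σ
  constructor
  · rintro ⟨h1, h2⟩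
    obtain ⟨a, b, c, d, e, hb, hd, rfl⟩ := h.mem_Q2.1 h1
    obtain ⟨h3, h4⟩ := (uu_mem_X3 h hb hd z).1 h2
    exact ⟨a, b, c, d, e, hb, hd, h3, h4, rfl⟩
  · rintro ⟨a, b, c, d, e, hb, hd, h3, h4, rfl⟩
    exact ⟨h.mem_Q2.2 ⟨a, b, c, d, e, hb, hd, rfl⟩, (uu_mem_X3 h hb hd z).2 ⟨h3, h4⟩⟩

theorem A1_le : A1 σ x ≤ T σ x := by
  intro g hg
  obtain ⟨a, b, c, d, hb, hd, h1, rfl⟩ := (mem_A1 h).1 hg
  exact (mem_T h).2 ⟨a, b, c, d, 0, 0, hb, hd, map_zero σ, h1, trc_zero_right 1, rfl⟩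

theorem A2_le : A2 σ x ≤ T σ x := by
  intro g hg
  obtain ⟨b, c, d, e, f, hb, hd, hf, h1, rfl⟩ := (mem_A2 h).1 hg
  exact (mem_T h).2 ⟨0, b, c, d, e, f, hb, hd, hf, trc_zero_left 1, h1, (h.uq b c d e f).symm⟩

theorem N_le : N σ x ≤ T σ x := by
  intro g hg
  obtain ⟨a, b, c, d, e, hb, hd, h1, h2, rfl⟩ := (mem_N h).1 hg
  exact (mem_T h).2 ⟨a, b, c, d, e, 0, hb, hd, map_zero σ, h1, h2, rfl⟩

theorem Z3_le_A1 : Z3 h ≤ A1 σ x := by
  rintro _ ⟨b, c, d, hb, hc, hd, rfl⟩
  exact (mem_A1 h).2 ⟨0, b, c, d, hb, hd, trc_zero_left 1, (h.uq b c d 0 0).symm⟩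

theorem Z3_le_A2 : Z3 h ≤ A2 σ x := by
  rintro _ ⟨b, c, d, hb, hc, hd, rfl⟩
  exact (mem_A2 h).2 ⟨b, c, d, 0, 0, hb, hd, map_zero σ, trc_zero_right 1, rfl⟩

theorem Z3_le_N : Z3 h ≤ N σ x := by
  rintro _ ⟨b, c, d, hb, hc, hd, rfl⟩
  exact (mem_N h).2 ⟨0, b, c, d, 0, hb, hd, trc_zero_left 1, trc_zero_right 1, (h.uq b c d 0 0).symm⟩

theorem x2_mem {s : E} (hs : σ s = s) : x 2 s ∈ Z3 h := ⟨s, 0, 0, hs, map_zero σ, map_zero σ, (h.q2 s).symm⟩
theorem x4_mem {s : E} (hs : σ s = s) : x 4 s ∈ Z3 h := ⟨0, 0, s, map_zero σ, map_zero σ, hs, (h.q4 s).symm⟩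
theorem x3_mem {s : E} (hs : σ s = s) : x 3 s ∈ Z3 h := ⟨0, s, 0, map_zero σ, hs, map_zero σ, (h.q3 s).symm⟩

/-- squares in `A1` -/
theorem sq_A1 {a b c d : E} (hb : σ b = b) (hd : σ d = d) :
    uu x a b c d 0 0 * uu x a b c d 0 0 = x 2 (trc σ a c) := by
  have z : σ (0 : E) = 0 := map_zero σ
  rw [h.uu_mul hb hd z hb hd z, ← h.q2, ← h.uq]
  simp only [trc_zero_right, trc_zero_left, crs_zero_left, crs_zero_right, shp_zero, nrm_zero, zero_mul, mul_zero,
    add_zero, zero_add, h.add_self, show (0 : E) ^ 2 = 0 by norm_num]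
  congr 1
  rw [add_right_comm, h.add_self, zero_add]

/-- squares in `A2` -/
theorem sq_A2 {b c d e f : E} (hb : σ b = b) (hd : σ d = d) (hf : σ f = f) :
    q x b c d e f * q x b c d e f = x 4 (b * f + trc σ c e) := by
  rw [h.q_mul hb hd hf hb hd hf, ← h.q4]
  simp only [h.add_self, zero_add]

theorem fix_crs {a e : E} (ha : trc σ a 1 = 0) (he : trc σ 1 e = 0) : σ (crs σ a e) = crs σ a e := by
  have h2 := h.two
  have c3 := h.cube
  unfold trc at ha he
  unfold crs
  rw [mul_one] at ha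
  rw [one_mul] at he
  simp only [map_add, map_mul, c3]
  have e1 : a = σ a + σ (σ a) := by linear_combination ha - (σ a + σ (σ a)) * h2
  have e2 : e = σ e + σ (σ e) := by linear_combination he - (σ e + σ (σ e)) * h2
  calc σ (σ a) * e + a * σ (σ e) = σ (σ a) * (σ e + σ (σ e)) + (σ a + σ (σ a)) * σ (σ e) := by rw [← e1, ← e2]
    _ = σ a * σ (σ e) + σ (σ a) * σ e := by linear_combination (σ (σ a) * σ (σ e)) * h2

/-- squares in `N` -/
theorem sq_N {a b c d e : E} (hb : σ b = b) (hd : σ d = d) (ha : trc σ a 1 = 0) (he : trc σ 1 e = 0) :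
    uu x a b c d e 0 * uu x a b c d e 0 ∈ Z3 h := by
  have z : σ (0 : E) = 0 := map_zero σ
  rw [h.uu_mul hb hd z hb hd z]
  refine ⟨b + trc σ a c + trc σ (shp σ a) e + 0 * nrm σ a + b, c + crs σ a e + 0 * shp σ a + c,
    d + trc σ a (shp σ e) + 0 ^ 2 * nrm σ a + 0 * trc σ (shp σ a) e + d + b * 0 + trc σ c (e + 0 * a), ?_, ?_, ?_, ?_⟩
  · simp only [map_add, map_mul, h.fix_trc, h.fix_nrm, hb, z]
  · have e1 : c + crs σ a e + 0 * shp σ a + c = crs σ a e := by
      rw [zero_mul, add_zero, add_right_comm, h.add_self, zero_add]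
    rw [e1]
    exact fix_crs h ha he
  · simp only [map_add, map_mul, map_pow, h.fix_trc, h.fix_nrm, hd, hb, z]
  · rw [← h.uq]
    simp only [zero_mul, add_zero, h.add_self]

end Cfsg.Agent.H168.FRHex.Short
end

-- part: H168/FRHex/ShortT
section
/-!
# The Sylow 2-subgroup of the centraliser of a short root involution, indicators (team SR, S4970; helper168)
-/

set_option autoImplicit false
set_option linter.unusedVariables false

namespace Cfsg.Agent.H168.FRHex.Short

open Cfsg Cfsg.Agent.H955.FS Cfsg.Agent.StdRank2.Hex Cfsg.Agent.StdRank2.Hex.HexTwo Cfsg.Agent.SplitTwo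

universe u v

variable {E : Type u} [Field E] {σ : E ≃+* E} {G : Type v} [Group G] {x : ZMod 12 → E → G}
variable (h : HexTwo σ x)
include h

theorem conj_q234 {a b c d e f B C D : E} (hb : σ b = b) (hd : σ d = d) (hf : σ f = f) (hB : σ B = B) (hD : σ D = D) :
    uu x a b c d e f * q x B C D 0 0 * (uu x a b c d e f)⁻¹ = q x (B + trc σ a C) C (D + B * f + trc σ C e) 0 0 := by
  rw [mul_inv_eq_iff_eq_mul]
  exact h.uu_q234 hb hd hf hB hD

/-- the values of a sign character -/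
theorem sgn_q {A : Subgroup G} {mu : G → ℂ} (hm : ∀ a ∈ A, ∀ b ∈ A, mu (a * b) = mu a * mu b) {b c d : E}
    (h2 : x 2 b ∈ A) (h3 : x 3 c ∈ A) (h4 : x 4 d ∈ A) : mu (q x b c d 0 0) = mu (x 2 b) * mu (x 3 c) * mu (x 4 d) := by
  rw [h.q_234, hm _ (mul_mem h2 h3) _ h4, hm _ h2 _ h3]

omit h in
theorem sgn_one {A : Subgroup G} {mu : G → ℂ} (hm : ∀ a ∈ A, ∀ b ∈ A, mu (a * b) = mu a * mu b)
    (hp : ∀ a ∈ A, mu a = 1 ∨ mu a = -1) : mu 1 = 1 := by
  have h1 := hm 1 (one_mem _) 1 (one_mem _)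
  rw [mul_one] at h1
  rcases hp 1 (one_mem _) with h2 | h2
  · exact h2
  · rw [h2] at h1; norm_num at h1

omit h in
theorem sgn_sq {A : Subgroup G} {mu : G → ℂ} (hp : ∀ a ∈ A, mu a = 1 ∨ mu a = -1) {a : G} (ha : a ∈ A) :
    mu a * mu a = 1 := by
  rcases hp a ha with h2 | h2 <;> rw [h2] <;> norm_num

theorem X3_le_A1 (c : E) : x 3 c ∈ A1 σ x := (mem_A1 h).2 ⟨0, 0, c, 0, map_zero σ, map_zero σ, trc_zero_left 1, by
  rw [h.uq, h.q3]⟩

theorem X3_le_A2 (c : E) : x 3 c ∈ A2 σ x := (mem_A2 h).2 ⟨0, c, 0, 0, 0, map_zero σ, map_zero σ, map_zero σ,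
  trc_zero_right 1, by rw [h.q3]⟩

/-- **First case**: a sign character of `Z3`, trivial on `X₂`, non-trivial on `X₄`. -/
theorem case_A1 [Finite G] {lam : G → ℂ} (l1 : ∀ a ∈ Z3 h, ∀ b ∈ Z3 h, lam (a * b) = lam a * lam b)
    (l2 : ∀ a ∈ Z3 h, lam a = 1 ∨ lam a = -1) (k2 : ∀ s, σ s = s → lam (x 2 s) = 1) {t0 : E} (ht0 : σ t0 = t0)
    (k4 : lam (x 4 t0) ≠ 1) {χ : T σ x → ℂ} (hχ : IsIrrCharacter (T σ x) χ)
    (l3 : ∑ᶠ z : Z3 h, χ ⟨z, A1_le h (Z3_le_A1 h z.2)⟩ * lam z ≠ 0) : fsi χ = 1 := by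
  have z : σ (0 : E) = 0 := map_zero σ
  obtain ⟨mu, m1, m2, m3, m4⟩ := exists_sign_amb (T σ x) (A1 σ x) (Z3 h) (A1_le h) (Z3_le_A1 h) lam l1 l2 (by
    intro g hg
    obtain ⟨a, b, c, d, hb, hd, ha, rfl⟩ := (mem_A1 h).1 hg
    rw [sq_A1 h hb hd]
    exact ⟨x2_mem h (h.fix_trc a c), k2 _ (h.fix_trc a c)⟩) χ l3
  have u4 : mu (x 4 t0) ≠ 1 := by rw [m3 _ (x4_mem h ht0)]; exact k4
  have u2 : ∀ s, σ s = s → mu (x 2 s) = 1 := fun s hs => by rw [m3 _ (x2_mem h hs)]; exact k2 s hs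
  refine mono_amb (T σ x) (A1 σ x) (A1_le h) mu m1 m2 ?_ hχ m4
  intro g hgT hgA
  obtain ⟨a, b, c, d, e, f, hb, hd, hf, ha, he, rfl⟩ := (mem_T h).1 hgT
  by_cases hf0 : f = 0
  · have he0 : e ≠ 0 := by
      intro e0
      apply hgA
      rw [hf0, e0]
      exact (mem_A1 h).2 ⟨a, b, c, d, hb, hd, ha, rfl⟩
    have e1 := conj_q234 h (a := a) (b := b) (c := c) (d := d) (e := e) (f := f) (B := 0) (C := t0 / e) (D := 0)
      hb hd hf z z
    rw [h.q3, hf0, trc_comm (t0 / e) e, h.trc_div he0 ht0, zero_add, mul_zero, zero_add, zero_add] at e1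
    refine ⟨x 3 (t0 / e), X3_le_A1 h _, ?_, ?_⟩
    · rw [hf0, e1]
      exact (mem_A1 h).2 ⟨0, _, _, _, h.fix_trc a _, ht0, trc_zero_left 1, (h.uq _ _ _ _ _).symm⟩
    · rw [hf0, e1, sgn_q h m1 (Z3_le_A1 h (x2_mem h (h.fix_trc a _))) (X3_le_A1 h _) (Z3_le_A1 h (x4_mem h ht0)),
        u2 _ (h.fix_trc a _), one_mul]
      intro e2
      apply u4
      have e3 := sgn_sq m2 (X3_le_A1 h (t0 / e))
      calc mu (x 4 t0) = (mu (x 3 (t0 / e)) * mu (x 3 (t0 / e))) * mu (x 4 t0) := by rw [e3, one_mul]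
        _ = mu (x 3 (t0 / e)) * (mu (x 3 (t0 / e)) * mu (x 4 t0)) := by ring
        _ = 1 := by rw [e2, e3]
  · have hs : σ (t0 / f) = t0 / f := by rw [map_div₀, ht0, hf]
    have e1 := conj_q234 h (a := a) (b := b) (c := c) (d := d) (e := e) (f := f) (B := t0 / f) (C := 0) (D := 0)
      hb hd hf hs z
    rw [h.q2, trc_zero_right, trc_zero_left, add_zero, add_zero, zero_add, div_mul_cancel₀ _ hf0] at e1
    refine ⟨x 2 (t0 / f), Z3_le_A1 h (x2_mem h hs), ?_, ?_⟩
    · rw [e1]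
      exact Z3_le_A1 h ⟨_, _, _, hs, z, ht0, rfl⟩
    · rw [e1, sgn_q h m1 (Z3_le_A1 h (x2_mem h hs)) (X3_le_A1 h _) (Z3_le_A1 h (x4_mem h ht0)), u2 _ hs, one_mul,
        h.x_zero, sgn_one m1 m2, one_mul]
      exact u4

/-- **Second case**: a sign character of `Z3`, trivial on `X₄`, non-trivial on `X₂`. -/
theorem case_A2 [Finite G] {lam : G → ℂ} (l1 : ∀ a ∈ Z3 h, ∀ b ∈ Z3 h, lam (a * b) = lam a * lam b)
    (l2 : ∀ a ∈ Z3 h, lam a = 1 ∨ lam a = -1) (k4 : ∀ s, σ s = s → lam (x 4 s) = 1) {t0 : E} (ht0 : σ t0 = t0)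
    (k2 : lam (x 2 t0) ≠ 1) {χ : T σ x → ℂ} (hχ : IsIrrCharacter (T σ x) χ)
    (l3 : ∑ᶠ z : Z3 h, χ ⟨z, A2_le h (Z3_le_A2 h z.2)⟩ * lam z ≠ 0) : fsi χ = 1 := by
  have z : σ (0 : E) = 0 := map_zero σ
  obtain ⟨mu, m1, m2, m3, m4⟩ := exists_sign_amb (T σ x) (A2 σ x) (Z3 h) (A2_le h) (Z3_le_A2 h) lam l1 l2 (by
    intro g hg
    obtain ⟨b, c, d, e, f, hb, hd, hf, he, rfl⟩ := (mem_A2 h).1 hg
    rw [sq_A2 h hb hd hf]
    have hfix : σ (b * f + trc σ c e) = b * f + trc σ c e := by rw [map_add, map_mul, hb, hf, h.fix_trc]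
    exact ⟨x4_mem h hfix, k4 _ hfix⟩) χ l3
  have u2 : mu (x 2 t0) ≠ 1 := by rw [m3 _ (x2_mem h ht0)]; exact k2
  have u4 : ∀ s, σ s = s → mu (x 4 s) = 1 := fun s hs => by rw [m3 _ (x4_mem h hs)]; exact k4 s hs
  refine mono_amb (T σ x) (A2 σ x) (A2_le h) mu m1 m2 ?_ hχ m4
  intro g hgT hgA
  obtain ⟨a, b, c, d, e, f, hb, hd, hf, ha, he, rfl⟩ := (mem_T h).1 hgT
  have ha0 : a ≠ 0 := by
    intro a0
    apply hgA
    rw [a0, h.uq]
    exact (mem_A2 h).2 ⟨b, c, d, e, f, hb, hd, hf, he, rfl⟩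
  have e1 := conj_q234 h (a := a) (b := b) (c := c) (d := d) (e := e) (f := f) (B := 0) (C := t0 / a) (D := 0)
    hb hd hf z z
  rw [h.q3, h.trc_div ha0 ht0, zero_add, zero_mul, zero_add, zero_add] at e1
  have hD : σ (trc σ (t0 / a) e) = trc σ (t0 / a) e := h.fix_trc _ _
  refine ⟨x 3 (t0 / a), X3_le_A2 h _, ?_, ?_⟩
  · rw [e1]
    exact (mem_A2 h).2 ⟨_, _, _, _, _, ht0, hD, z, trc_zero_right 1, rfl⟩
  · rw [e1, sgn_q h m1 (Z3_le_A2 h (x2_mem h ht0)) (X3_le_A2 h _) (Z3_le_A2 h (x4_mem h hD)), u4 _ hD, mul_one]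
    intro e2
    apply u2
    have e3 := sgn_sq m2 (X3_le_A2 h (t0 / a))
    calc mu (x 2 t0) = (mu (x 2 t0) * mu (x 3 (t0 / a))) * mu (x 3 (t0 / a)) := by rw [mul_assoc, e3, mul_one]
      _ = 1 := by rw [e2, e3]

/-- conjugation of `x 5 e'` -/
theorem conj_x5 {a b c d e f e' : E} (hb : σ b = b) (hd : σ d = d) (hf : σ f = f) :
    uu x a b c d e f * x 5 e' * (uu x a b c d e f)⁻¹ = q x (trc σ a (crs σ a e') + trc σ (shp σ a) e') (crs σ a e')
      (trc σ a (shp σ e') + trc σ c e') e' 0 := by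
  have z : σ (0 : E) = 0 := map_zero σ
  have hB : σ (trc σ a (crs σ a e') + trc σ (shp σ a) e') = trc σ a (crs σ a e') + trc σ (shp σ a) e' := by
    rw [map_add, h.fix_trc, h.fix_trc]
  have hD : σ (trc σ a (shp σ e') + trc σ c e') = trc σ a (shp σ e') + trc σ c e' := by
    rw [map_add, h.fix_trc, h.fix_trc]
  rw [mul_inv_eq_iff_eq_mul, ← h.q5, h.uu_q z z z hb hd hf, h.q_uu hB hD z hb hd hf]
  congr 1
  · simp only [zero_mul, add_zero]
    have e1 : trc σ a (crs σ a e') + trc σ (shp σ a) e' + trc σ a (crs σ a e') + trc σ (shp σ a) e' + b =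
      b + (trc σ a (crs σ a e') + trc σ a (crs σ a e')) + (trc σ (shp σ a) e' + trc σ (shp σ a) e') := by ring
    rw [e1, h.add_self, h.add_self, add_zero, add_zero]
  · simp only [zero_mul, add_zero]
    rw [h.add_self, zero_add]
  · simp only [zero_mul, mul_zero, add_zero, trc_zero_left, show (0 : E) ^ 2 = 0 by norm_num]
    have e1 : trc σ a (shp σ e') + trc σ c e' + trc σ a (shp σ e') + d + trc σ c e' =
      d + (trc σ a (shp σ e') + trc σ a (shp σ e')) + (trc σ c e' + trc σ c e') := by ring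
    rw [e1, h.add_self, h.add_self, add_zero, add_zero]
  · rw [zero_mul, add_zero, add_comm]
  · rw [add_zero, zero_add]

/-- **Third case**: a sign character of `Z3`, trivial on `X₂X₄`, non-trivial on `X₃(F)`. -/
theorem case_A3 [Finite G] {lam : G → ℂ} (l1 : ∀ a ∈ Z3 h, ∀ b ∈ Z3 h, lam (a * b) = lam a * lam b)
    (l2 : ∀ a ∈ Z3 h, lam a = 1 ∨ lam a = -1) (k2 : ∀ s, σ s = s → lam (x 2 s) = 1)
    (k4 : ∀ s, σ s = s → lam (x 4 s) = 1) {t0 : E} (ht0 : σ t0 = t0)
    (k3 : lam (x 3 t0) ≠ 1) {χ : T σ x → ℂ} (hχ : IsIrrCharacter (T σ x) χ)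
    (l3 : ∑ᶠ z : Z3 h, χ ⟨z, A2_le h (Z3_le_A2 h z.2)⟩ * lam z ≠ 0) : fsi χ = 1 := by
  have z : σ (0 : E) = 0 := map_zero σ
  obtain ⟨mu, m1, m2, m3, m4⟩ := exists_sign_amb (T σ x) (A2 σ x) (Z3 h) (A2_le h) (Z3_le_A2 h) lam l1 l2 (by
    intro g hg
    obtain ⟨b, c, d, e, f, hb, hd, hf, he, rfl⟩ := (mem_A2 h).1 hg
    rw [sq_A2 h hb hd hf]
    have hfix : σ (b * f + trc σ c e) = b * f + trc σ c e := by rw [map_add, map_mul, hb, hf, h.fix_trc]
    exact ⟨x4_mem h hfix, k4 _ hfix⟩) χ l3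
  have u3 : mu (x 3 t0) ≠ 1 := by rw [m3 _ (x3_mem h ht0)]; exact k3
  have u2 : ∀ s, σ s = s → mu (x 2 s) = 1 := fun s hs => by rw [m3 _ (x2_mem h hs)]; exact k2 s hs
  have u4 : ∀ s, σ s = s → mu (x 4 s) = 1 := fun s hs => by rw [m3 _ (x4_mem h hs)]; exact k4 s hs
  refine mono_amb (T σ x) (A2 σ x) (A2_le h) mu m1 m2 ?_ hχ m4
  intro g hgT hgA
  obtain ⟨a, b, c, d, e, f, hb, hd, hf, ha, he, rfl⟩ := (mem_T h).1 hgT
  have ha0 : a ≠ 0 := by
    intro a0
    apply hgA
    rw [a0, h.uq]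
    exact (mem_A2 h).2 ⟨b, c, d, e, f, hb, hd, hf, he, rfl⟩
  have hta : trc σ a t0 = 0 := by
    have := trc_smul_right ht0 a 1
    rw [mul_one, ha, mul_zero] at this
    exact this
  have hcr := h.crs_solve ha0 hta
  set e' := a * (t0 / shp σ a) with he'
  -- the trace of `e'`
  have htr : trc σ 1 e' = 0 := by
    have hn : nrm σ a ≠ 0 := nrm_ne_zero ha0
    have hs : shp σ a ≠ 0 := shp_ne_zero ha0
    have hns : nrm σ a = a * shp σ a := by unfold nrm shp; ring
    have e1 : e' = (t0 / nrm σ a) * (a * a) := by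
      rw [he', hns]
      field_simp
    have hq : σ (t0 / nrm σ a) = t0 / nrm σ a := by rw [map_div₀, ht0, h.fix_nrm]
    rw [e1, trc_smul_right hq]
    have e2 : trc σ 1 (a * a) = trc σ a 1 * trc σ a 1 := by
      have h2 := h.two
      unfold trc
      simp only [one_mul, mul_one, map_mul]
      linear_combination -(a * σ a + a * σ (σ a) + σ a * σ (σ a)) * h2
    rw [e2, ha, zero_mul, mul_zero]
  have e1 := conj_x5 h (a := a) (b := b) (c := c) (d := d) (e := e) (f := f) (e' := e') hb hd hf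
  rw [hcr] at e1
  have hB : σ (trc σ a t0 + trc σ (shp σ a) e') = trc σ a t0 + trc σ (shp σ a) e' := by
    rw [map_add, h.fix_trc, h.fix_trc]
  have hD : σ (trc σ a (shp σ e') + trc σ c e') = trc σ a (shp σ e') + trc σ c e' := by
    rw [map_add, h.fix_trc, h.fix_trc]
  have m5 : x 5 e' ∈ A2 σ x := (mem_A2 h).2 ⟨0, 0, 0, e', 0, z, z, z, htr, (h.q5 e').symm⟩
  refine ⟨x 5 e', m5, ?_, ?_⟩
  · rw [e1]
    exact (mem_A2 h).2 ⟨_, _, _, _, _, hB, hD, z, htr, rfl⟩
  · have e2 : q x (trc σ a t0 + trc σ (shp σ a) e') t0 (trc σ a (shp σ e') + trc σ c e') e' 0 =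
        q x (trc σ a t0 + trc σ (shp σ a) e') t0 (trc σ a (shp σ e') + trc σ c e') 0 0 * x 5 e' := by
      unfold q
      rw [h.x_zero, h.x_zero, mul_one, mul_one, mul_one]
    rw [e1, e2, m1 _ (Z3_le_A2 h ⟨_, _, _, hB, ht0, hD, rfl⟩) _ m5,
      sgn_q h m1 (Z3_le_A2 h (x2_mem h hB)) (X3_le_A2 h _) (Z3_le_A2 h (x4_mem h hD)), u2 _ hB, u4 _ hD, one_mul, mul_one]
    intro e3
    apply u3
    have e4 := sgn_sq m2 m5
    calc mu (x 3 t0) = (mu (x 3 t0) * mu (x 5 e')) * mu (x 5 e') := by rw [mul_assoc, e4, mul_one]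
      _ = 1 := by rw [e3, e4]

omit h in
/-- the fixed elements as a field -/
theorem fix_mem (u : Fix σ) : σ (u : E) = u := mem_Fix.1 u.2

/-- **`T` has no indicator `-1`.** -/
theorem T_good [Finite E] [Finite G] : FSGood True (T σ x) := by
  have z : σ (0 : E) = 0 := map_zero σ
  intro χ hχ
  have hNle := N_le h
  rcases dich (T σ x) (Z3 h) ((Z3_le_A1 h).trans (A1_le h)) (fun g hg => Z3_sq h hg) χ with
    ⟨lam, l1, l2, ⟨z0, hz0, hz1⟩, l3⟩ | hker
  · left
    have s1 := sgn_one l1 l2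
    by_cases h4 : ∃ t, σ t = t ∧ lam (x 4 t) ≠ 1
    · -- conjugate by `x 6 u`
      obtain ⟨t0, ht0, k4⟩ := h4
      obtain ⟨u, hu⟩ := dual (F := Fix σ) (fun s => lam (x 2 s)) (fun s => lam (x 4 s))
        (fun s t => by
          show lam (x 2 ((s : E) + t)) = _
          rw [h.add 2 _ _ (ok_of_fix 2 (fix_mem s)) (ok_of_fix 2 (fix_mem t)),
            l1 _ (x2_mem h (fix_mem s)) _ (x2_mem h (fix_mem t))])
        (fun s t => by
          show lam (x 4 ((s : E) + t)) = _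
          rw [h.add 4 _ _ (ok_of_fix 4 (fix_mem s)) (ok_of_fix 4 (fix_mem t)),
            l1 _ (x4_mem h (fix_mem s)) _ (x4_mem h (fix_mem t))])
        (by show lam (x 2 ((0 : Fix σ) : E)) = 1; rw [ZeroMemClass.coe_zero, h.x_zero, s1])
        (by show lam (x 4 ((0 : Fix σ) : E)) = 1; rw [ZeroMemClass.coe_zero, h.x_zero, s1])
        ⟨⟨t0, mem_Fix.2 ht0⟩, k4⟩
      have hu' : ∀ s, σ s = s → lam (x 2 s) = lam (x 4 (u * s)) := fun s hs => hu ⟨s, mem_Fix.2 hs⟩
      have fu := fix_mem u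
      have e6 : ∀ b c d, σ b = b → σ d = d → x 6 (u : E) * q x b c d 0 0 * (x 6 (u : E))⁻¹ = q x b c (d + b * u) 0 0 := by
        intro b c d hb hd
        have := conj_q234 h (a := 0) (b := 0) (c := 0) (d := 0) (e := 0) (f := (u : E)) (B := b) (C := c) (D := d)
          z z fu hb hd
        rw [h.uq, h.q6, trc_zero_left, trc_zero_right, add_zero, add_zero] at this
        exact this
      have hp6 : x 6 (u : E) ∈ T σ x := (mem_T h).2 ⟨0, 0, 0, 0, 0, u, z, z, fu, trc_zero_left 1, trc_zero_right 1, by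
        rw [h.uq, h.q6]⟩
      have hn1 : ∀ g ∈ Z3 h, x 6 (u : E) * g * (x 6 (u : E))⁻¹ ∈ Z3 h := by
        rintro _ ⟨b, c, d, hb, hc, hd, rfl⟩
        rw [e6 b c d hb hd]
        exact ⟨_, _, _, hb, hc, by rw [map_add, map_mul, hb, hd, fu], rfl⟩
      have hinv : (x 6 (u : E))⁻¹ = x 6 (u : E) := h.x_inv (ok_of_fix 6 fu)
      have hn2 : ∀ g, g ∈ Z3 h ↔ x 6 (u : E) * g * (x 6 (u : E))⁻¹ ∈ Z3 h := by
        intro g
        refine ⟨hn1 g, fun hg => ?_⟩
        have := hn1 _ hg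
        have e1 : x 6 (u : E) * (x 6 (u : E) * g * (x 6 (u : E))⁻¹) * (x 6 (u : E))⁻¹ = g := by
          calc x 6 (u : E) * (x 6 (u : E) * g * (x 6 (u : E))⁻¹) * (x 6 (u : E))⁻¹ =
              x 6 (u : E) * (x 6 (u : E)) * g * ((x 6 (u : E))⁻¹ * (x 6 (u : E))⁻¹) := by group
            _ = g := by rw [hinv, h.x_sq (ok_of_fix 6 fu), one_mul, mul_one]
        rwa [e1] at this
      have l3' := conj_over (T σ x) (Z3 h) ((Z3_le_A1 h).trans (A1_le h)) hp6 hn2 lam hχ l3
      refine case_A1 h (lam := fun g => lam (x 6 (u : E) * g * (x 6 (u : E))⁻¹)) ?_ ?_ ?_ ht0 ?_ hχ l3'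
      · intro a ha b hb
        show lam _ = lam _ * lam _
        rw [← l1 _ (hn1 a ha) _ (hn1 b hb)]
        congr 1
        group
      · intro a ha
        exact l2 _ (hn1 a ha)
      · intro s hs
        show lam _ = 1
        have e1 := e6 s 0 0 hs z
        rw [h.q2] at e1
        rw [e1, sgn_q h l1 (x2_mem h hs) (x3_mem h z) (x4_mem h (by rw [zero_add, map_mul, hs, fu])), h.x_zero, s1,
          mul_one, hu' s hs, zero_add, mul_comm s]
        exact sgn_sq l2 (x4_mem h (by rw [map_mul, hs, fu]))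
      · show lam _ ≠ 1
        have e1 := e6 0 0 t0 z ht0
        rw [h.q4, zero_mul, add_zero, h.q4] at e1
        rw [e1]
        exact k4
    · push Not at h4
      by_cases h2 : ∃ s, σ s = s ∧ lam (x 2 s) ≠ 1
      · obtain ⟨s, hs, k2⟩ := h2
        exact case_A2 h l1 l2 h4 hs k2 hχ l3
      · push Not at h2
        obtain ⟨b, c, d, hb, hc, hd, rfl⟩ := hz0
        rw [sgn_q h l1 (x2_mem h hb) (x3_mem h hc) (x4_mem h hd), h2 b hb, h4 d hd, one_mul, mul_one] at hz1
        exact case_A3 h l1 l2 h2 h4 hc hz1 hχ l3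
  · -- trivial on `Z3`
    obtain ⟨lam, k1, k2, -, k4⟩ := exists_linear ((N σ x).subgroupOf (T σ x)) ((Z3 h).subgroupOf (T σ x))
      (fun g hg => Subgroup.mem_subgroupOf.2 (Z3_le_N h (Subgroup.mem_subgroupOf.1 hg)))
      (fun g hg => by
        obtain ⟨a, b, c, d, e, hb, hd, ha, he, e1⟩ := (mem_N h).1 (Subgroup.mem_subgroupOf.1 hg)
        rw [Subgroup.mem_subgroupOf]
        show (g : G) * g ∈ Z3 h
        rw [e1]
        exact sq_N h hb hd ha he) hχ (fun g hg => hker g (Subgroup.mem_subgroupOf.1 hg))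
    let lam' : G → ℂ := fun g => open Classical in if hg : g ∈ N σ x then lam ⟨⟨g, hNle hg⟩, Subgroup.mem_subgroupOf.2 hg⟩ else 0
    have hl : ∀ (g : G) (hg : g ∈ N σ x), lam' g = lam ⟨⟨g, hNle hg⟩, Subgroup.mem_subgroupOf.2 hg⟩ := fun g hg =>
      dif_pos hg
    have fin6 : Finite (gen σ x {6}) := inferInstance
    have hdec : ∀ g ∈ T σ x, ∃ a ∈ N σ x, ∃ y : gen σ x {6}, g = a * (gen σ x {6}).subtype y := by
      intro g hg
      obtain ⟨a, b, c, d, e, f, hb, hd, hf, ha, he, rfl⟩ := (mem_T h).1 hg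
      refine ⟨uu x a b c d e 0, (mem_N h).2 ⟨a, b, c, d, e, hb, hd, ha, he, rfl⟩, ⟨x 6 f,
        x_mem_gen (Set.mem_singleton 6) (ok_of_fix 6 hf)⟩, ?_⟩
      show uu x a b c d e f = uu x a b c d e 0 * x 6 f
      unfold uu q
      rw [h.x_zero, mul_one]
      group
    have h6T : ∀ y : gen σ x {6}, (gen σ x {6}).subtype y ∈ T σ x := by
      rintro ⟨y, hy⟩
      obtain ⟨f, hf, rfl⟩ := h.mem_gen_singleton.1 hy
      have ff : σ f = f := hf (by decide)
      exact (mem_T h).2 ⟨0, 0, 0, 0, 0, f, z, z, ff, trc_zero_left 1, trc_zero_right 1, by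
        rw [h.uq, h.q6]; rfl⟩
    have hNn : ∀ g ∈ T σ x, ∀ a ∈ N σ x, g * a * g⁻¹ ∈ N σ x := by
      intro g hg a ha
      refine Subgroup.mem_inf.2 ⟨?_, (X3 x).mul_mem ((X3 x).mul_mem (Subgroup.mem_inf.1 hg).2
        (Subgroup.mem_inf.1 ha).2) ((X3 x).inv_mem (Subgroup.mem_inf.1 hg).2)⟩
      obtain ⟨a1, b1, c1, d1, e1, f1, hb1, hd1, hf1, ha1, he1, rfl⟩ := (mem_T h).1 hg
      obtain ⟨a2, b2, c2, d2, e2, hb2, hd2, ha2, he2, rfl⟩ := (mem_N h).1 ha
      -- the coordinate at 6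
      obtain ⟨a3, b3, c3, d3, e3, f3, hb3, hd3, hf3, e4⟩ := h.mem_UU.1 (mul_mem (mul_mem hg.1
        (uu_mem (x := x) (a := a2) (c := c2) (e := e2) hb2 hd2 z)) (inv_mem hg.1))
      rw [e4, h.mem_Q2]
      refine ⟨a3, b3, c3, d3, e3, hb3, hd3, ?_⟩
      have e5 : uu x a1 b1 c1 d1 e1 f1 * uu x a2 b2 c2 d2 e2 0 = uu x a3 b3 c3 d3 e3 f3 * uu x a1 b1 c1 d1 e1 f1 := by
        rw [← e4]; group
      rw [h.uu_mul hb1 hd1 hf1 hb2 hd2 z, h.uu_mul hb3 hd3 hf3 hb1 hd1 hf1] at e5
      have e6 := (h.uu_inj (by simp only [map_add, map_mul, h.fix_trc, h.fix_nrm, hb1, hb2, hf1])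
        (by simp only [map_add, map_mul, map_pow, h.fix_trc, h.fix_nrm, hb1, hb2, hf1, hd1, hd2])
        (by rw [map_add, hf1, z]) (by simp only [map_add, map_mul, h.fix_trc, h.fix_nrm, hb1, hb3, hf3])
        (by simp only [map_add, map_mul, map_pow, h.fix_trc, h.fix_nrm, hb1, hb3, hf3, hd1, hd3, hf1])
        (by rw [map_add, hf1, hf3]) e5).2.2.2.2.2
      have e7 : f3 = 0 := by
        have : f3 + f1 = 0 + f1 := by rw [← e6, add_zero, zero_add]
        exact add_right_cancel this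
      rw [e7]
    have := clifford_amb (T σ x) (N σ x) hNle hNn (gen σ x {6}).subtype h6T (fun y hy => by
        obtain ⟨f, hf, e1⟩ := h.mem_gen_singleton.1 y.2
        obtain ⟨a, b, c, d, e, hb, hd, ha, he, e2⟩ := (mem_N h).1 hy
        have ff : σ f = f := hf (by decide)
        have e3 : uu x 0 0 0 0 0 f = uu x a b c d e 0 := by
          rw [← e2, h.uq, h.q6]
          exact e1.symm
        have e4 := (h.uu_inj z z ff hb hd z e3).2.2.2.2.2
        apply Subtype.ext
        rw [e1, e4, h.x_zero]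
        rfl) hdec lam'
      (fun a ha b hb => by
        rw [hl a ha, hl b hb, hl _ (mul_mem ha hb), ← k1]
        rfl)
      (fun a ha => by rw [hl a ha]; exact k2 _)
      (w := True)
      { carrier := {y | ∀ a ∈ N σ x, lam' ((gen σ x {6}).subtype y * a * ((gen σ x {6}).subtype y)⁻¹) = lam' a}
        mul_mem' := by
          intro y y' hy hy' a ha
          rw [← hy' a ha, ← hy _ (hNn _ (h6T y') a ha), map_mul]
          congr 1
          group
        one_mem' := by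
          intro a ha
          rw [map_one, one_mul, inv_one, mul_one]
        inv_mem' := by
          intro y hy a ha
          have hm := hNn _ (h6T y⁻¹) a ha
          rw [← hy _ hm, map_inv]
          congr 1
          group }
      (fun y => Iff.rfl) (good_of_exp_two fun y => by
        obtain ⟨f, hf, e1⟩ := h.mem_gen_singleton.1 y.1.2
        apply Subtype.ext
        apply Subtype.ext
        show (y.1.1 : G) * y.1.1 = 1
        rw [e1, h.x_sq hf]) hχ (by
        intro h0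
        apply k4
        rw [← h0]
        let e : (N σ x).subgroupOf (T σ x) ≃ N σ x := (Subgroup.subgroupOfEquivOfLe hNle).toEquiv
        refine finsum_eq_of_bijective e e.bijective (fun a => ?_)
        show χ a * lam a = χ _ * lam' ((a : T σ x) : G)
        rw [hl _ (Subgroup.mem_subgroupOf.1 a.2)]
        rfl)
    exact this

end Cfsg.Agent.H168.FRHex.Short
end

-- part: H168/FRHex/ShortMain
section
/-!
# The centraliser of a short root involution, indicators (team SR, S4970; helper168)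

`short_good` : no irreducible character of `C(x 3 1)` has indicator `-1`.
-/

set_option autoImplicit false
set_option linter.unusedVariables false

namespace Cfsg.Agent.H168.FRHex.Short

open Cfsg Cfsg.Agent.H955.FS Cfsg.Agent.StdRank2.Hex Cfsg.Agent.StdRank2.Hex.HexTwo Cfsg.Agent.SplitTwo
open Cfsg.Agent.H168.SRHex

universe u v

variable {E : Type u} [Field E] {σ : E ≃+* E} {G : Type v} [Group G] {x : ZMod 12 → E → G}
variable (h : HexTwo σ x)
include h

theorem ci_L [Finite E] (k : ZMod 12) : CI (gen σ x {k, k + 6}) := by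
  obtain ⟨K, _, _, ι, θ, hP, hi, -, -, -, hr⟩ := Levi.exists_theta h k
  rintro ⟨t, ht⟩ ⟨y, hy⟩ e1 h1 e2
  rw [← hr] at ht hy
  obtain ⟨A, rfl⟩ := ht
  obtain ⟨B, rfl⟩ := hy
  have := SLTwo.sq_of_comm (l := A) (s := B) (hi (by rw [map_mul, map_one]; exact congrArg Subtype.val e1))
    (fun e3 => h1 (Subtype.ext (by show θ A = 1; rw [e3, map_one])))
    (hi (by rw [map_mul, map_mul]; exact congrArg Subtype.val e2))
  apply Subtype.ext
  show θ B * θ B = 1
  rw [← map_mul, this, map_one]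

theorem L_comm3 {y : G} (hy : y ∈ gen σ x {(0 : ZMod 12), 0 + 6}) (c : E) : y * x 3 c = x 3 c * y := by
  have e06 : (0 : ZMod 12) + 6 = 6 := by decide
  have key : ∀ y ∈ gen σ x {(0 : ZMod 12), 0 + 6}, Commute y (x 3 c) := by
    intro y hy
    unfold gen at hy
    induction hy using Subgroup.closure_induction with
    | mem y hy =>
      obtain ⟨k, hk, t, ht, rfl⟩ := hy
      rcases hk with rfl | hk
      · exact swap (h.commL3 (k := 0) (by decide) (ht (by decide)) c)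
      · rw [Set.mem_singleton_iff, e06] at hk
        subst hk
        exact (h.s36 c (ht (by decide))).symm
    | one => exact Commute.one_left _
    | mul y z _ _ h1 h2 => exact h1.mul_left h2
    | inv y _ h1 => exact h1.inv_left
  exact key y hy

/-- elements of `L` commuting with `x 6 a` -/
theorem mem_6_of_comm [Finite E] {y : G} (hy : y ∈ gen σ x {(0 : ZMod 12), 0 + 6}) {a : E} (ha : σ a = a)
    (ha0 : a ≠ 0) (e : y * x 6 a = x 6 a * y) : y ∈ gen σ x {6} := by
  have e06 : (0 : ZMod 12) + 6 = 6 := by decide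
  have e66 : (6 : ZMod 12) + 6 = 0 := by decide
  have ha6 : Ok σ 6 a := ok_of_fix 6 ha
  have hy' : y ∈ gen σ x {(6 : ZMod 12), 6 + 6} := by
    rw [e66]
    rw [e06] at hy
    have : ({0, 6} : Set (ZMod 12)) = {6, 0} := Set.pair_comm 0 6
    rw [← this]
    exact hy
  rcases h.rank_bruhat hy' with ⟨b, t, hb, ht, ht0, rfl⟩ | ⟨b, t, b', hb, ht, hb', ht0, rfl⟩
  · have e2 := h.tor 6 6 ht0 ht ha6
    rw [sub_self, ch_zero_right] at e2
    have okt : Ok σ 6 (t ^ 2 * a) := by rw [pow_two]; exact (ht.mul ht).mul ha6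
    have e3 : x 6 b * hh x 6 t * x 6 a * (x 6 b * hh x 6 t)⁻¹ = x 6 (t ^ 2 * a) := by
      calc x 6 b * hh x 6 t * x 6 a * (x 6 b * hh x 6 t)⁻¹ = x 6 b * (hh x 6 t * x 6 a * (hh x 6 t)⁻¹) * (x 6 b)⁻¹ := by
            group
        _ = x 6 (t ^ 2 * a) := by rw [e2, (h.x_comm_same hb okt).eq, mul_inv_cancel_right]
    rw [e, mul_inv_cancel_right, h.x_inj ha6 okt] at e3
    have ht1 : t = 1 := by
      apply h.sq_eq_one
      have : 1 * a = t ^ 2 * a := by rw [one_mul]; exact e3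
      rw [← pow_two]
      exact (mul_right_cancel₀ ha0 this).symm
    rw [ht1, h.hh_one, mul_one]
    exact x_mem_gen (Set.mem_singleton 6) hb
  · exfalso
    have e2 := h.refl 6 6 ha6
    have i0 : 2 * (6 : ZMod 12) + 6 - 6 = 0 := by decide
    rw [i0] at e2
    have ha00 : Ok σ 0 a := ok_of_fix 0 ha
    have e3 := h.tor 6 0 ht0 ht ha00
    set c := ch σ 6 (0 - 6) t * a with hc
    have okc : Ok σ 0 c := by
      have := h.ok_chi 6 0 (t := t) ht
      exact this.mul ha00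
    have e4 : x 6 b * x 0 c * (x 6 b)⁻¹ = x 6 a := by
      calc x 6 b * x 0 c * (x 6 b)⁻¹ = x 6 b * (hh x 6 t * (nn x 6 * x 6 a * (nn x 6)⁻¹) * (hh x 6 t)⁻¹) * (x 6 b)⁻¹ := by
            rw [e2, e3]
        _ = x 6 b * (hh x 6 t * (nn x 6 * (x 6 b' * x 6 a * (x 6 b')⁻¹) * (nn x 6)⁻¹) * (hh x 6 t)⁻¹) * (x 6 b)⁻¹ := by
            rw [(h.x_comm_same hb' ha6).eq, mul_inv_cancel_right]
        _ = (x 6 b * hh x 6 t * nn x 6 * x 6 b') * x 6 a * (x 6 b * hh x 6 t * nn x 6 * x 6 b')⁻¹ := by group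
        _ = x 6 a := by rw [e, mul_inv_cancel_right]
    have e5 : x 6 a = x 0 c := by
      calc x 6 a = (x 6 b)⁻¹ * (x 6 b * x 6 a) := by group
        _ = (x 6 b)⁻¹ * (x 6 a * x 6 b) := by rw [(h.x_comm_same hb ha6).eq]
        _ = (x 6 b)⁻¹ * (x 6 b * x 0 c * (x 6 b)⁻¹) * x 6 b := by rw [e4]; group
        _ = x 0 c := by group
    exact absurd (h.root_unique ha6 okc ha0 e5) (by decide)

/-- 2-subgroups of `L` -/
theorem sylow_L [Finite E] [Finite G] (P : Subgroup G) (hPL : P ≤ gen σ x {(0 : ZMod 12), 0 + 6}) (hP : IsPGroup 2 P) :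
    ∃ l ∈ gen σ x {(0 : ZMod 12), 0 + 6}, ∀ g ∈ P, l * g * l⁻¹ ∈ gen σ x {6} := by
  have e06 : (0 : ZMod 12) + 6 = 6 := by decide
  by_cases hb : (⊤ : Subgroup P) = ⊥
  · refine ⟨1, one_mem _, fun g hg => ?_⟩
    have h1 : (⟨g, hg⟩ : P) ∈ (⊤ : Subgroup P) := Subgroup.mem_top _
    rw [hb, Subgroup.mem_bot] at h1
    have h2 : g = 1 := congrArg Subtype.val h1
    rw [h2, mul_one, mul_inv_cancel]
    exact one_mem _
  · obtain ⟨z, -, hz1, hz2, hz3⟩ := exists_inv_center hP ⊤ hb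
    obtain ⟨p, hp, a, ha, ha0, e1⟩ := Levi.L_conj_x h (k := 0) (hPL z.2) (congrArg Subtype.val hz2)
      (fun e => hz1 (Subtype.ext e))
    have fa : σ a = a := ha (by decide)
    have hn : nn x 6 ∈ gen σ x {(0 : ZMod 12), 0 + 6} := by
      refine nn_mem_gen ?_ ?_
      · rw [e06]; exact Set.mem_insert_of_mem _ (Set.mem_singleton 6)
      · have e66 : (6 : ZMod 12) + 6 = 0 := by decide
        rw [e66]; exact Set.mem_insert _ _
    have hl : nn x 6 * p ∈ gen σ x {(0 : ZMod 12), 0 + 6} := mul_mem hn hp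
    refine ⟨nn x 6 * p, hl, fun g hg => ?_⟩
    refine mem_6_of_comm h (mul_mem (mul_mem hl (hPL hg)) (inv_mem hl)) fa ha0 ?_
    have e2 : nn x 6 * x 0 a * (nn x 6)⁻¹ = x 6 a := by
      have := h.refl 6 0 ha
      have i0 : 2 * (6 : ZMod 12) + 6 - 0 = 6 := by decide
      rwa [i0] at this
    have e3 : (nn x 6 * p) * z * (nn x 6 * p)⁻¹ = x 6 a := by
      calc (nn x 6 * p) * z * (nn x 6 * p)⁻¹ = nn x 6 * (p * z * p⁻¹) * (nn x 6)⁻¹ := by group
        _ = x 6 a := by rw [e1, e2]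
    have e4 : g * z = z * g := congrArg Subtype.val (hz3 ⟨g, hg⟩)
    rw [← e3]
    calc nn x 6 * p * g * (nn x 6 * p)⁻¹ * (nn x 6 * p * z * (nn x 6 * p)⁻¹) = nn x 6 * p * (g * z) * (nn x 6 * p)⁻¹ := by
          group
      _ = nn x 6 * p * (z * g) * (nn x 6 * p)⁻¹ := by rw [e4]
      _ = _ := by group

/-- **The centraliser of a short root involution has no indicator `-1`.** -/
theorem short_good [Finite E] [Finite G] (hA : AA σ x = ⊤) : FSGood True (X3 x) := by
  have e01 : (0 : ZMod 12) + 1 = 1 := by decide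
  have hLX : gen σ x {(0 : ZMod 12), 0 + 6} ≤ X3 x := fun y hy => mem_X3.2 (L_comm3 h hy 1)
  have hNX : N σ x ≤ X3 x := fun y hy => (Subgroup.mem_inf.1 hy).2
  have hdec : ∀ g ∈ X3 x, ∃ n ∈ N σ x, ∃ l ∈ gen σ x {(0 : ZMod 12), 0 + 6}, g = n * l := by
    intro g hg
    have h1 := Cen.mem_P_of_comm h (g := g) (by rw [hA]; exact Subgroup.mem_top g) (by
      rw [mem_X3.1 hg, mul_inv_cancel_right])
    obtain ⟨n, hn, l, hl, rfl⟩ := (h.mem_P 0).1 h1
    refine ⟨n, Subgroup.mem_inf.2 ⟨?_, ?_⟩, l, hl, rfl⟩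
    · rw [e01] at hn; exact hn
    · have := (X3 x).mul_mem hg ((X3 x).inv_mem (hLX hl))
      rwa [mul_inv_cancel_right] at this
  have hNn : ∀ g ∈ X3 x, ∀ n ∈ N σ x, g * n * g⁻¹ ∈ N σ x := by
    intro g hg n hn
    have h1 := Cen.mem_P_of_comm h (g := g) (by rw [hA]; exact Subgroup.mem_top g) (by
      rw [mem_X3.1 hg, mul_inv_cancel_right])
    refine Subgroup.mem_inf.2 ⟨?_, (X3 x).mul_mem ((X3 x).mul_mem hg (hNX hn)) ((X3 x).inv_mem hg)⟩
    have := Levi.Q_conj h (k := 0) h1 (y := n) (by rw [e01]; exact (Subgroup.mem_inf.1 hn).1)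
    rwa [e01] at this
  have hNL : ∀ g ∈ N σ x, g ∈ gen σ x {(0 : ZMod 12), 0 + 6} → g = 1 := fun g hg hgL =>
    Levi.eq_one_of_LQ h hgL (by rw [e01]; exact (Subgroup.mem_inf.1 hg).1)
  have hNU : N σ x ≤ UU σ x := (N_le h).trans inf_le_left
  have hN2 : IsPGroup 2 (N σ x) := h.isPGroup_U.to_le hNU
  have hCN : gen σ x {3} ≤ N σ x := by
    intro y hy
    obtain ⟨c, hc, rfl⟩ := h.mem_gen_singleton.1 hy
    exact (mem_N h).2 ⟨0, 0, c, 0, 0, map_zero σ, map_zero σ, trc_zero_left 1, trc_zero_right 1, by rw [h.uq, h.q3]⟩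
  refine good_of_levi (X3 x) (N σ x) (gen σ x {(0 : ZMod 12), 0 + 6}) (gen σ x {3}) (T σ x) hNX hLX hdec hNn hNL hN2
    (ci_L h 0) hCN ?_ ?_ ?_ inf_le_right (T_good h) ?_
  · intro c hc
    obtain ⟨a, ha, rfl⟩ := h.mem_gen_singleton.1 hc
    exact h.x_sq ha
  · intro c hc l hl
    obtain ⟨a, ha, rfl⟩ := h.mem_gen_singleton.1 hc
    exact L_comm3 h hl a
  · intro s hs hs1 n hn e
    obtain ⟨c, rfl⟩ := LTwo.mem_X3 h hs hs1 (by rw [e01]; exact (Subgroup.mem_inf.1 hn).1) e
    exact x_mem_gen (Set.mem_singleton 3) (ok3 c)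
  · intro P hPX hP
    refine sylow_of_levi (X3 x) (N σ x) (gen σ x {(0 : ZMod 12), 0 + 6}) (gen σ x {6}) (T σ x) hNX hLX hdec hNn hNL ?_
      (fun P hPL hP => sylow_L h P hPL hP) P hPX hP
    intro n hn s hs
    obtain ⟨f, hf, rfl⟩ := h.mem_gen_singleton.1 hs
    have ff : σ f = f := hf (by decide)
    have z : σ (0 : E) = 0 := map_zero σ
    refine (T σ x).mul_mem (N_le h hn) ((mem_T h).2 ⟨0, 0, 0, 0, 0, f, z, z, ff, trc_zero_left 1, trc_zero_right 1, by
      rw [h.uq, h.q6]⟩)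

end Cfsg.Agent.H168.FRHex.Short
end

-- part: H893/FR/Hei
section
/-!
# Fully ramified sign characters (team SR, S4970, P3; helper893)

`Hei N P A Z lam` : `Z ≤ A ∩ N` central in `G`, `P = A N`, `lam` a sign character of `A`, Mackey in `N`,
`|A ∩ N|² = |N| |Z|`. Then `θ = Ind_{A ∩ N}^N lam` is the only irreducible character of `N` over `lam | Z`, it has
indicator one and it extends to the real irreducible character `η = Ind_A^P lam` of `P`.
-/

set_option autoImplicit false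
set_option linter.unusedSectionVars false

universe u

namespace Cfsg.Agent.H893.FR

open Cfsg Cfsg.Agent.H955.FS
open Cfsg.Agent.Characters.Core
open scoped ComplexConjugate

structure Hei {G : Type u} [Group G] (N P A Z : Subgroup G) (lam : G → ℂ) : Prop where
  NP : N ≤ P
  AP : A ≤ P
  ZA : Z ≤ A
  ZN : Z ≤ N
  PN : ∀ p ∈ P, ∃ a ∈ A, ∃ n ∈ N, p = a * n
  cen : ∀ z ∈ Z, ∀ g, g * z = z * g
  mul : ∀ a ∈ A, ∀ b ∈ A, lam (a * b) = lam a * lam b
  pm : ∀ a ∈ A, lam a = 1 ∨ lam a = -1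
  mac : ∀ n ∈ N, n ∉ A → ∃ a ∈ A, a ∈ N ∧ n * a * n⁻¹ ∈ A ∧ lam (n * a * n⁻¹) ≠ lam a
  card : Nat.card ↥(A ⊓ N) ^ 2 = Nat.card N * Nat.card Z

section One

variable {G : Type u} [Group G] [Finite G]

/-- monomial characters: irreducibility, reality, value at central elements -/
theorem mackey (A : Subgroup G) (lam : A → ℂ)
    (hlam : ∀ a b : A, lam (a * b) = lam a * lam b) (hpm : ∀ a, lam a = 1 ∨ lam a = -1)
    (hM : ∀ g : G, g ∉ A → ∃ (a : A) (h : g * a * g⁻¹ ∈ A), lam ⟨g * a * g⁻¹, h⟩ ≠ lam a) :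
    ∃ χ : G → ℂ, IsIrrCharacter G χ ∧ χ 1 = A.index ∧ fsi χ = 1 ∧ (∀ g, (χ g).im = 0) ∧
      (∀ z (hz : z ∈ A), (∀ g, g * z = z * g) → χ z = lam ⟨z, hz⟩ * χ 1) := by
  classical
  have := Fintype.ofFinite G
  have := Fintype.ofFinite A
  have hll : ∀ a, lam a * lam a = 1 := by
    intro a
    rcases hpm a with h | h <;> rw [h] <;> norm_num
  have hone : lam 1 = 1 := by
    have h := hlam 1 1
    rw [mul_one] at h
    rcases hpm 1 with h1 | h1
    · exact h1
    · rw [h1] at h; norm_num at h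
  have hconj : ∀ a, conj (lam a) = lam a := by
    intro a
    rcases hpm a with h | h <;> rw [h] <;> simp only [_root_.map_one, _root_.map_neg]
  let f : A →* ℂˣ := MonoidHom.mk' (fun a => ⟨lam a, lam a, hll a, hll a⟩) fun a b =>
    Units.ext (hlam a b)
  have hf : ∀ a, ((f a : ℂˣ) : ℂ) = lam a := fun a => rfl
  have hirr : IsIrrCharacter G (indFun A lam) := by
    refine Cfsg.Agent.CharactersDeep.MackeyLinear.isIrrCharacter_indFun A f fun x hx => ?_
    obtain ⟨a, ha, hne⟩ := hM x⁻¹ (fun h => hx ((inv_mem_iff).1 h))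
    have e : x⁻¹ * (a : G) * x⁻¹⁻¹ = x⁻¹ * a * x := by rw [inv_inv]
    refine ⟨a, by rw [← e]; exact ha, fun h => hne ?_⟩
    have h1 := congrArg (fun z : ℂˣ => (z : ℂ)) h
    simp only [hf] at h1
    rw [h1]
    congr 1
    exact Subtype.ext e
  have hlamI : IsIrrCharacter A lam := isIrr_sign lam hlam hpm
  refine ⟨indFun A lam, hirr, ?_, ?_, ?_, ?_⟩
  · rw [CharactersDeep.NormalInd.indFun_one, hone, mul_one]
  · refine Cfsg.Agent.H168.FRHex.mono A lam hlam hpm hM hirr ?_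
    have h1 := CharactersDeep.NormalInd.classInner_indFun A lam (indFun A lam) (isIrr_isClassFunction hirr)
    rw [classInner_irr_self hirr, classInner_def] at h1
    rw [finsum_eq_sum_of_fintype]
    intro h0
    have h2 : ∑ a : A, lam a * conj (indFun A lam (a : G)) = conj (∑ a : A, indFun A lam a * lam a) := by
      rw [map_sum]
      refine Finset.sum_congr rfl fun a _ => ?_
      rw [map_mul, hconj, mul_comm]
    rw [h2, h0, map_zero, mul_zero] at h1
    exact one_ne_zero h1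
  · intro g
    rw [← Complex.conj_eq_iff_im]
    have h2 : (fun a => conj (lam a)) = lam := funext hconj
    have h3 := indFun_conj A lam
    rw [h2] at h3
    exact (congrFun h3 g).symm
  · intro z hz hc
    have e0 : ∀ x : G, extendByZero A lam (x⁻¹ * z * x) = lam ⟨z, hz⟩ * extendByZero A lam (x⁻¹ * 1 * x) := by
      intro x
      have e1 : x⁻¹ * z * x = z := by
        rw [hc x⁻¹, mul_assoc, inv_mul_cancel, mul_one]
      have e2 : x⁻¹ * 1 * x = 1 := by rw [mul_one, inv_mul_cancel]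
      rw [e1, e2, extendByZero_of_mem A lam hz, extendByZero_of_mem A lam (one_mem A)]
      have e3 : (⟨1, one_mem A⟩ : A) = 1 := rfl
      rw [e3, hone, mul_one]
    rw [indFun_apply, indFun_apply, Finset.sum_congr rfl fun x _ => e0 x, ← Finset.mul_sum]
    ring

/-- a character vanishing off `Z` -/
theorem vanish [Fintype G] (Z : Subgroup G) {χ : G → ℂ} (hχ : IsIrrCharacter G χ) (mu : G → ℂ)
    (hmu : ∀ z ∈ Z, mu z = 1 ∨ mu z = -1) (hz : ∀ z ∈ Z, χ z = mu z * χ 1) {d : ℕ} (hd : χ 1 = d)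
    (hcard : d ^ 2 * Nat.card Z = Nat.card G) : ∀ g, g ∉ Z → χ g = 0 := by
  classical
  have h1 := classInner_irr_self hχ
  rw [classInner_def] at h1
  have hc0 : (Nat.card G : ℂ) ≠ 0 := card_ne_zero_complex
  have h2 : ∑ g : G, χ g * conj (χ g) = Nat.card G := by
    rw [inv_mul_eq_iff_eq_mul₀ hc0, mul_one] at h1
    exact h1
  have h3 : ∑ g : G, Complex.normSq (χ g) = Nat.card G := by
    have h4 : ((∑ g : G, Complex.normSq (χ g) : ℝ) : ℂ) = ((Nat.card G : ℝ) : ℂ) := by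
      push_cast
      rw [← h2]
      exact Finset.sum_congr rfl fun g _ => (Complex.mul_conj _).symm
    exact_mod_cast h4
  have h5 : ∑ g ∈ Finset.univ.filter (fun g => g ∈ Z), Complex.normSq (χ g) = Nat.card G := by
    have h6 : ∀ g ∈ Finset.univ.filter (fun g => g ∈ Z), Complex.normSq (χ g) = (d : ℝ) ^ 2 := by
      intro g hg
      have hg' := (Finset.mem_filter.1 hg).2
      rw [hz g hg', hd, map_mul]
      rcases hmu g hg' with h | h
      · rw [h]; simp [Complex.normSq_natCast]; ring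
      · rw [h]; simp only [Complex.normSq_natCast, _root_.Complex.normSq_neg, _root_.map_one, _root_.one_mul]; ring
    rw [Finset.sum_congr rfl h6, Finset.sum_const, nsmul_eq_mul]
    have h7 : (Finset.univ.filter (fun g => g ∈ Z)).card = Nat.card Z := by
      rw [Nat.card_eq_fintype_card, Fintype.card_subtype]
    rw [h7, ← hcard]
    push_cast
    ring
  have h8 : ∑ g ∈ Finset.univ.filter (fun g => g ∉ Z), Complex.normSq (χ g) = 0 := by
    have h9 := Finset.sum_filter_add_sum_filter_not Finset.univ (fun g => g ∈ Z) (fun g => Complex.normSq (χ g))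
    rw [h5, h3] at h9
    linarith only [h9]
  intro g hg
  have h10 := (Finset.sum_eq_zero_iff_of_nonneg (fun g _ => Complex.normSq_nonneg _)).1 h8 g
    (Finset.mem_filter.2 ⟨Finset.mem_univ _, hg⟩)
  exact Complex.normSq_eq_zero.1 h10

/-- inner product with a character vanishing off `Z` -/
theorem inner_ne [Fintype G] (Z : Subgroup G) {χ ψ : G → ℂ} (mu : G → ℂ)
    (hmu : ∀ z ∈ Z, mu z = 1 ∨ mu z = -1) (hz : ∀ z ∈ Z, χ z = mu z * χ 1) (hz' : ∀ z ∈ Z, ψ z = mu z * ψ 1)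
    (h0 : ∀ g, g ∉ Z → χ g = 0) (h1 : χ 1 ≠ 0) (h1' : ψ 1 ≠ 0) : classInner ψ χ ≠ 0 := by
  classical
  rw [classInner_def]
  refine mul_ne_zero (inv_ne_zero card_ne_zero_complex) ?_
  have h2 : ∑ g : G, ψ g * conj (χ g) = ∑ g ∈ Finset.univ.filter (fun g => g ∈ Z), ψ 1 * conj (χ 1) := by
    rw [← Finset.sum_filter_add_sum_filter_not Finset.univ (fun g => g ∈ Z) (fun g => ψ g * conj (χ g)),
      Finset.sum_eq_zero (s := Finset.univ.filter (fun g => g ∉ Z)), add_zero]
    · refine Finset.sum_congr rfl fun g hg => ?_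
      have hg' := (Finset.mem_filter.1 hg).2
      rw [hz g hg', hz' g hg', map_mul]
      rcases hmu g hg' with h | h
      · rw [h]; simp
      · rw [h]; simp only [_root_.neg_mul, _root_.one_mul, _root_.map_neg, _root_.map_one, _root_.mul_neg, _root_.neg_neg]
    · intro g hg
      rw [h0 g (Finset.mem_filter.1 hg).2, map_zero, mul_zero]
  rw [h2, Finset.sum_const, nsmul_eq_mul]
  refine mul_ne_zero ?_ (mul_ne_zero h1' ?_)
  · have h7 : (Finset.univ.filter (fun g => g ∈ Z)).card = Nat.card Z := by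
      rw [Nat.card_eq_fintype_card, Fintype.card_subtype]
    rw [h7]
    exact_mod_cast (Nat.card_pos (α := Z)).ne'
  · rw [Ne, map_eq_zero]
    exact h1

end One

section Main

variable {G : Type u} [Group G] [Finite G] {N P A Z : Subgroup G} {lam : G → ℂ}

theorem Hei.card_P (h : Hei N P A Z lam) [N.Normal] : Nat.card P * Nat.card ↥(A ⊓ N) = Nat.card A * Nat.card N := by
  have h1 : P = A ⊔ N := by
    refine le_antisymm (fun p hp => ?_) (sup_le h.AP h.NP)
    obtain ⟨a, ha, n, hn, rfl⟩ := h.PN p hp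
    exact mul_mem (Subgroup.mem_sup_left ha) (Subgroup.mem_sup_right hn)
  have h2 : N.relIndex P = N.relIndex A := by
    rw [h1]
    exact Subgroup.relIndex_sup_right _ _
  have h3 : Nat.card P = N.relIndex P * Nat.card N := by
    have h5 := Subgroup.relIndex_mul_relIndex ⊥ N P bot_le h.NP
    rw [Subgroup.relIndex_bot_left, Subgroup.relIndex_bot_left] at h5
    rw [mul_comm]
    exact h5.symm
  have h4 : Nat.card A = N.relIndex A * Nat.card ↥(A ⊓ N) := by
    have h5 := Subgroup.relIndex_mul_relIndex ⊥ (A ⊓ N) A bot_le inf_le_left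
    rw [Subgroup.inf_relIndex_left, Subgroup.relIndex_bot_left, Subgroup.relIndex_bot_left] at h5
    rw [mul_comm]
    exact h5.symm
  rw [h3, h4, h2]
  ring

/-- **The fully ramified character.** -/
theorem Hei.exists_theta (h : Hei N P A Z lam) [hN : N.Normal] : ∃ (θ : N → ℂ) (η : P → ℂ),
    IsIrrCharacter N θ ∧ fsi θ = 1 ∧ IsIrrCharacter P η ∧ (∀ p, (η p).im = 0) ∧
    (∀ n : N, η ⟨n, h.NP n.2⟩ = θ n) ∧
    (∀ ψ : N → ℂ, IsIrrCharacter N ψ → (∀ z (hz : z ∈ Z), ψ ⟨z, h.ZN hz⟩ = lam z * ψ 1) → ψ = θ) ∧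
    (∀ (g : G) (n : N), θ ⟨g * n * g⁻¹, hN.conj_mem (n : G) n.2 g⟩ = θ n) ∧
    (∀ (_ : Fintype N) (φ : N → ℂ), φ 1 ≠ 0 → (∀ z (hz : z ∈ Z), φ ⟨z, h.ZN hz⟩ = lam z * φ 1) →
      classInner φ θ ≠ 0) := by
  classical
  have := Fintype.ofFinite G
  have := Fintype.ofFinite N
  have := Fintype.ofFinite P
  -- `θ`
  obtain ⟨θ, hθ, hθ1, hθf, -, hθz⟩ := mackey (A.subgroupOf N) (fun a => lam (a : N))
    (fun a b => h.mul _ (Subgroup.mem_subgroupOf.1 a.2) _ (Subgroup.mem_subgroupOf.1 b.2))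
    (fun a => h.pm _ (Subgroup.mem_subgroupOf.1 a.2)) (by
      intro g hg
      obtain ⟨a, ha, haN, hga, hne⟩ := h.mac g g.2 (fun hh => hg (Subgroup.mem_subgroupOf.2 hh))
      exact ⟨⟨⟨a, haN⟩, Subgroup.mem_subgroupOf.2 ha⟩, Subgroup.mem_subgroupOf.2 hga, hne⟩)
  obtain ⟨η, hη, hη1, -, hηr, hηz⟩ := mackey (A.subgroupOf P) (fun a => lam (a : P))
    (fun a b => h.mul _ (Subgroup.mem_subgroupOf.1 a.2) _ (Subgroup.mem_subgroupOf.1 b.2))
    (fun a => h.pm _ (Subgroup.mem_subgroupOf.1 a.2)) (by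
      intro g hg
      obtain ⟨b, hb, n, hn, e⟩ := h.PN g g.2
      have hnA : n ∉ A := fun hnA => hg (Subgroup.mem_subgroupOf.2 (by rw [e]; exact mul_mem hb hnA))
      obtain ⟨a, ha, haN, hna, hne⟩ := h.mac n hn hnA
      have e1 : (g : G) * a * (g : G)⁻¹ = b * (n * a * n⁻¹) * b⁻¹ := by rw [e]; group
      refine ⟨⟨⟨a, h.AP ha⟩, Subgroup.mem_subgroupOf.2 ha⟩, Subgroup.mem_subgroupOf.2 ?_, ?_⟩
      · show (g : G) * a * (g : G)⁻¹ ∈ A
        rw [e1]
        exact mul_mem (mul_mem hb hna) (inv_mem hb)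
      · show lam ((g : G) * a * (g : G)⁻¹) ≠ lam a
        rw [e1, h.mul _ (mul_mem hb hna) _ (inv_mem hb), h.mul _ hb _ hna]
        have h2 : lam b * lam b⁻¹ = 1 := by
          rw [← h.mul _ hb _ (inv_mem hb), mul_inv_cancel]
          have h3 := h.mul 1 (one_mem _) 1 (one_mem _)
          rw [mul_one] at h3
          rcases h.pm 1 (one_mem _) with h4 | h4
          · exact h4
          · rw [h4] at h3; norm_num at h3
        have h3 : lam b * lam (n * a * n⁻¹) * lam b⁻¹ = lam (n * a * n⁻¹) := by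
          calc lam b * lam (n * a * n⁻¹) * lam b⁻¹ = (lam b * lam b⁻¹) * lam (n * a * n⁻¹) := by ring
            _ = _ := by rw [h2, one_mul]
        rw [h3]
        exact hne)
  -- degrees
  have hA0 : Nat.card ↥(A.subgroupOf N) = Nat.card ↥(A ⊓ N) := by
    rw [← Subgroup.inf_subgroupOf_right]
    exact Nat.card_congr (Subgroup.subgroupOfEquivOfLe inf_le_right).toEquiv
  have hA1 : Nat.card ↥(A.subgroupOf P) = Nat.card A := Nat.card_congr (Subgroup.subgroupOfEquivOfLe h.AP).toEquiv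
  have i0 := Subgroup.card_mul_index (A.subgroupOf N)
  have i1 := Subgroup.card_mul_index (A.subgroupOf P)
  rw [hA0] at i0
  rw [hA1] at i1
  have pA0 : 0 < Nat.card ↥(A ⊓ N) := Nat.card_pos
  have pA : 0 < Nat.card A := Nat.card_pos
  have pN : 0 < Nat.card N := Nat.card_pos
  have hdeg : (A.subgroupOf P).index = (A.subgroupOf N).index := by
    have h1 := h.card_P
    rw [← i1, ← i0] at h1
    have h2 : Nat.card A * Nat.card ↥(A ⊓ N) * (A.subgroupOf P).index =
        Nat.card A * Nat.card ↥(A ⊓ N) * (A.subgroupOf N).index := by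
      rw [← mul_assoc] at h1
      linarith only [h1]
    exact Nat.eq_of_mul_eq_mul_left (Nat.mul_pos pA pA0) h2
  -- the centre
  let Z' : Subgroup N := Z.subgroupOf N
  have hZ' : Nat.card Z' = Nat.card Z := Nat.card_congr (Subgroup.subgroupOfEquivOfLe h.ZN).toEquiv
  have hcard : (A.subgroupOf N).index ^ 2 * Nat.card Z' = Nat.card N := by
    rw [hZ']
    have h1 := h.card
    have h2 : Nat.card ↥(A ⊓ N) ^ 2 * ((A.subgroupOf N).index ^ 2 * Nat.card Z) =
        Nat.card ↥(A ⊓ N) ^ 2 * Nat.card N := by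
      calc Nat.card ↥(A ⊓ N) ^ 2 * ((A.subgroupOf N).index ^ 2 * Nat.card Z) =
          (Nat.card ↥(A ⊓ N) * (A.subgroupOf N).index) ^ 2 * Nat.card Z := by ring
        _ = Nat.card N ^ 2 * Nat.card Z := by rw [i0]
        _ = (Nat.card N * Nat.card Z) * Nat.card N := by ring
        _ = _ := by rw [h1]
    exact Nat.eq_of_mul_eq_mul_left (pow_pos pA0 2) h2
  have hpmZ : ∀ z ∈ Z', lam (z : N) = 1 ∨ lam (z : N) = -1 := fun z hz =>
    h.pm _ (h.ZA (Subgroup.mem_subgroupOf.1 hz))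
  have hθz' : ∀ z ∈ Z', θ z = lam (z : N) * θ 1 := by
    intro z hz
    have hzZ := Subgroup.mem_subgroupOf.1 hz
    exact hθz z (Subgroup.mem_subgroupOf.2 (h.ZA hzZ)) (fun g => Subtype.ext (h.cen _ hzZ _))
  have hvan := vanish Z' hθ (fun n => lam (n : G)) hpmZ hθz' hθ1 hcard
  have huniq : ∀ ψ : N → ℂ, IsIrrCharacter N ψ → (∀ z (hz : z ∈ Z), ψ ⟨z, h.ZN hz⟩ = lam z * ψ 1) → ψ = θ := by
    intro ψ hψ hψz
    by_contra hne
    exact inner_ne Z' (χ := θ) (ψ := ψ) (fun n => lam (n : G)) hpmZ hθz'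
      (fun z hz => hψz z (Subgroup.mem_subgroupOf.1 hz)) hvan (isIrr_apply_one_ne_zero hθ)
      (isIrr_apply_one_ne_zero hψ) (classInner_irr_ne hψ hθ hne)
  refine ⟨θ, η, hθ, hθf, hη, hηr, ?_, huniq, ?_, ?_⟩
  · -- the restriction
    let ι : N →* P := Subgroup.inclusion h.NP
    have hres : IsCharacter N (fun n => η (ι n)) := isCharacter_comp ι (isIrr_isCharacter hη)
    have h1 : (fun n => η (ι n)) = θ := by
      refine Cfsg.Agent.H597.Base.eq_of_degree_eq hres hθ ?_ ?_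
      · refine inner_ne Z' (χ := θ) (ψ := fun n => η (ι n)) (fun n => lam (n : G)) hpmZ hθz' ?_ hvan
          (isIrr_apply_one_ne_zero hθ) ?_
        · intro z hz
          have hzZ := Subgroup.mem_subgroupOf.1 hz
          show η (ι z) = lam (z : N) * η (ι 1)
          rw [map_one]
          exact hηz (ι z) (Subgroup.mem_subgroupOf.2 (h.ZA hzZ)) (fun g => Subtype.ext (h.cen _ hzZ _))
        · show η (ι 1) ≠ 0
          rw [map_one]
          exact isIrr_apply_one_ne_zero hη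
      · show η (ι 1) = θ 1
        rw [map_one, hη1, hθ1, hdeg]
    intro n
    exact congrFun h1 n
  · -- invariance
    intro g n
    let c : N ≃* N := MulAut.conjNormal g
    have hc : ∀ n, c n = ⟨g * n * g⁻¹, hN.conj_mem (n : G) n.2 g⟩ := fun n => by
      apply Subtype.ext
      simp [c]
    have h1 : IsIrrCharacter N (fun n => θ (c n)) := isIrr_comp c.toMonoidHom c.surjective hθ
    have h2 : (fun n => θ (c n)) = θ := by
      refine huniq _ h1 fun z hz => ?_
      show θ (c ⟨z, h.ZN hz⟩) = lam z * θ (c 1)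
      rw [map_one]
      have h3 : c ⟨z, h.ZN hz⟩ = ⟨z, h.ZN hz⟩ := by
        rw [hc]
        apply Subtype.ext
        show g * z * g⁻¹ = z
        rw [h.cen z hz g, mul_inv_cancel_right]
      rw [h3]
      exact hθz' ⟨z, h.ZN hz⟩ (Subgroup.mem_subgroupOf.2 hz)
    rw [← hc]
    exact congrFun h2 n
  · intro inst φ hφ1 hφz
    have h1 := inner_ne Z' (χ := θ) (ψ := φ) (fun n => lam (n : G)) hpmZ hθz'
      (fun z hz => hφz z (Subgroup.mem_subgroupOf.1 hz)) hvan (isIrr_apply_one_ne_zero hθ) hφ1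
    convert h1

end Main

end Cfsg.Agent.H893.FR
end
end

-- part: H893/FR/LongTwoFin
section
prune_inst 0x1400004406202000000058411003c6686000002002b0000990100440d8a1b0a40000f60b4303811400a2884403c0068104c0490004000000400040001380288008010002040018880001e000080000000000000000000000000000000041004000400000
set_option linter.all false
open scoped Cfsg.Agent.FastGrp

-- part: H893/FR/LongTwo
section
/-!
# The long root involution of `³D₄(q)`, `q` even: characters non-trivial on the centre (S4970, P3; helper893)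
-/

set_option autoImplicit false
set_option linter.unusedSectionVars false

universe u v

namespace Cfsg.Agent.H893.FR

open Cfsg Cfsg.Agent.H955.FS
open Cfsg.Agent.Characters.Core
open Cfsg.Agent.StdRank2.Hex Cfsg.Agent.StdRank2.Hex.HexTwo Cfsg.Agent.SplitTwo

/-- passage to subgroups of a subgroup `X` -/
theorem Hei.subgroupOf {Γ : Type u} [Group Γ] (X : Subgroup Γ) {N P A Z : Subgroup Γ} {lam : Γ → ℂ} (hPX : P ≤ X)
    (NP : N ≤ P) (AP : A ≤ P) (ZA : Z ≤ A) (ZN : Z ≤ N) (PN : ∀ p ∈ P, ∃ a ∈ A, ∃ n ∈ N, p = a * n)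
    (cen : ∀ z ∈ Z, ∀ g ∈ X, g * z = z * g)
    (mul : ∀ a ∈ A, ∀ b ∈ A, lam (a * b) = lam a * lam b) (pm : ∀ a ∈ A, lam a = 1 ∨ lam a = -1)
    (mac : ∀ n ∈ N, n ∉ A → ∃ a ∈ A, a ∈ N ∧ n * a * n⁻¹ ∈ A ∧ lam (n * a * n⁻¹) ≠ lam a)
    (card : Nat.card ↥(A ⊓ N) ^ 2 = Nat.card N * Nat.card Z) :
    Hei (N.subgroupOf X) (P.subgroupOf X) (A.subgroupOf X) (Z.subgroupOf X) (fun g : X => lam g) where
  NP := fun g hg => Subgroup.mem_subgroupOf.2 (NP (Subgroup.mem_subgroupOf.1 hg))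
  AP := fun g hg => Subgroup.mem_subgroupOf.2 (AP (Subgroup.mem_subgroupOf.1 hg))
  ZA := fun g hg => Subgroup.mem_subgroupOf.2 (ZA (Subgroup.mem_subgroupOf.1 hg))
  ZN := fun g hg => Subgroup.mem_subgroupOf.2 (ZN (Subgroup.mem_subgroupOf.1 hg))
  PN := fun p hp => by
    obtain ⟨a, ha, n, hn, e⟩ := PN p (Subgroup.mem_subgroupOf.1 hp)
    exact ⟨⟨a, hPX (AP ha)⟩, Subgroup.mem_subgroupOf.2 ha, ⟨n, hPX (NP hn)⟩, Subgroup.mem_subgroupOf.2 hn,
      Subtype.ext e⟩
  cen := fun z hz g => Subtype.ext (cen z (Subgroup.mem_subgroupOf.1 hz) g g.2)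
  mul := fun a ha b hb => mul a (Subgroup.mem_subgroupOf.1 ha) b (Subgroup.mem_subgroupOf.1 hb)
  pm := fun a ha => pm a (Subgroup.mem_subgroupOf.1 ha)
  mac := fun n hn hnA => by
    obtain ⟨a, ha, haN, h1, h2⟩ := mac n (Subgroup.mem_subgroupOf.1 hn) (fun h => hnA (Subgroup.mem_subgroupOf.2 h))
    exact ⟨⟨a, hPX (AP ha)⟩, Subgroup.mem_subgroupOf.2 ha, Subgroup.mem_subgroupOf.2 haN,
      Subgroup.mem_subgroupOf.2 h1, h2⟩
  card := by
    have e1 : Nat.card ↥(A.subgroupOf X ⊓ N.subgroupOf X) = Nat.card ↥(A ⊓ N) := by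
      have : A.subgroupOf X ⊓ N.subgroupOf X = (A ⊓ N).subgroupOf X := rfl
      rw [this]
      exact Nat.card_congr (Subgroup.subgroupOfEquivOfLe (inf_le_left.trans (AP.trans hPX))).toEquiv
    have e2 : Nat.card ↥(N.subgroupOf X) = Nat.card N :=
      Nat.card_congr (Subgroup.subgroupOfEquivOfLe (NP.trans hPX)).toEquiv
    have e3 : Nat.card ↥(Z.subgroupOf X) = Nat.card Z :=
      Nat.card_congr (Subgroup.subgroupOfEquivOfLe (ZN.trans (NP.trans hPX))).toEquiv
    rw [e1, e2, e3, card]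

section Geo

variable {E : Type u} [Field E] {σ : E ≃+* E} {Γ : Type v} [Group Γ] {x : ZMod 12 → E → Γ}

/-- the sign character of `X₁X₂X₃X₄` -/
noncomputable def lamA (σ : E ≃+* E) (x : ZMod 12 → E → Γ) (mu : Γ → ℂ) (g : Γ) : ℂ :=
  open Classical in if h : ∃ d, σ d = d ∧ ∃ a b c, σ b = b ∧ g = uu x a b c d 0 0 then mu (x 4 h.choose) else 1

variable (h : HexTwo σ x)
include h

theorem lamA_uu (mu : Γ → ℂ) {a b c d : E} (hb : σ b = b) (hd : σ d = d) :
    lamA σ x mu (uu x a b c d 0 0) = mu (x 4 d) := by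
  have z : σ (0 : E) = 0 := map_zero σ
  have hex : ∃ d', σ d' = d' ∧ ∃ a' b' c', σ b' = b' ∧ uu x a b c d 0 0 = uu x a' b' c' d' 0 0 :=
    ⟨d, hd, a, b, c, hb, rfl⟩
  unfold lamA
  rw [dif_pos hex]
  obtain ⟨hd', a', b', c', hb', e⟩ := hex.choose_spec
  have := (h.uu_inj hb hd z hb' hd' z e).2.2.2.1
  rw [← this]

theorem mem_1234 {g : Γ} : g ∈ gen σ x (arc 1 4) ↔ ∃ a b c d, σ b = b ∧ σ d = d ∧ g = uu x a b c d 0 0 := by
  constructor
  · intro hg
    obtain ⟨a, -, g1, hg1, rfl⟩ := (h.mem_gen_first (k := 1) (n := 3) (by norm_num)).1 hg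
    obtain ⟨b, c, d, hb, hd, rfl⟩ := h.mem_234.1 hg1
    exact ⟨a, b, c, d, hb, hd, rfl⟩
  · rintro ⟨a, b, c, d, hb, hd, rfl⟩
    exact (h.mem_gen_first (k := 1) (n := 3) (by norm_num)).2 ⟨a, ok1 a, _, h.mem_234.2 ⟨b, c, d, hb, hd, rfl⟩, rfl⟩

theorem uu_mul4 {a b c d a' b' c' d' : E} (hb : σ b = b) (hd : σ d = d) (hb' : σ b' = b') (hd' : σ d' = d') :
    uu x a b c d 0 0 * uu x a' b' c' d' 0 0 = uu x (a + a') (b + trc σ a' c + b') (c + c') (d + d') 0 0 := by
  have z : σ (0 : E) = 0 := map_zero σ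
  rw [h.uu_mul hb hd z hb' hd' z]
  have e1 : trc σ (shp σ a') (0 : E) = 0 := trc_zero_right _
  have e2 : trc σ a' (shp σ (0 : E)) = 0 := by rw [shp_zero, trc_zero_right]
  have e3 : trc σ c' ((0 : E) + 0 * a') = 0 := by rw [zero_mul, add_zero, trc_zero_right]
  rw [e1, e2, e3, crs_zero_right]
  congr 1 <;> ring

/-- the conditions for `N = X₂…X₆`, `P = X₁…X₆`, `A = X₁X₂X₃X₄`, `Z = X₄`, `X = ⟨X₁, …, X₇⟩` -/
theorem hei_long {mu : Γ → ℂ} (hmul : ∀ a ∈ gen σ x {4}, ∀ b ∈ gen σ x {4}, mu (a * b) = mu a * mu b)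
    (hpm : ∀ a ∈ gen σ x {4}, mu a = 1 ∨ mu a = -1) (hne : ∃ t, σ t = t ∧ mu (x 4 t) ≠ 1) :
    Hei ((gen σ x (arc 2 5)).subgroupOf (gen σ x (arc 1 7))) ((gen σ x (arc 1 6)).subgroupOf (gen σ x (arc 1 7)))
      ((gen σ x (arc 1 4)).subgroupOf (gen σ x (arc 1 7))) ((gen σ x {4}).subgroupOf (gen σ x (arc 1 7)))
      (fun g => lamA σ x mu g) := by
  have z : σ (0 : E) = 0 := map_zero σ
  have hx4 : ∀ {d : E}, σ d = d → x 4 d ∈ gen σ x {4} := fun hd => x_mem_gen (by simp) (ok_of_fix _ hd)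
  refine Hei.subgroupOf _ ?_ ?_ ?_ ?_ ?_ ?_ ?_ ?_ ?_ ?_ ?_
  · exact gen_mono (arc_mono (by norm_num))
  · exact gen_mono (arc_succ_sub (k := 1) (n := 5) (by norm_num))
  · exact gen_mono (arc_mono (by norm_num))
  · refine gen_mono ?_
    intro l hl
    rw [Set.mem_singleton_iff] at hl
    subst hl
    rw [mem_arc]; decide
  · refine gen_mono ?_
    intro l hl
    rw [Set.mem_singleton_iff] at hl
    subst hl
    rw [mem_arc]; decide
  · intro p hp
    obtain ⟨a, ha, v, hv, rfl⟩ := (h.mem_gen_first (k := 1) (n := 5) (by norm_num)).1 hp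
    exact ⟨x 1 a, x_mem_gen (by rw [mem_arc]; decide) ha, v, hv, rfl⟩
  · intro y hy g hg
    obtain ⟨t, ht, rfl⟩ := h.mem_gen_singleton.1 hy
    have e : (4 : ZMod 12) - 3 = 1 := by decide
    exact (h.comm_gen_long (k := 4) (by decide) ht (g := g) (by rw [e]; exact hg)).symm
  · intro g hg g' hg'
    obtain ⟨a, b, c, d, hb, hd, rfl⟩ := (mem_1234 h).1 hg
    obtain ⟨a', b', c', d', hb', hd', rfl⟩ := (mem_1234 h).1 hg'
    rw [uu_mul4 h hb hd hb' hd', lamA_uu h mu hb hd, lamA_uu h mu hb' hd',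
      lamA_uu h mu (by rw [map_add, map_add, hb, hb', h.fix_trc]) (by rw [map_add, hd, hd']),
      h.add 4 d d' (ok_of_fix _ hd) (ok_of_fix _ hd'), hmul _ (hx4 hd) _ (hx4 hd')]
  · intro g hg
    obtain ⟨a, b, c, d, hb, hd, rfl⟩ := (mem_1234 h).1 hg
    rw [lamA_uu h mu hb hd]
    exact hpm _ (hx4 hd)
  · intro n hn hnA
    obtain ⟨b, c, d, e, f, hb, hd, hf, rfl⟩ := h.mem_Q1.1 hn
    obtain ⟨t, ht, hmt⟩ := hne
    -- the conjugation formula
    have key : ∀ B C : E, σ B = B → q x b c d e f * q x B C 0 0 0 * (q x b c d e f)⁻¹ =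
        q x B C (B * f + trc σ C e) 0 0 := by
      intro B C hB
      have hT : σ (B * f + trc σ C e) = B * f + trc σ C e := by rw [map_add, map_mul, hB, hf, h.fix_trc]
      rw [mul_inv_eq_iff_eq_mul, h.q_mul hb hd hf hB z z, h.q_mul hB hT z hb hd hf]
      have e3 : trc σ c (0 : E) = 0 := trc_zero_right _
      rw [e3]
      congr 1 <;> ring
    have hmemA : ∀ B C D : E, σ B = B → σ D = D → q x B C D 0 0 ∈ gen σ x (arc 1 4) := by
      intro B C D hB hD
      exact (mem_1234 h).2 ⟨0, B, C, D, hB, hD, (h.uq _ _ _ _ _).symm⟩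
    have hlam : ∀ B C D : E, σ B = B → σ D = D → lamA σ x mu (q x B C D 0 0) = mu (x 4 D) := by
      intro B C D hB hD
      rw [← h.uq, lamA_uu h mu hB hD]
    have hone : mu (x 4 0) = 1 := by
      rw [h.x_zero]
      have h1 := hmul 1 (one_mem _) 1 (one_mem _)
      rw [mul_one] at h1
      rcases hpm 1 (one_mem _) with h2 | h2
      · exact h2
      · rw [h2] at h1; norm_num at h1
    have hex : ∃ B C : E, σ B = B ∧ B * f + trc σ C e = t := by
      by_cases hf0 : f = 0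
      · have he0 : e ≠ 0 := by
          rintro rfl
          apply hnA
          rw [hf0]
          exact hmemA b c d hb hd
        refine ⟨0, t / e, z, ?_⟩
        rw [zero_mul, zero_add, trc_comm, h.trc_div he0 ht]
      · refine ⟨t / f, 0, by rw [map_div₀, ht, hf], ?_⟩
        rw [trc_zero_left, add_zero, div_mul_cancel₀ _ hf0]
    obtain ⟨B, C, hB, hBC⟩ := hex
    refine ⟨q x B C 0 0 0, hmemA B C 0 hB z, q_mem hB z z, ?_, ?_⟩
    · rw [key B C hB, hBC]
      exact hmemA B C t hB ht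
    · rw [key B C hB, hBC, hlam B C t hB ht, hlam B C 0 hB z, hone]
      exact hmt
  · -- orders
    have e1 : gen σ x (arc 1 4) ⊓ gen σ x (arc 2 5) = gen σ x (arc 2 3) := by
      refine le_antisymm (fun g hg => ?_) (le_inf (gen_mono (arc_succ_sub (k := 1) (n := 3) (by norm_num)))
        (gen_mono (arc_mono (by norm_num))))
      obtain ⟨a, b, c, d, hb, hd, rfl⟩ := (mem_1234 h).1 hg.1
      obtain ⟨b', c', d', e', f', hb', hd', hf', e⟩ := h.mem_Q1.1 hg.2
      rw [← h.uq] at e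
      have ha := (h.uu_inj hb hd z hb' hd' hf' e).1
      rw [ha, h.uq]
      exact h.mem_234.2 ⟨b, c, d, hb, hd, rfl⟩
    have e2 : gen σ x ({4} : Set (ZMod 12)) = gen σ x (arc 4 1) := by
      congr 1
      ext l
      rw [Set.mem_singleton_iff, mem_arc]
      revert l
      decide
    rw [e1, e2, h.card_arc_succ 2 (n := 2) (by norm_num), h.card_arc_succ _ (n := 1) (by norm_num),
      h.card_arc_succ _ (n := 0) (by norm_num), gen_arc_zero,
      h.card_arc_succ 2 (n := 4) (by norm_num), h.card_arc_succ _ (n := 3) (by norm_num),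
      h.card_arc_succ _ (n := 2) (by norm_num), h.card_arc_succ _ (n := 1) (by norm_num),
      h.card_arc_succ _ (n := 0) (by norm_num), gen_arc_zero,
      h.card_arc_succ 4 (n := 0) (by norm_num), gen_arc_zero,
      card_ok_even (k := 2) (by decide), card_ok_odd (k := 2 + 1) (by decide), card_ok_even (k := 2 + 1 + 1) (by decide),
      card_ok_odd (k := 2 + 1 + 1 + 1) (by decide), card_ok_even (k := 2 + 1 + 1 + 1 + 1) (by decide),
      card_ok_even (k := 4) (by decide), Subgroup.card_bot]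
    ring

end Geo

section Fin

variable {E : Type u} [Field E] {σ : E ≃+* E} {Γ : Type v} [Group Γ] {x : ZMod 12 → E → Γ} (h : HexTwo σ x)
include h

theorem long_normal : ((gen σ x (arc 2 5)).subgroupOf (gen σ x (arc 1 7))).Normal :=
  ⟨fun n hn g => Subgroup.mem_subgroupOf.2
    (Cfsg.Agent.H168.SRHex.Levi.Q_conj h (k := 1) g.2 (Subgroup.mem_subgroupOf.1 hn))⟩

theorem long_sq {p : Γ} (hp : p ∈ gen σ x (arc 1 6)) : p * p ∈ gen σ x (arc 2 5) := by
  obtain ⟨a, ha, v, hv, rfl⟩ := (h.mem_gen_first (k := 1) (n := 5) (by norm_num)).1 hp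
  have h1 : x 1 a * v * (x 1 a)⁻¹ ∈ gen σ x (arc (1 + 1) 5) := h.conj_first (by norm_num) ha hv
  have h2 := h.x_sq ha
  have e : x 1 a * v * (x 1 a * v) = (x 1 a * v * (x 1 a)⁻¹) * (x 1 a * x 1 a) * v := by group
  rw [e, h2, mul_one]
  exact mul_mem h1 hv

theorem long_index [Finite E] [Finite Γ] :
    Odd ((gen σ x (arc 1 6)).subgroupOf (gen σ x (arc 1 7))).index := by
  have hprime : Fact (Nat.Prime 2) := ⟨Nat.prime_two⟩
  have hUX : UU σ x ≤ gen σ x (arc 1 7) := gen_mono (arc_mono (by norm_num))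
  obtain ⟨P⟩ : Nonempty (Sylow 2 ↥(gen σ x (arc 1 7))) := inferInstance
  -- `|P| ≤ |U|`
  have hQ : IsPGroup 2 ((P : Subgroup ↥(gen σ x (arc 1 7))).map (gen σ x (arc 1 7)).subtype) := P.isPGroup'.map _
  obtain ⟨p, hp, hpQ⟩ := h.sylow_conj hUX (gen_le_AA _) hQ (by
    rintro _ ⟨y, -, rfl⟩
    exact y.2)
  have hle : Nat.card P ≤ Nat.card ↥(UU σ x) := by
    refine Nat.card_le_card_of_injective (fun y : P => (⟨p * (y : ↥(gen σ x (arc 1 7))) * p⁻¹,
      hpQ _ ⟨y, y.2, rfl⟩⟩ : ↥(UU σ x))) ?_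
    intro y y' hyy
    have h1 := congrArg Subtype.val hyy
    exact Subtype.ext (Subtype.ext (mul_left_cancel (mul_right_cancel h1)))
  -- `U` is a Sylow subgroup
  have hU2 : IsPGroup 2 ((UU σ x).subgroupOf (gen σ x (arc 1 7))) :=
    h.isPGroup_U.of_equiv (Subgroup.subgroupOfEquivOfLe hUX).symm
  obtain ⟨R, hR⟩ := hU2.exists_le_sylow
  have hcU : Nat.card ↥((UU σ x).subgroupOf (gen σ x (arc 1 7))) = Nat.card ↥(UU σ x) :=
    Nat.card_congr (Subgroup.subgroupOfEquivOfLe hUX).toEquiv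
  have hPR : Nat.card R = Nat.card P := by
    rw [R.card_eq_multiplicity, P.card_eq_multiplicity]
  have hRU : (UU σ x).subgroupOf (gen σ x (arc 1 7)) = (R : Subgroup ↥(gen σ x (arc 1 7))) := by
    apply Subgroup.eq_of_le_of_card_ge hR
    rw [hcU]
    exact hPR.le.trans hle
  have h3 := R.not_dvd_index
  rw [← hRU] at h3
  rw [← Nat.not_even_iff_odd]
  intro h4
  exact h3 h4.two_dvd

theorem long_quo [Finite E] [Finite Γ] [hN : ((gen σ x (arc 2 5)).subgroupOf (gen σ x (arc 1 7))).Normal] :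
    FSGood True (↥(gen σ x (arc 1 7)) ⧸ (gen σ x (arc 2 5)).subgroupOf (gen σ x (arc 1 7))) := by
  have h1 : FSGood True ↥(gen σ x {(1 : ZMod 12), 1 + 6}) :=
    Cfsg.Agent.H168.FRHex.ci_good (Cfsg.Agent.H168.FRHex.Short.ci_L h 1)
  let f : ↥(gen σ x {(1 : ZMod 12), 1 + 6}) →* ↥(gen σ x (arc 1 7)) :=
    Subgroup.inclusion (Cfsg.Agent.H168.SRHex.Levi.L_le 1)
  refine h1.of_surjective ((QuotientGroup.mk' ((gen σ x (arc 2 5)).subgroupOf (gen σ x (arc 1 7)))).comp f) ?_
  intro y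
  obtain ⟨⟨g, hg⟩, rfl⟩ := QuotientGroup.mk'_surjective _ y
  obtain ⟨q', hq', l, hl, rfl⟩ := (h.mem_P 1).1 hg
  refine ⟨⟨l, hl⟩, ?_⟩
  show QuotientGroup.mk' _ (f ⟨l, hl⟩) = QuotientGroup.mk' _ _
  refine (QuotientGroup.mk'_eq_mk' _).2 ?_
  refine ⟨(f ⟨l, hl⟩)⁻¹ * ⟨q', Cfsg.Agent.H168.SRHex.Levi.Q_le (k := 1) hq'⟩ * f ⟨l, hl⟩, ?_, ?_⟩
  · have h5 := hN.conj_mem ⟨q', Cfsg.Agent.H168.SRHex.Levi.Q_le (k := 1) hq'⟩ (Subgroup.mem_subgroupOf.2 hq')
      (f ⟨l, hl⟩)⁻¹
    rwa [inv_inv] at h5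
  · apply Subtype.ext
    show l * (l⁻¹ * q' * l) = q' * l
    group

end Fin

end Cfsg.Agent.H893.FR
end

-- part: H893/FR/ExtReal
section
/-!
# Real extensions (team SR, S4970, P3; helper893)

`N` a normal `2`-subgroup of `G`, `θ` an invariant irreducible character of `N` which has a real extension to `P ≥ N`,
`P` of odd index in `G` and `P/N` of exponent two. Then `θ` has a real extension to `G`.
-/

set_option autoImplicit false
set_option linter.unusedSectionVars false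

universe u

namespace Cfsg.Agent.H893.FR

open Cfsg
open Cfsg.Agent.Characters.Core
open scoped ComplexConjugate

variable {G : Type u} [Group G] [Finite G]

/-- extension to `N R`, `R` a Sylow `p`-subgroup, `p` odd -/
theorem ext_odd (N : Subgroup G) [hN : N.Normal] (h2 : IsPGroup 2 N) {θ : N → ℂ} (hθ : IsIrrCharacter N θ)
    (hinv : ∀ (g : G) (n : N), θ ⟨g * n * g⁻¹, hN.conj_mem (n : G) n.2 g⟩ = θ n) {p : ℕ} (hp : p.Prime)
    (hp2 : p ≠ 2) : ∃ (R : Subgroup G) (hNR : N ≤ R) (η : R → ℂ), Nat.Coprime R.index p ∧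
        Cfsg.IsIrrCharacter R η ∧ ∀ n : N, η ⟨(n : G), hNR n.2⟩ = θ n := by
  classical
  have : Fact p.Prime := ⟨hp⟩
  obtain ⟨P₀⟩ : Nonempty (Sylow p G) := inferInstance
  have hNP : N ≤ N ⊔ (P₀ : Subgroup G) := le_sup_left
  have hPP : (P₀ : Subgroup G) ≤ N ⊔ (P₀ : Subgroup G) := le_sup_right
  obtain ⟨R, hR⟩ : ∃ R : Subgroup G, R = N ⊔ (P₀ : Subgroup G) := ⟨_, rfl⟩
  rw [← hR] at hNP hPP
  have hn : (N.subgroupOf R).Normal := hN.subgroupOf _
  let e : N.subgroupOf R ≃* N := Subgroup.subgroupOfEquivOfLe hNP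
  have hθ' : IsIrrCharacter (N.subgroupOf R) (fun x => θ ⟨(x : R), Subgroup.mem_subgroupOf.mp x.2⟩) :=
    isIrr_comp e.toMonoidHom e.surjective hθ
  obtain ⟨d, -, hd⟩ := isIrr_apply_one hθ
  have hcard : Nat.card (N.subgroupOf R) = Nat.card N := Nat.card_congr e.toEquiv
  have hidx : ∃ k : ℕ, (N.subgroupOf R).index = p ^ k := by
    have h1 : N.relIndex R = N.relIndex (P₀ : Subgroup G) := by
      rw [hR, sup_comm]
      exact Subgroup.relIndex_sup_right _ _
    have h2 : N.relIndex (P₀ : Subgroup G) ∣ Nat.card P₀ := Subgroup.relIndex_dvd_card _ _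
    obtain ⟨n, hn⟩ := IsPGroup.iff_card.1 P₀.isPGroup'
    rw [hn] at h2
    obtain ⟨k, -, hk⟩ := (Nat.dvd_prime_pow hp).1 h2
    exact ⟨k, h1.trans hk⟩
  obtain ⟨a, ha⟩ := IsPGroup.iff_card.1 h2
  have hcop : Nat.Coprime (N.subgroupOf R).index (2 ^ a) := by
    obtain ⟨k, hk⟩ := hidx
    rw [hk]
    exact Nat.Coprime.pow _ _ ((Nat.coprime_primes hp Nat.prime_two).2 hp2)
  have hcop' : Nat.Coprime (N.subgroupOf R).index
      (detOrder (fun x : N.subgroupOf R => θ ⟨(x : R), Subgroup.mem_subgroupOf.mp x.2⟩) * d) := by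
    refine Nat.Coprime.mul_right ?_ ?_
    · refine Nat.Coprime.coprime_dvd_right ?_ hcop
      rw [← ha, ← hcard]
      unfold detOrder
      obtain ⟨δ, hδ⟩ := CharactersDeep.ExtUnique.exists_hom_detChar hθ'
      apply orderOf_dvd_of_pow_eq_one
      funext g
      rw [Pi.pow_apply, hδ, Pi.one_apply, ← Units.val_pow_eq_pow_val, ← map_pow, pow_card_eq_one']
      simp
    · refine Nat.Coprime.coprime_dvd_right ?_ hcop
      rw [← ha]
      obtain ⟨n, ρ, hρ, rfl⟩ := hθ
      have h1 := Cfsg.Agent.S0135.result ρ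
      rw [Representation.char_one, Module.finrank_fin_fun] at hd
      rw [Module.finrank_fin_fun] at h1
      have : n = d := by exact_mod_cast hd
      rwa [this] at h1
  obtain ⟨η, ⟨hη, hres, -⟩, -⟩ := Cfsg.Agent.S0867.result (N.subgroupOf R) _ hθ'
    (fun g n => hinv (g : G) ⟨((n : _) : G), Subgroup.mem_subgroupOf.mp n.2⟩) d hd hcop'
  refine ⟨R, hNP, η, ?_, hη, fun n => hres ⟨⟨(n : G), hNP n.2⟩, Subgroup.mem_subgroupOf.2 n.2⟩⟩
  have h1 : R.index ∣ (P₀ : Subgroup G).index := Subgroup.index_dvd_of_le hPP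
  rw [Nat.coprime_comm]
  exact (Nat.Prime.coprime_iff_not_dvd hp).2 fun h => P₀.not_dvd_index (h.trans h1)

/-- a linear character of the quotient fixing an extension of an irreducible character is trivial -/
theorem hom_eq_one (N : Subgroup G) [hN : N.Normal] {χ : G → ℂ} (hχ : IsIrrCharacter G χ)
    (hχN : IsIrrCharacter N (fun n : N => χ n)) (β : G →* ℂˣ) (hβN : ∀ n ∈ N, β n = 1)
    (h : ∀ g, χ g * β g = χ g) (g : G) : β g = 1 := by
  classical
  have := Fintype.ofFinite G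
  have := Fintype.ofFinite N
  have hone : ((fun _ => 1) * (fun k : N => χ k) : N → ℂ) = fun k : N => χ k := by
    funext k; simp
  have key := S0856.result N (fun _ => 1) (fun k : N => χ k) isIrr_one hχN
    (fun g n => rfl) (fun g n => isIrr_isClassFunction hχ n g) (by rw [hone]; exact hχN) χ hχ (fun n => rfl)
  have hmem : ∀ ν : G →* ℂˣ, (∀ n ∈ N, ν n = 1) →
      (fun g => (ν g : ℂ)) ∈ {β : G → ℂ | IsIrrCharacter G β ∧ classInner (indFun N (fun _ => 1)) β ≠ 0} := by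
    intro ν hν
    have h0 : IsIrrCharacter G (fun g => (ν g : ℂ)) := Characters.Linear.isIrrCharacter_hom ν
    refine ⟨h0, ?_⟩
    rw [Cfsg.Agent.CharactersDeep.NormalInd.classInner_indFun N (fun _ => 1) _ (isIrr_isClassFunction h0)]
    have h1 : (fun k : N => ((ν (k : G) : ℂˣ) : ℂ)) = (fun _ => 1 : N → ℂ) := by
      funext k
      rw [hν k k.2, Units.val_one]
    rw [h1]
    have h2 : classInner (fun _ => 1 : N → ℂ) (fun _ => 1 : N → ℂ) = 1 := classInner_irr_self isIrr_one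
    rw [h2]
    exact one_ne_zero
  have h3 := key.injOn (hmem β hβN) (hmem 1 (fun _ _ => rfl)) (by
    funext g
    show (β g : ℂ) * χ g = ((1 : ℂˣ) : ℂ) * χ g
    rw [Units.val_one, one_mul, mul_comm]
    exact h g)
  exact Units.ext (congrFun h3 g)

/-- **The real extension.** -/
theorem ext_real (N P : Subgroup G) [hN : N.Normal] (hNP : N ≤ P) (h2 : IsPGroup 2 N) (hodd : Odd P.index)
    (hsq : ∀ p ∈ P, p * p ∈ N) {θ : N → ℂ} (hθ : IsIrrCharacter N θ)
    (hinv : ∀ (g : G) (n : N), θ ⟨g * n * g⁻¹, hN.conj_mem (n : G) n.2 g⟩ = θ n)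
    {η : P → ℂ} (hη : IsIrrCharacter P η) (hηr : ∀ p, (η p).im = 0) (hηN : ∀ n : N, η ⟨n, hNP n.2⟩ = θ n) :
    ∃ χ : G → ℂ, IsIrrCharacter G χ ∧ (∀ g, (χ g).im = 0) ∧ ∀ n : N, χ n = θ n := by
  classical
  obtain ⟨d, -, hd⟩ := isIrr_apply_one hθ
  obtain ⟨χ₀, hχ₀, hres⟩ := CharactersDeep.ExtGroup.extends_of_local N θ hθ hinv d hd fun p hp => by
    left
    rcases eq_or_ne p 2 with rfl | hp2
    · exact ⟨P, hNP, η, hodd.coprime_two_right, hη, hηN⟩
    · exact ext_odd N h2 hθ hinv hp hp2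
  have hconjhom : ∀ {K : Type u} [Group K] [Finite K] (ν : K →* ℂˣ) (k : K), conj (ν k : ℂ) * ν k = 1 := by
    intro K _ _ ν k
    have h0 : IsIrrCharacter K (fun g => (ν g : ℂ)) := Characters.Linear.isIrrCharacter_hom ν
    have h1 := isCharacter_apply_inv (isIrr_isCharacter h0) k
    have h3 : ((ν k⁻¹ : ℂˣ) : ℂ) = conj (ν k : ℂ) := h1
    rw [← h3, ← Units.val_mul, ← map_mul, inv_mul_cancel, map_one, Units.val_one]
  have hθr : ∀ n, conj (θ n) = θ n := fun n => by
    rw [← hηN]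
    exact Complex.conj_eq_iff_im.2 (hηr _)
  obtain ⟨β, hβN, hβ⟩ := CharactersDeep.ExtUnique.exists_hom_mul_of_restrict_eq N (isIrr_isCharacter hχ₀)
    (isIrr_isCharacter (isIrr_conj hχ₀)) hθ hres (fun n => by
      show conj (χ₀ n) = θ n
      rw [hres, hθr])
  obtain ⟨a, m, hm, hcard⟩ := Nat.exists_eq_two_pow_mul_odd (n := Nat.card G) Nat.card_pos.ne'
  obtain ⟨k, hk⟩ := hm
  -- the twisted extension
  obtain ⟨δ, hδ⟩ : ∃ δ : G →* ℂˣ, ∀ g, δ g = β g ^ (k + 1) := ⟨(powMonoidHom (k + 1)).comp β, fun g => rfl⟩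
  obtain ⟨γ, hγ⟩ : ∃ γ : G →* ℂˣ, ∀ g, γ g = (β g)⁻¹ ^ m :=
    ⟨(powMonoidHom m).comp (MonoidHom.comp invMonoidHom β), fun g => rfl⟩
  obtain ⟨χ, hχdef⟩ : ∃ χ : G → ℂ, χ = fun g => χ₀ g * δ g := ⟨_, rfl⟩
  have hχ : IsIrrCharacter G χ := by
    rw [hχdef]
    exact CharactersDeep.ExtUnique.isIrr_mul_hom hχ₀ δ
  have hχN : ∀ n : N, χ n = θ n := by
    intro n
    rw [hχdef]
    show χ₀ n * δ n = θ n
    rw [hδ, hβN n n.2, one_pow, Units.val_one, mul_one, hres]
  have hχγ : ∀ g, conj (χ g) = χ g * γ g := by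
    intro g
    rw [hχdef]
    show conj (χ₀ g * δ g) = χ₀ g * δ g * γ g
    have h3 : conj (χ₀ g) = χ₀ g * β g := hβ g
    have h4 := hconjhom β g
    have h5 : conj (β g : ℂ) = ((β g)⁻¹ : ℂˣ) := by
      rw [Units.val_inv_eq_inv_val]
      exact eq_inv_of_mul_eq_one_left h4
    rw [map_mul, h3, hδ, hγ, Units.val_pow_eq_pow_val, map_pow, h5, hk]
    have h6 : β g * (β g)⁻¹ ^ (k + 1) = β g ^ (k + 1) * (β g)⁻¹ ^ (2 * k + 1) := by
      rw [show 2 * k + 1 = (k + 1) + k by omega, pow_add _ (k + 1) k, ← mul_assoc, ← mul_pow, mul_inv_cancel,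
        one_pow, one_mul, pow_succ', ← mul_assoc, mul_inv_cancel, one_mul]
    have h7 := congrArg (fun z : ℂˣ => (z : ℂ)) h6
    simp only [Units.val_mul, Units.val_pow_eq_pow_val] at h7
    calc χ₀ g * (β g : ℂ) * ((((β g)⁻¹ : ℂˣ) : ℂ) ^ (k + 1)) =
        χ₀ g * ((β g : ℂ) * ((((β g)⁻¹ : ℂˣ) : ℂ) ^ (k + 1))) := by ring
      _ = _ := by
        rw [h7]
        push_cast
        ring
  have hγN : ∀ n ∈ N, γ n = 1 := by
    intro n hn
    rw [hγ, hβN n hn, inv_one, one_pow]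
  have hγ2 : ∀ g, γ g ^ (2 ^ a) = 1 := by
    intro g
    rw [hγ, ← pow_mul, mul_comm, ← hcard, inv_pow, ← map_pow, pow_card_eq_one', map_one, inv_one]
  -- the restriction to `P`
  have hn : (N.subgroupOf P).Normal := hN.subgroupOf _
  let e : N.subgroupOf P ≃* N := Subgroup.subgroupOfEquivOfLe hNP
  have hθ' : IsIrrCharacter (N.subgroupOf P) (fun x => θ ⟨(x : P), Subgroup.mem_subgroupOf.mp x.2⟩) :=
    isIrr_comp e.toMonoidHom e.surjective hθ
  obtain ⟨α, hαN, hα⟩ := CharactersDeep.ExtUnique.exists_hom_mul_of_restrict_eq (N.subgroupOf P)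
    (isIrr_isCharacter hη) (χ' := fun p : P => χ p) (isCharacter_comp P.subtype (isIrr_isCharacter hχ)) hθ'
    (fun n => hηN ⟨(n : P), Subgroup.mem_subgroupOf.mp n.2⟩)
    (fun n => hχN ⟨(n : P), Subgroup.mem_subgroupOf.mp n.2⟩)
  have hγP : ∀ p ∈ P, γ p = 1 := by
    intro p hp
    refine hom_eq_one (N.subgroupOf P) hη ?_ (γ.comp P.subtype) (fun n hn => hγN n (Subgroup.mem_subgroupOf.1 hn))
      ?_ ⟨p, hp⟩
    · have h3 : (fun n : N.subgroupOf P => η n) =
          fun x : N.subgroupOf P => θ ⟨(x : P), Subgroup.mem_subgroupOf.mp x.2⟩ := by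
        funext n
        exact hηN ⟨(n : P), Subgroup.mem_subgroupOf.mp n.2⟩
      rw [h3]
      exact hθ'
    · intro g
      show η g * (γ g : ℂ) = η g
      have h3 : χ g = η g * α g := hα g
      have h4 := hχγ g
      have h5 := hconjhom α g
      have h6 : (α g : ℂ) * α g = 1 := by
        rw [← Units.val_mul, ← map_mul, hαN (g * g) (Subgroup.mem_subgroupOf.2 (hsq g g.2)), Units.val_one]
      have h7 : conj (α g : ℂ) = α g := by
        calc conj (α g : ℂ) = (conj (α g : ℂ) * α g) * α g := by rw [mul_assoc, h6, mul_one]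
          _ = _ := by rw [h5, one_mul]
      rw [h3, map_mul, Complex.conj_eq_iff_im.2 (hηr g), h7] at h4
      have h8 : (α g : ℂ) ≠ 0 := (α g).ne_zero
      apply mul_right_cancel₀ h8
      rw [h4]
      ring
  -- `γ = 1`
  have hγ1 : ∀ g, γ g = 1 := by
    intro g
    have h3 : γ.ker.index ∣ P.index := Subgroup.index_dvd_of_le fun p hp => hγP p hp
    have h4 : γ g ^ P.index = 1 := by
      obtain ⟨c, hc⟩ := h3
      rw [hc, pow_mul, ← map_pow]
      have h5 : γ (g ^ γ.ker.index) = 1 := Subgroup.pow_index_mem γ.ker g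
      rw [h5, one_pow]
    have h5 : Nat.Coprime P.index (2 ^ a) := Nat.Coprime.pow_right _ hodd.coprime_two_right
    have h6 := Nat.dvd_gcd (orderOf_dvd_of_pow_eq_one h4) (orderOf_dvd_of_pow_eq_one (hγ2 g))
    rw [h5, Nat.dvd_one, orderOf_eq_one_iff] at h6
    exact h6
  refine ⟨χ, hχ, fun g => ?_, hχN⟩
  rw [← Complex.conj_eq_iff_im, hχγ g, hγ1, Units.val_one, mul_one]

end Cfsg.Agent.H893.FR
end

-- part: H893/FR/Prod
section
/-!
# Indicators of products; characters over an extendible real character (team SR, S4970, P3; helper893)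
-/

set_option autoImplicit false
set_option linter.unusedSectionVars false

universe u

namespace Cfsg.Agent.H893.FR

open Cfsg Cfsg.Agent.H955.FS
open Cfsg.Agent.Characters.Core
open scoped ComplexConjugate

variable {G : Type u} [Group G] [Finite G]

/-- **The indicator is multiplicative** on real irreducible characters with irreducible product. -/
theorem fsi_mul {α β : G → ℂ} (hα : IsIrrCharacter G α) (hβ : IsIrrCharacter G β)
    (hαβ : IsIrrCharacter G (α * β)) (hαr : ∀ g, (α g).im = 0) (hβr : ∀ g, (β g).im = 0) :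
    fsi α * fsi β * fsi (α * β) = 1 := by
  classical
  have := Fintype.ofFinite G
  have hr : ∀ g, conj ((α * β) g) = (α * β) g := by
    intro g
    show conj (α g * β g) = α g * β g
    rw [map_mul, Complex.conj_eq_iff_im.2 (hαr g), Complex.conj_eq_iff_im.2 (hβr g)]
  have h1 : IsIrrCharacter (G × G) (fun x => α x.1 * β x.2) := (S0188.result _).2 ⟨α, β, hα, hβ, rfl⟩
  have h2 : IsIrrCharacter ((G × G) × G) (fun x => (α x.1.1 * β x.1.2) * (α * β) x.2) :=
    (S0188.result _).2 ⟨_, _, h1, hαβ, rfl⟩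
  have h3 := Cfsg.Agent.H705.Indicator.indicator_restrict
    (f := (MonoidHom.prod (MonoidHom.prod (MonoidHom.id G) (MonoidHom.id G)) (MonoidHom.id G)))
    h2 (by
      rintro ⟨⟨a, b⟩, c⟩
      rw [← Complex.conj_eq_iff_im]
      show conj ((α a * β b) * (α * β) c) = (α a * β b) * (α * β) c
      rw [map_mul, hr, map_mul, Complex.conj_eq_iff_im.2 (hαr a), Complex.conj_eq_iff_im.2 (hβr b)])
    (ψ := fun _ => 1) isIrr_one (by
      rw [Finset.sum_const, nsmul_eq_mul, mul_one, Finset.card_univ, ← Nat.card_eq_fintype_card]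
      exact inv_mul_cancel₀ (by exact_mod_cast Nat.card_pos.ne')) (by
      have h4 := classInner_irr_self hαβ
      rw [classInner_def] at h4 ⊢
      refine Eq.trans ?_ h4
      congr 1
      refine Finset.sum_congr rfl fun g _ => ?_
      show (α g * β g) * (α g * β g) * conj 1 = (α * β) g * conj ((α * β) g)
      rw [hr, map_one, mul_one]
      rfl)
  rw [← fsi_outer α β, ← fsi_outer (fun x : G × G => α x.1 * β x.2) (α * β), fsi_eq_sum]
  exact h3

/-- **Characters over an extendible real character.** -/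
theorem ext_good (N : Subgroup G) [hN : N.Normal] {θ : N → ℂ} (hθ : IsIrrCharacter N θ)
    {χ₀ : G → ℂ} (hχ₀ : IsIrrCharacter G χ₀) (hr : ∀ g, (χ₀ g).im = 0) (hf : fsi χ₀ = 1)
    (hext : ∀ n : N, χ₀ n = θ n) {w : Prop} (hG : FSGood w (G ⧸ N)) [Fintype N] {χ : G → ℂ}
    (hχ : IsIrrCharacter G χ) (hover : classInner (fun n : N => χ n) θ ≠ 0) : fsi χ = 1 ∨ (w ∧ fsi χ = 0) := by
  classical
  have := Fintype.ofFinite G
  have e0 : (fun n : N => χ₀ n) = θ := funext hext
  have hinv : ∀ (g : G) (n : N), θ ⟨g * n * g⁻¹, hN.conj_mem (n : G) n.2 g⟩ = θ n := by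
    intro g n
    rw [← hext, ← hext]
    exact isIrr_isClassFunction hχ₀ n g
  have hone : ((fun _ => 1) * θ : N → ℂ) = θ := by
    funext k; simp
  have key := S0856.result N (fun _ => 1) θ isIrr_one hθ (fun g n => rfl) hinv (by rw [hone]; exact hθ) χ₀ hχ₀ hext
  -- membership on the side of the quotient
  have hmem : ∀ β : G → ℂ, IsIrrCharacter G β → (∀ n : N, β n = β 1) →
      β ∈ {β : G → ℂ | IsIrrCharacter G β ∧ classInner (indFun N (fun _ => 1)) β ≠ 0} := by
    intro β hβ hβN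
    refine ⟨hβ, ?_⟩
    rw [Cfsg.Agent.CharactersDeep.NormalInd.classInner_indFun N (fun _ => 1) _ (isIrr_isClassFunction hβ)]
    have h1 : (fun k : N => β (k : G)) = β 1 • (fun _ => 1 : N → ℂ) := by
      funext k
      simp [hβN]
    rw [h1, classInner_smul_right]
    have h2 : classInner (fun _ => 1 : N → ℂ) (fun _ => 1 : N → ℂ) = 1 := classInner_irr_self isIrr_one
    rw [h2, mul_one, Ne, map_eq_zero]
    exact isIrr_apply_one_ne_zero hβ
  -- `χ = β χ₀`
  obtain ⟨β, ⟨hβ, hβ1⟩, hβχ⟩ := key.surjOn (show χ ∈ _ from ⟨hχ, by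
    rw [hone, Cfsg.Agent.CharactersDeep.NormalInd.classInner_indFun N θ _ (isIrr_isClassFunction hχ)]
    intro h
    apply hover
    have h5 := classInner_conj_symm θ (fun n : N => χ n)
    rw [h, map_zero] at h5
    exact h5.symm⟩)
  have hβχ' : β * χ₀ = χ := hβχ
  -- `β` is inflated
  obtain ⟨β', hβ'⟩ := Cfsg.Agent.Blocks.Deflate.exists_deflation N β hβ (by
    rw [Cfsg.Agent.CharactersDeep.NormalInd.classInner_indFun N (fun _ => 1) _ (isIrr_isClassFunction hβ),
      classInner_def] at hβ1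
    intro h
    apply hβ1
    have h6 : ∑ n : N, (1 : ℂ) * conj (β n) = conj (∑ n : N, β n) := by
      rw [map_sum]
      exact Finset.sum_congr rfl fun n _ => one_mul _
    rw [h6, h, map_zero, mul_zero])
  have hβN : ∀ n : N, β n = β 1 := by
    intro n
    rw [hβ']
    show (β' : G ⧸ N → ℂ) ((n : G) : G ⧸ N) = (β' : G ⧸ N → ℂ) ((1 : G) : G ⧸ N)
    rw [(QuotientGroup.eq_one_iff (n : G)).2 n.2]
    rfl
  have hfβ : fsi β = fsi (β' : G ⧸ N → ℂ) := by
    rw [hβ']
    exact fsi_comp (QuotientGroup.mk' N) (QuotientGroup.mk'_surjective N) _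
  rcases hG _ β'.2 with h1 | h1
  · left
    rw [← hfβ] at h1
    have h2 := fsi_mul hβ hχ₀ (by rw [hβχ']; exact hχ) (real_of_fsi_ne_zero hβ (by rw [h1]; exact one_ne_zero)) hr
    rw [h1, hf, one_mul, one_mul, hβχ'] at h2
    exact h2
  · right
    refine ⟨h1.1, ?_⟩
    rw [← hfβ] at h1
    rcases fsi_spec hχ with h2 | h2
    · exact h2.1
    · exfalso
      -- `conj β = β`
      have h3 : IsIrrCharacter G (fun g => conj (β g)) := isIrr_conj hβ
      have h4 : (fun g => conj (β g)) = β := by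
        refine key.injOn (hmem _ h3 (fun n => by
          show conj (β n) = conj (β 1)
          rw [hβN])) (hmem _ hβ hβN) ?_
        funext g
        show conj (β g) * χ₀ g = β g * χ₀ g
        have h5 : β g * χ₀ g = χ g := congrFun hβχ' g
        have h6 : conj (β g * χ₀ g) = β g * χ₀ g := by rw [h5, Complex.conj_eq_iff_im.2 (h2.2 g)]
        rw [map_mul, Complex.conj_eq_iff_im.2 (hr g)] at h6
        exact h6
      exact fsi_ne_zero_of_real hβ (fun g => Complex.conj_eq_iff_im.1 (congrFun h4 g)) h1.2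

end Cfsg.Agent.H893.FR
end

-- part: H893/FR/LongTwoFin
section
/-!
# Long root parabolic of `³D₄(q)`, `q` even, characters non-trivial on the centre: no indicator is `-1`
(team SR, S4970, P3; helper893)
-/

set_option autoImplicit false
set_option linter.unusedSectionVars false

universe u v

namespace Cfsg.Agent.H893.FR

open Cfsg Cfsg.Agent.H955.FS
open Cfsg.Agent.Characters.Core
open Cfsg.Agent.StdRank2.Hex Cfsg.Agent.StdRank2.Hex.HexTwo Cfsg.Agent.SplitTwo
open scoped ComplexConjugate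

/-- the central sign character -/
theorem central_sign {G : Type u} [Group G] [Finite G] (Z : Subgroup G) (hZ : ∀ z ∈ Z, ∀ g, g * z = z * g)
    (hsq : ∀ z ∈ Z, z * z = 1) {χ : G → ℂ} (hχ : IsIrrCharacter G χ) :
    ∃ lam : Z → ℂ, (∀ a b : Z, lam (a * b) = lam a * lam b) ∧ (∀ a, lam a = 1 ∨ lam a = -1) ∧
      ∀ a : Z, χ a = lam a * χ 1 := by
  classical
  have := Fintype.ofFinite G
  have := Fintype.ofFinite Z
  obtain ⟨lam, hmul, hpm, -, hsum⟩ := exists_linear Z ⊥ bot_le (fun a ha => by rw [hsq a ha]; exact one_mem _) hχ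
    (fun z hz => by rw [Subgroup.mem_bot.1 hz])
  refine ⟨lam, hmul, hpm, fun a => ?_⟩
  have hconj : ∀ a, conj (lam a) = lam a := by
    intro a
    rcases hpm a with h | h <;> rw [h] <;> simp
  have h1 := act_lin Z.subtype (fun _ a => a) (fun t a => by
      show (a : G) = t * a * t⁻¹
      rw [hZ a a.2 t, mul_inv_cancel_right]) Z.subtype_injective lam hmul (fun a => by
      rw [hconj]
      rcases hpm a with h | h <;> rw [h] <;> norm_num) (fun _ _ => rfl) hχ (by
      rw [classInner_def]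
      refine mul_ne_zero (inv_ne_zero card_ne_zero_complex) ?_
      rw [finsum_eq_sum_of_fintype] at hsum
      intro h
      apply hsum
      rw [← h]
      refine Finset.sum_congr rfl fun a _ => ?_
      rw [hconj]
      rfl) a 1
  rw [mul_one] at h1
  exact h1

variable {E : Type u} [Field E] {σ : E ≃+* E} {Γ : Type v} [Group Γ] {x : ZMod 12 → E → Γ} (h : HexTwo σ x)
include h

/-- **LONG (ii).** -/
theorem long_two [Finite E] [Finite Γ] {χ : ↥(gen σ x (arc 1 7)) → ℂ} (hχ : IsIrrCharacter _ χ)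
    (hne : ∃ z : ↥(gen σ x (arc 1 7)), (z : Γ) ∈ gen σ x {4} ∧ χ z ≠ χ 1) : fsi χ = 1 ∨ fsi χ = 0 := by
  classical
  have z0 : σ (0 : E) = 0 := map_zero σ
  have := Fintype.ofFinite ↥(gen σ x (arc 1 7))
  have hN := long_normal h
  have := Fintype.ofFinite ↥((gen σ x (arc 2 5)).subgroupOf (gen σ x (arc 1 7)))
  -- the centre
  have hZX : gen σ x ({4} : Set (ZMod 12)) ≤ gen σ x (arc 1 7) := by
    refine gen_mono ?_
    intro l hl
    rw [Set.mem_singleton_iff] at hl
    subst hl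
    rw [mem_arc]; decide
  have hcen : ∀ z ∈ (gen σ x {4}).subgroupOf (gen σ x (arc 1 7)), ∀ g, g * z = z * g := by
    intro z hz g
    obtain ⟨t, ht, e⟩ := h.mem_gen_singleton.1 (Subgroup.mem_subgroupOf.1 hz)
    apply Subtype.ext
    have e1 : (4 : ZMod 12) - 3 = 1 := by decide
    have h1 := h.comm_gen_long (k := 4) (by decide) ht (g := (g : Γ)) (by rw [e1]; exact g.2)
    show (g : Γ) * z = z * g
    rw [e]
    exact h1.symm
  have hsq : ∀ z ∈ (gen σ x {4}).subgroupOf (gen σ x (arc 1 7)), z * z = 1 := by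
    intro z hz
    obtain ⟨t, ht, e⟩ := h.mem_gen_singleton.1 (Subgroup.mem_subgroupOf.1 hz)
    apply Subtype.ext
    show (z : Γ) * z = 1
    rw [e]
    exact h.x_sq ht
  obtain ⟨lam, hmul, hpm, hlam⟩ := central_sign _ hcen hsq hχ
  obtain ⟨mu, hmu⟩ : ∃ mu : Γ → ℂ, ∀ z : (gen σ x {4}).subgroupOf (gen σ x (arc 1 7)),
      mu ((z : ↥(gen σ x (arc 1 7))) : Γ) = lam z :=
    ⟨fun g => if hg : g ∈ gen σ x {4} then lam ⟨⟨g, hZX hg⟩, Subgroup.mem_subgroupOf.2 hg⟩ else 1, fun z => by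
      simp only
      rw [dif_pos (Subgroup.mem_subgroupOf.1 z.2)]⟩
  have hmu' : ∀ g (hg : g ∈ gen σ x {4}), mu g = lam ⟨⟨g, hZX hg⟩, Subgroup.mem_subgroupOf.2 hg⟩ := fun g hg =>
    hmu ⟨⟨g, hZX hg⟩, Subgroup.mem_subgroupOf.2 hg⟩
  have hH := hei_long h (mu := mu) (fun a ha b hb => by
      rw [hmu' _ (mul_mem ha hb), hmu' a ha, hmu' b hb, ← hmul]
      rfl) (fun a ha => by
      rw [hmu' a ha]
      exact hpm _) (by
      obtain ⟨z, hz, hne⟩ := hne
      obtain ⟨t, ht, e⟩ := h.mem_gen_singleton.1 hz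
      refine ⟨t, ht (by decide), fun h1 => hne ?_⟩
      rw [← e, hmu' _ hz] at h1
      have h2 := hlam ⟨z, Subgroup.mem_subgroupOf.2 hz⟩
      rw [h2]
      have h3 : lam ⟨z, Subgroup.mem_subgroupOf.2 hz⟩ = 1 := h1
      rw [h3, one_mul])
  have hlamZ : ∀ z ∈ (gen σ x {4}).subgroupOf (gen σ x (arc 1 7)), lamA σ x mu (z : Γ) * χ 1 = χ z := by
    intro z hz
    obtain ⟨t, ht, e⟩ := h.mem_gen_singleton.1 (Subgroup.mem_subgroupOf.1 hz)
    have e1 : (z : Γ) = uu x 0 0 0 t 0 0 := by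
      rw [e, uu, q]
      simp [h.x_zero]
    rw [hlam ⟨z, hz⟩, e1, lamA_uu h mu z0 (ht (by decide)), ← e, hmu ⟨z, hz⟩]
  obtain ⟨θ, η, hθ, hθf, hη, hηr, hηN, -, hinv, hover⟩ := hH.exists_theta
  obtain ⟨χ₀, hχ₀, hr, hext⟩ := ext_real _ _ hH.NP (by
      have h1 : IsPGroup 2 ↥(gen σ x (arc 2 5)) := h.isPGroup_U.to_le (gen_mono (arc_succ_sub (k := 1) (n := 5) (by norm_num)))
      exact h1.of_equiv (Subgroup.subgroupOfEquivOfLe (gen_mono ((arc_succ_sub (k := 1) (n := 5) (by norm_num)).trans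
        (arc_mono (by norm_num))))).symm) (long_index h) (by
      intro p hp
      exact Subgroup.mem_subgroupOf.2 (long_sq h (Subgroup.mem_subgroupOf.1 hp))) hθ hinv hη hηr hηN
  have hf : fsi χ₀ = 1 := by
    have h1 := Cfsg.Agent.H705.Indicator.indicator_restrict
      (f := ((gen σ x (arc 2 5)).subgroupOf (gen σ x (arc 1 7))).subtype) hχ₀ hr hθ (by
        rw [← fsi_eq_sum]
        exact hθf) (by
        have h2 : (fun n : ↥((gen σ x (arc 2 5)).subgroupOf (gen σ x (arc 1 7))) => χ₀ n) = θ := funext hext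
        show classInner (fun n : ↥((gen σ x (arc 2 5)).subgroupOf (gen σ x (arc 1 7))) => χ₀ n) θ = 1
        rw [h2]
        exact classInner_irr_self hθ)
    rw [fsi_eq_sum]
    exact h1
  rcases ext_good _ hθ hχ₀ hr hf hext (long_quo h) hχ (hover _ _ (isIrr_apply_one_ne_zero hχ) (fun z hz => by
    show χ z = lamA σ x mu (z : Γ) * χ 1
    exact (hlamZ z hz).symm)) with h1 | h1
  · exact Or.inl h1
  · exact Or.inr h1.2

end Cfsg.Agent.H893.FR
end

private theorem dce_bd66fdb1325f : _root_.True := by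
  try have : _root_.True := by simp only [_root_.Cfsg.Agent.StdRank2.Hex.HexTwo.uu.eq_1]
  exact _root_.True.intro
end
end
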